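import Cfsg.Agent.L4S.Bc
import Cfsg.Agent.PLocal.SylowIn

/-! The conjugates of `K = C(A)` meeting `M = N(A)`. -/

set_option autoImplicit false

namespace Cfsg.Agent.L4S

open Subgroup PLocal

variable {G : Type*} [Group G] {A A' : Subgroup G} {ψ ψ' : U →* G} {α α' : G → B} {ν ν' : G → Bool × Bool}
  {h n1 n2 h' n1' n2' k m : G} {c : F}

/-- two different conjugates of `A` -/
structure Lk (A A' : Subgroup G) : Prop where
  kk : ∀ t ∈ centralizer (A : Set G), t ∈ centralizer (A' : Set G) → t * t = 1 → t = 1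
  da : ∀ a ∈ A, a ∈ centralizer (A' : Set G) → a * a = 1 → a = 1
  ad : ∀ a ∈ A', a ∈ centralizer (A : Set G) → a * a = 1 → a = 1

theorem Lk.symm (L : Lk A A') : Lk A' A := ⟨fun t a b => L.kk t b a, L.ad, L.da⟩

theorem Lk.two (L : Lk A A') (h1 : m ∈ centralizer (A : Set G)) (h2 : m ∈ centralizer (A' : Set G)) {n : ℕ}
    (e : m ^ 2 ^ n = 1) : m = 1 :=
  eq_one_of_two (S := centralizer (A : Set G) ⊓ centralizer (A' : Set G)) (fun t ht => L.kk t ht.1 ht.2) ⟨h1, h2⟩ e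

theorem Lk.psi (L : Lk A A') (H : Cfg A ψ α ν h n1 n2) {u : U} (m : ψ u ∈ centralizer (A' : Set G)) : u = 1 :=
  H.inj ((eq_one_of_two (S := A ⊓ centralizer (A' : Set G)) (fun t ht => L.da t ht.1 ht.2) ⟨H.mem u, m⟩
    (psi4 u)).trans (map_one ψ).symm)

/-- `U' ≤ U K'` -/
def Cov (A' : Subgroup G) (ψ' ψ : U →* G) : Prop := ∀ v, ∃ u, (ψ' v)⁻¹ * ψ u ∈ centralizer (A' : Set G)

theorem Cfg.cover (H : Cfg A' ψ' α' ν' h' n1' n2') (hN : ∀ u, ψ u ∈ normalizer (A' : Set G))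
    (hK : ∀ u, ψ u ∈ centralizer (A' : Set G) → u = 1) : ∃ a ∈ A', ∃ ψ₂ α₂ ν₂ h₂ m1 m2,
      (∀ u, ψ₂ u = a * ψ' u * a⁻¹) ∧ Cfg A' ψ₂ α₂ ν₂ h₂ m1 m2 ∧ Cov A' ψ₂ ψ := by
  obtain ⟨a, ha, ψ₂, α₂, ν₂, h₂, m1, m2, e, H₂, N⟩ := H.adapt (pg_range ψ) (by rintro _ ⟨u, rfl⟩; exact hN u)
  refine ⟨a, ha, ψ₂, α₂, ν₂, h₂, m1, m2, e, H₂, fun v => ?_⟩
  have N u := N ⟨u, rfl⟩
  have R (m : F × F → U) (ma : ∀ p q, m (p + q) = m p * m q) (mi : ∀ p, m p = 1 → p = 0) p :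
      ∃ v, α₂ (ψ (m p)) = B.inl v :=
    (B.rank4 (φ := fun p => α₂ (ψ (m p))) (fun p q => by rw [← H₂.amul _ (N _) _ (N _), ← map_mul, ma])
      fun p e => mi p (hK _ ((H₂.aker _ (N _)).1 e))).elim (fun k => let ⟨_, _, e⟩ := k.1 p; ⟨_, e⟩)
      fun k => let ⟨_, _, e⟩ := k.1 p; ⟨_, e⟩
  have k u : ∃ v, α₂ (ψ u) = B.inl v := by
    obtain ⟨v, e⟩ := R (fun p => ⟨p.1, 0, p.2⟩) (by decide +kernel) (by decide +kernel) (u.x, 0)
    obtain ⟨w, e'⟩ := R (fun p => ⟨0, p.1, p.2⟩) (by decide +kernel) (by decide +kernel) (u.y, u.z + u.x * u.y)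
    exact ⟨v * w, by rw [U.split u, map_mul, H₂.amul _ (N _) _ (N _), e, e', map_mul]⟩
  choose f hf using k
  obtain ⟨u, rfl⟩ := Finite.surjective_of_injective (f := f) (fun u w e => (inv_mul_eq_one.1 (hK _ (by
    rw [map_mul, map_inv]; exact H₂.of_aeq (N _) (N _) (by rw [hf, hf, e])))).symm) v
  exact ⟨u, H₂.of_aeq (N _) (H₂.psiN _) (by rw [hf, H₂.apsi])⟩

theorem Cov.comm (C : Cov A' ψ' ψ) (H : Cfg A' ψ' α' ν' h' n1' n2') (hm : m ∈ normalizer (A' : Set G))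
    (c : ∀ u, Commute m (ψ u)) (v : U) : Commute m (ψ' v) :=
  let ⟨u, e⟩ := C v; comm_of_coset (fun _ => H.cKA) hm (H.mem v) e (c u)

theorem Cfg.cov_pow (H : Cfg A' ψ' α' ν' h' n1' n2') {u v : U} (e : (ψ' v)⁻¹ * ψ u ∈ centralizer (A' : Set G)) :
    Commute (ψ' v)⁻¹ (ψ u) ∧ ((ψ' v)⁻¹ * ψ u) ^ 2 ^ 2 = 1 := by
  have c : Commute (ψ' v)⁻¹ (ψ u) := by simpa using ((Commute.refl (ψ' v)).mul_right (H.zK e v).symm).inv_left
  exact ⟨c, by rw [c.mul_pow, inv_pow, psi4, psi4, inv_one, one_mul]⟩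

section

variable (H : Cfg A ψ α ν h n1 n2) (H' : Cfg A' ψ' α' ν' h' n1' n2') (L : Lk A A')
  (hk : k ∈ centralizer (A : Set G)) (k2 : k * k = 1) (c0 : c ≠ 0) (hd : k * ψ ⟨0, 0, c⟩ ∈ centralizer (A' : Set G))
include H H' hk k2 c0 hd

theorem nor_of_k {x : G} (h1 : Commute x k) (h2 : Commute x (ψ ⟨0, 0, c⟩)) : x ∈ normalizer (A' : Set G) :=
  H'.nor_of_comm hd (by rw [mul4 (H.zK hk _), k2, ← map_mul, U.zsq, map_one, one_mul])
    (fun e => U.zne c c0 (H.memK (eq_inv_of_mul_eq_one_right e ▸ inv_mem hk))) (h1.mul_right h2)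

include L

theorem cover_of_k : ∃ a ∈ A', ∃ ψ₂ α₂ ν₂ h₂ m1 m2,
    (∀ u, ψ₂ u = a * ψ' u * a⁻¹) ∧ Cfg A' ψ₂ α₂ ν₂ h₂ m1 m2 ∧ Cov A' ψ₂ ψ :=
  H'.cover (fun u => nor_of_k H H' hk k2 c0 hd (H.zK hk u).symm ((U.zc u c).map ψ)) fun _ => L.psi H

omit L in
theorem Cov.cen (C : Cov A' ψ' ψ) (hm : m ∈ centralizer (A : Set G)) (cm : Commute m k) :
    (∀ v, Commute m (ψ' v)) ∧ ∃ e, (ψ' ⟨0, 0, e⟩)⁻¹ * m ∈ centralizer (A' : Set G) :=
  have n := nor_of_k H H' hk k2 c0 hd cm (H.zK hm _)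
  ⟨C.comm H' n (H.zK hm), H'.cenU n (C.comm H' n (H.zK hm))⟩

theorem sq_one (hm : m ∈ centralizer (A : Set G)) (cm : Commute m k) {n : ℕ} (e : m ^ 2 ^ n = 1) : m * m = 1 := by
  obtain ⟨-, -, ψ₂, _, _, _, _, _, -, H₂, C⟩ := cover_of_k H H' L hk k2 c0 hd
  obtain ⟨c1, e, c2⟩ := C.cen H H₂ hk k2 c0 hd hm cm
  have := mul_mem c2 c2
  rw [mul4 (c1 _).inv_right.symm, ← mul_inv_rev, ← map_mul, U.zsq, map_one, inv_one, one_mul] at this
  exact L.two (mul_mem hm hm) this (n := n) (by rw [(Commute.refl m).mul_pow, ‹m ^ _ = 1›, one_mul])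

theorem Cov.zz (C : Cov A' ψ' ψ) (d : F) : ∃ e, ψ ⟨0, 0, e⟩ = ψ' ⟨0, 0, d⟩ := by
  obtain ⟨c1, e, c2⟩ := C.cen H H' hk k2 c0 hd hk (Commute.refl k)
  obtain ⟨u, c3⟩ := C ⟨1, d, 0⟩
  obtain ⟨c4, c5⟩ := H'.cov_pow c3
  have := sq_one H' H L.symm c2 (c := e) (by
      rw [mul4 (c1 _).inv_right.symm, k2, ← mul_inv_rev, ← map_mul, U.zsq, map_one, inv_one, one_mul]) (fun e0 => by
      rw [e0, show (⟨0, 0, 0⟩ : U) = 1 from rfl, map_one, inv_one, one_mul] at c2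
      exact U.zne c c0 (L.psi H ((mul_mem_cancel_left c2).1 hd)))
    (by rwa [(H'.zK c2 _).eq, mul_inv_cancel_left]) c3
    ((H'.zK c3 _).inv_right.mul_right ((c1 _).inv_right.mul_right (H.zK hk u)).symm) c5
  obtain ⟨z, e⟩ := U.sqz u
  rw [mul4 c4, ← mul_inv_rev, inv_mul_eq_one, ← map_mul, ← map_mul, e] at this
  exact ⟨z, by rw [← this]; simp [U.mul_def]⟩

theorem key (hm : m ∈ centralizer (A : Set G)) (cm : Commute m k) :
    ∃ e, m * ψ ⟨0, 0, e⟩ ∈ centralizer (A' : Set G) := by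
  obtain ⟨-, -, ψ₂, _, _, _, _, _, -, H₂, C⟩ := cover_of_k H H' L hk k2 c0 hd
  obtain ⟨c1, e, c2⟩ := C.cen H H₂ hk k2 c0 hd hm cm
  obtain ⟨d, e⟩ := C.zz H H₂ L hk k2 c0 hd e
  rw [← e, ← map_inv, ← (H.zK hm _).eq] at c2
  exact ⟨_, c2⟩

end

theorem Cfg.exists_st1 [Finite G] [IsSimpleGroup G] (hA : IsStandardSubgroup A) (H : Cfg A ψ α ν h n1 n2) :
    ∃ b r g, St1 A ψ α ν h n1 n2 b r g := by
  classical
  have := Fact.mk Nat.prime_two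
  have z2 c : ψ ⟨0, 0, c⟩ * ψ ⟨0, 0, c⟩ = 1 := by rw [← map_mul, U.zsq, map_one]
  obtain ⟨d, d1, d2, d3⟩ := H.step0 hA
  obtain ⟨d, d1, d2, d3, d4⟩ := H.step1 d1 d2 d3
  obtain ⟨a, ha, hk, c⟩ := H.inner d2 d3 d1.1 d4
  replace d1 := d1.cj a
  generalize a * d * a⁻¹ = d at hk c d1
  have k2 : d * ψ ⟨0, 0, 1⟩ * (d * ψ ⟨0, 0, 1⟩) = 1 := by rw [mul4 c, d1.1, z2, one_mul]
  rw [← mul_one d, ← z2 1, ← mul_assoc] at d1
  generalize d * ψ ⟨0, 0, 1⟩ = k at hk k2 d1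
  obtain ⟨-, -, g, hd⟩ := id d1
  obtain ⟨g, rfl⟩ := inv_surjective g
  rw [inv_inv, ← cen_cj] at hd
  have hg {y} (e : cj y A = cj g A) (m : y ∈ normalizer (A : Set G)) : False := by
    rw [← e, cj_eq m, mul_mem_cancel_left hk] at hd
    exact absurd (H.memK hd) (by decide)
  have L : Lk A (cj g A) := ⟨fun t => H.kk (hg rfl), fun a ha m a2 => by_contra fun n =>
    H.step2 ha (isD_cj.1 (isD_of_mem a2 n m)), fun a ha m a2 => by_contra fun n =>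
    (H.conj g).step2 ha (isD_cj.2 (isD_of_mem a2 n m))⟩
  obtain ⟨R, hR, kR⟩ := exists_isSylowIn_ge (pg_zpowers (n := 1) (by rw [pow_one, sq, k2])) (zpowers_le.2 hk)
  replace kR := zpowers_le.1 kR
  have uq {m c d} (h1 : m * ψ ⟨0, 0, c⟩ ∈ centralizer (cj g A : Set G))
      (h2 : m * ψ ⟨0, 0, d⟩ ∈ centralizer (cj g A : Set G)) : c = d := by
    have := mul_mem (inv_mem h1) h2
    rw [mul_inv_rev, mul_assoc, inv_mul_cancel_left, ← map_inv, ← map_mul] at this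
    exact congrArg U.z (inv_mul_eq_one.1 (L.psi H this))
  have uq' {m m' c} (hm : m ∈ R) (hm' : m' ∈ R) (h1 : m * ψ ⟨0, 0, c⟩ ∈ centralizer (cj g A : Set G))
      (h2 : m' * ψ ⟨0, 0, c⟩ ∈ centralizer (cj g A : Set G)) : m = m' := by
    have := mul_mem h1 (inv_mem h2)
    rw [mul_inv_rev, mul_assoc, mul_inv_cancel_left] at this
    obtain ⟨n, e⟩ := hR.isPGroup ⟨_, mul_mem hm (inv_mem hm')⟩
    exact mul_inv_eq_one.1 (L.two (hR.le (mul_mem hm (inv_mem hm'))) this (congrArg Subtype.val e))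
  have ad {m m' c d} (hm' : m' ∈ centralizer (A : Set G)) (h1 : m * ψ ⟨0, 0, c⟩ ∈ centralizer (cj g A : Set G))
      (h2 : m' * ψ ⟨0, 0, d⟩ ∈ centralizer (cj g A : Set G)) :
      m * m' * ψ ⟨0, 0, c + d⟩ ∈ centralizer (cj g A : Set G) := by
    rw [U.zadd, map_mul, ← mul4 (H.zK hm' _)]; exact mul_mem h1 h2
  have z0 : ψ ⟨0, 0, 0⟩ = 1 := map_one ψ
  have all : ∀ m ∈ R, ∃ c, m * ψ ⟨0, 0, c⟩ ∈ centralizer (cj g A : Set G) := by
    have : Nontrivial R := ⟨⟨k, kR⟩, 1, fun e => H.step2 (H.mem _) (by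
      rwa [show k = 1 from congrArg Subtype.val e, one_mul] at d1)⟩
    obtain ⟨x, x1⟩ := @exists_ne _ hR.isPGroup.center_nontrivial 1
    obtain ⟨n, e⟩ := hR.isPGroup x.1
    obtain ⟨t, ht, t2, t1⟩ : ∃ t ∈ center R, t * t = 1 ∧ t ≠ 1 := by
      by_contra k
      push Not at k
      exact x1 (Subtype.ext (eq_one_of_two k x.2 e))
    have cm m (hm : m ∈ R) : Commute m t := congrArg Subtype.val (mem_center_iff.1 ht ⟨m, hm⟩)
    have t2 : (t : G) * t = 1 := congrArg Subtype.val t2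
    obtain ⟨e, he⟩ := key H (H.conj g) L hk k2 one_ne_zero hd (hR.le t.2) (cm k kR).symm
    exact fun m hm => key H (H.conj g) L (hR.le t.2) t2 (fun e0 => t1 (Subtype.ext (L.kk _ (hR.le t.2)
      (by rwa [e0, z0, mul_one] at he) t2))) he (hR.le hm) (cm m hm)
  obtain ⟨b, hb⟩ : ∃ b, ∀ p, Sp b p ↔ ∃ m ∈ R, m * ψ ⟨0, 0, p⟩ ∈ centralizer (cj g A : Set G) := by
    have a0 : ∃ m ∈ R, m * ψ ⟨0, 0, 0⟩ ∈ centralizer (cj g A : Set G) := ⟨1, one_mem _, by simp [z0]⟩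
    have a1 {p} : (∃ m ∈ R, m * ψ ⟨0, 0, p⟩ ∈ centralizer (cj g A : Set G)) →
        ∃ m ∈ R, m * ψ ⟨0, 0, p + 1⟩ ∈ centralizer (cj g A : Set G) :=
      fun ⟨m, hm, e⟩ => ⟨_, mul_mem hm kR, ad hk e hd⟩
    by_cases c : ∃ m ∈ R, m * ψ ⟨0, 0, F.w⟩ ∈ centralizer (cj g A : Set G)
    · exact ⟨true, fun p => iff_of_true (Or.inl rfl) (by cases p; exacts [a0, a1 a0, c, a1 c])⟩
    · exact ⟨false, fun p => by
        cases p
        exacts [iff_of_true sp_zero a0, iff_of_true sp_one (a1 a0), iff_of_false (by decide) c,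
          iff_of_false (by decide) fun e => c (a1 e)]⟩
  choose! r r1 r2 using fun p => (hb p).1
  have ex {m} (hm : m ∈ R) : ∃ p, Sp b p ∧ m = r p :=
    let ⟨p, e⟩ := all m hm; ⟨p, (hb p).2 ⟨m, hm, e⟩, uq' hm (r1 p ((hb p).2 ⟨m, hm, e⟩)) e (r2 p ((hb p).2 ⟨m, hm, e⟩))⟩
  have rK p (hp : Sp b p) := hR.le (r1 p hp)
  have radd p q (hp : Sp b p) (hq : Sp b q) : r (p + q) = r p * r q :=
    uq' (r1 _ (hp.add hq)) (mul_mem (r1 p hp) (r1 q hq)) (r2 _ (hp.add hq)) (ad (rK q hq) (r2 p hp) (r2 q hq))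
  have r0 : r 0 = 1 := by simpa using radd 0 0 sp_zero sp_zero
  have rsq p (hp : Sp b p) : r p * r p = 1 := by rw [← radd p p hp hp, F.add_self, r0]
  have rne p (hp : Sp b p) (p0 : p ≠ 0) : r p ≠ 1 := fun e =>
    U.zne p p0 (L.psi H (by simpa [e] using r2 p hp))
  have rcen k (hk : k ∈ centralizer (A : Set G)) (e : ∃ n, k ^ 2 ^ n = 1) (c : ∀ p, Sp b p → Commute k (r p)) :
      ∃ p, Sp b p ∧ k = r p :=
    ex (hR.le_of_normal (pg_zpowers e.choose_spec) (zpowers_le.2 hk) (fun m hm => cen_le_nor (by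
      obtain ⟨p, hp, rfl⟩ := ex hm
      exact mem_cen.2 (by rintro _ ⟨i, rfl⟩; exact (c p hp).symm.zpow_right i))) (mem_zpowers k))
  have rsyl (P : Subgroup G) (hP : IsPGroup 2 P) (le : P ≤ centralizer (A : Set G)) :
      ∃ k ∈ centralizer (A : Set G), ∀ x ∈ P, ∃ p, Sp b p ∧ k * x * k⁻¹ = r p :=
    let ⟨k, hk, e⟩ := hR.exists_conj_le hP le; ⟨k, hk, fun x hx => ex (e ⟨x, hx, rfl⟩)⟩
  obtain ⟨a, ha, ψ₂, _, _, _, _, _, e₂, H₂, C⟩ := cover_of_k H (H.conj g) L hk k2 one_ne_zero hd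
  obtain ⟨l, hl, el⟩ := rsyl (cj (a * g)⁻¹ ((R ⊔ ψ.range) ⊓ centralizer (cj g A : Set G)))
    ((pg_sup hR.isPGroup hR.le H.mem).to_inf_left.map _) (by
      rintro _ ⟨x, hx, rfl⟩
      simpa [mul_assoc] using cen_cj.1 (nor_cjK (le_normalizer (inv_mem ha)) hx.2))
  have eA : cj (a * g * l⁻¹) A = cj g A := by
    rw [cj, map_conj_mul, map_conj_mul, ← cj, ← cj, ← cj, cj_eq (cen_le_nor (inv_mem hl)), cj_eq (le_normalizer ha)]
  have eψ u : ψ₂ u = a * g * l⁻¹ * ψ u * (a * g * l⁻¹)⁻¹ := by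
    rw [cj_mul, cj_of_comm (H.zK (inv_mem hl) u), cj_mul, e₂]; rfl
  have gr p (hp : Sp b p) : ∃ q, Sp b q ∧ a * g * l⁻¹ * r q * (a * g * l⁻¹)⁻¹ = r p * ψ ⟨0, 0, p⟩ := by
    obtain ⟨q, hq, e⟩ := el _ ⟨_, ⟨mul_mem (mem_sup_left (r1 p hp)) (mem_sup_right ⟨_, rfl⟩), r2 p hp⟩, rfl⟩
    exact ⟨q, hq, by rw [← e]; simp [mul_assoc]⟩
  generalize a * g * l⁻¹ = y at eA eψ gr
  have gr' q (hq : Sp b q) : ∃ p, Sp b p ∧ y * r q * y⁻¹ = r p * ψ ⟨0, 0, p⟩ := by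
    choose f f1 f2 using gr
    obtain ⟨p, e⟩ := Finite.surjective_of_injective (f := fun p : {p // Sp b p} => (⟨f p p.2, f1 p p.2⟩ : {p // Sp b p}))
      (fun p p' e => Subtype.ext (by
        have e1 := (f2 p p.2).symm.trans ((congrArg (y * r · * y⁻¹) (congrArg Subtype.val e)).trans (f2 p' p'.2))
        have := mul_mem (inv_mem (rK _ p.2)) (rK _ p'.2)
        rw [show (r p)⁻¹ * r p' = ψ (⟨0, 0, p⟩ * (⟨0, 0, p'⟩ : U)⁻¹) by
          rw [map_mul, map_inv, eq_mul_inv_iff_mul_eq, mul_assoc, ← e1, inv_mul_cancel_left]] at this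
        exact congrArg U.z (mul_inv_eq_one.1 (H.memK this)))) ⟨q, hq⟩
    exact ⟨p, p.2, by rw [← f2 p p.2, show f p p.2 = q from congrArg Subtype.val e]⟩
  have iv v (v2 : v * v = 1) : ψ₂ v ∈ ψ.range := by
    obtain ⟨u, e⟩ := C v
    obtain ⟨p, hp, e1⟩ := rcen (y⁻¹ * ((ψ₂ v)⁻¹ * ψ u) * y) (cen_cj.1 (eA ▸ e))
      ⟨2, by nth_rw 2 [← inv_inv y]; rw [conj_pow, (H₂.cov_pow e).2]; simp⟩ fun q hq => by
        obtain ⟨p, hp, e1⟩ := gr' q hq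
        exact (comm_cj' (e1 ▸ (H₂.zK (r2 p hp) v).inv_right.mul_right
          ((H.zK (rK p hp) u).mul_left ((U.zc u p).symm.map ψ)))).symm
    obtain ⟨q, hq, e2⟩ := gr' p hp
    have e3 : ψ₂ v = r q * ψ (u * (⟨0, 0, q⟩ : U)⁻¹) := by
      rw [(H.zK (rK q hq) _).eq, ← inv_eq_of_mul_eq_one_right (rsq q hq), map_mul, map_inv, mul_assoc, ← mul_inv_rev,
        ← e2, ← e1]
      group
    generalize u * (⟨0, 0, q⟩ : U)⁻¹ = w at e3
    by_cases q0 : q = 0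
    · exact ⟨w, by rw [e3, q0, r0, one_mul]⟩
    have w2 : w * w = 1 := H.inj (by
      rw [map_one, ← map_one ψ₂, ← v2, map_mul ψ₂, e3, mul4 (H.zK (rK q hq) _), rsq q hq, one_mul, map_mul])
    refine (H₂.step2 (H₂.mem v) (isD_cj.2 (e3 ▸ ?_))).elim
    have dq := isD_of_mem (rsq q hq) (rne q hq q0) (rK q hq)
    by_cases w1 : w = 1
    · rwa [w1, map_one, mul_one]
    obtain ⟨s, hs, e4⟩ := H.conj_z w2 w1
    obtain ⟨t, ht, e5⟩ := H.conj_z (U.zsq q) (U.zne q q0)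
    obtain ⟨p, hp, e6⟩ := gr q hq
    refine IsD.of_cj (g := s) ?_
    rw [← conj_mul, cj_of_comm (mem_cen.1 (rK q hq) s hs).symm, e4, ← e5,
      ← cj_of_comm (mem_cen.1 (rK q hq) t ht).symm, conj_mul, ← e6]
    exact ((isD_of_mem (rsq p hp) (fun e => U.zne q q0 (H.memK (by
      rw [e, mul_one, mul_inv_cancel] at e6
      exact eq_inv_of_mul_eq_one_right e6.symm ▸ inv_mem (rK q hq)))) (rK p hp)).cj y).cj t
  refine ⟨b, r, y, H, radd, rK, rne, rcen, rsyl, fun _ => H.step2, hg eA, nor_of_act fun u => ?_, gr, gr',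
    fun x hx p hp p0 c => ?_⟩
  · obtain ⟨v, e⟩ := mul_mem (iv ⟨u.x, 0, 0⟩ (by simp [U.mul_def, U.one_def]))
      (iv ⟨0, u.y, u.z + u.x * u.y⟩ (by simp [U.mul_def, U.one_def]))
    exact ⟨v, by rw [e, ← map_mul, ← U.split, eψ]⟩
  obtain ⟨q, e⟩ := key H (H.conj g) L (rK p hp) (rsq p hp) p0 (r2 p hp) hx c
  have hq : Sp b q := by
    cases b
    · obtain ⟨i, m, hm, e1⟩ := Nat.exists_eq_two_pow_mul_odd (orderOf_pos x).ne'
      obtain ⟨s, hs, e2⟩ := rcen (x ^ m) (pow_mem hx m) ⟨i, by rw [← pow_mul, mul_comm, ← e1, pow_orderOf_eq_one]⟩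
        fun s hs => Commute.pow_left (by
          obtain rfl : p = 1 := by simpa [p0, Sp] using hp
          rcases hs with hs | rfl | rfl
          exacts [by simp at hs, r0 ▸ Commute.one_right x, c]) m
      have := pow_mem e m
      obtain ⟨j, rfl⟩ := hm
      rw [(H.zK hx _).mul_pow, e2, pow_succ (ψ _), pow_mul, sq, z2, one_pow, one_mul] at this
      exact uq this (r2 s hs) ▸ hs
    · exact Or.inl rfl
  have := ad hx (r2 q hq) e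
  rw [F.add_self, z0, mul_one, ← eA] at this
  exact ⟨q, hq, cen_cj.1 this⟩

end Cfsg.Agent.L4S
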