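import Cfsg.Agent.L4S.Basic

/-! The translations `s q`. -/

set_option autoImplicit false

namespace Cfsg.Agent.L4S

open Subgroup

variable {G : Type*} [Group G] {A : Subgroup G} {ψ : U →* G} {α : G → B} {ν : G → Bool × Bool} {h n1 n2 : G}
  {b : Bool} {r : F → G} {g : G}

namespace CT

theorem odd_mul {C : Type*} [Group C] [Finite C] (hC : ∀ k : C, ∃ m, Odd m ∧ k ^ m ∈ center C) {a c : C}
    (ha : Odd (orderOf a)) (hc : Odd (orderOf c)) : Odd (orderOf (a * c)) := by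
  have hn : Odd (center C).index := by
    by_contra e
    obtain ⟨x, hx⟩ := exists_prime_orderOf_dvd_card' (G := C ⧸ center C) 2
      (even_iff_two_dvd.1 (Nat.not_odd_iff_even.1 e))
    obtain ⟨k, rfl⟩ := QuotientGroup.mk_surjective x
    obtain ⟨m, hm, e⟩ := hC k
    rw [← QuotientGroup.eq_one_iff, QuotientGroup.mk_pow, ← orderOf_dvd_iff_pow_eq_one, hx] at e
    exact hm.not_two_dvd_nat e
  refine (hn.mul (ha.mul hc)).of_dvd_nat (orderOf_dvd_of_pow_eq_one ?_)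
  have e : (a * c) ^ (center C).index = a ^ (center C).index * c ^ (center C).index :=
    congrArg Subtype.val ((MonoidHom.transferCenterPow C).map_mul a c)
  rw [pow_mul, e, Commute.mul_pow (mem_center_iff.1 ((center C).pow_index_mem c) _), ← pow_mul, ← pow_mul,
    orderOf_dvd_iff_pow_eq_one.1 (Dvd.intro _ rfl |>.mul_left _),
    orderOf_dvd_iff_pow_eq_one.1 (Dvd.intro_left _ rfl |>.mul_left _), one_mul]

theorem exists_odd [Finite G] (k : G) : ∃ m n, Odd m ∧ (k ^ m) ^ 2 ^ n = 1 := by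
  obtain ⟨n, m, hm, e⟩ := Nat.exists_eq_two_pow_mul_odd (orderOf_pos k).ne'
  exact ⟨m, n, hm, by rw [← pow_mul, mul_comm, ← e, pow_orderOf_eq_one]⟩

theorem pow_odd {x : G} (e : x * x = 1) {m : ℕ} (hm : Odd m) : x ^ m = x := by
  obtain ⟨j, rfl⟩ := hm
  rw [pow_succ, pow_mul, sq, e, one_pow, one_mul]

theorem eq_one_of_odd {d : G} (hd : Odd (orderOf d)) (e : d * d * (d * d) = 1) : d = 1 := by
  have : orderOf d ∣ 2 ^ 2 := orderOf_dvd_of_pow_eq_one (by rw [← e]; simp [pow_succ, mul_assoc])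
  exact orderOf_eq_one_iff.1 (Nat.Coprime.eq_one_of_dvd (Nat.Coprime.pow_right 2 hd.coprime_two_right) this)

theorem core {x y v ρ d v' : G} (e : x * y * x⁻¹ = v * ρ * d * y) (c : Commute (x * x) y)
    (xv : Commute x v) (xd : Commute x d) (xρ : x * ρ * x⁻¹ = ρ * v') (v2 : v * v = 1)
    (ρ2 : ρ * ρ = 1) (v2' : v' * v' = 1) (vρ : Commute v ρ) (vd : Commute v d) (vv : Commute v v')
    (ρd : Commute ρ d) (ρv : Commute ρ v') (hd : Odd (orderOf d)) :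
    d = 1 ∧ v' = 1 := by
  have k : v' * (d * d) = 1 := by
    have e1 : x * (x * y * x⁻¹) * x⁻¹ = y := by rw [← cj_mul, cj_of_comm c]
    rw [e, show x * (v * ρ * d * y) * x⁻¹ = x * v * x⁻¹ * (x * ρ * x⁻¹) * (x * d * x⁻¹) * (x * y * x⁻¹) by
      group, cj_of_comm xv, cj_of_comm xd, xρ, e, ← mul_assoc, mul_eq_right] at e1
    calc _ = v * v * (ρ * ρ) * v' * (d * d) := by rw [v2, ρ2]; simp
      _ = v * (ρ * v') * d * (v * ρ * d) := by
        simp only [mul_assoc]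
        rw [← vd.left_comm, ← vv.left_comm, ← vρ.left_comm, ← ρd.left_comm, ← ρv.left_comm]
      _ = 1 := e1
  have d1 : d = 1 := eq_one_of_odd hd (by
    rw [eq_inv_of_mul_eq_one_right k, ← mul_inv_rev, v2', inv_one])
  exact ⟨d1, by simpa [d1] using k⟩

theorem scal (f : F → F) (h1 : ∀ x y, f (x + y) = f x + f y) (h2 : ∀ x, x + f x + f (f x) = 0) :
    ∃ a, (a = F.w ∨ a = F.v) ∧ ∀ x, f x = a * x := by
  have f0 : f F.o = 0 := (h1 0 0).trans (F.add_self _)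
  have fv : f F.v = f F.i + f F.w := h1 F.i F.w
  have := h2 F.i
  refine ⟨f F.i, ?_⟩
  rw [show ∀ P : F → Prop, (∀ x, P x) ↔ P F.o ∧ P F.i ∧ P F.w ∧ P F.v from fun P =>
    ⟨fun h => ⟨h _, h _, h _, h _⟩, fun h x => by cases x; exacts [h.1, h.2.1, h.2.2.1, h.2.2.2]⟩, f0, fv]
  have k := h2 F.w
  cases e : f F.i <;> cases e' : f F.w <;> simp only [f0, fv, e, e'] at this k <;> revert this k <;> decide

theorem lin (l : F → F) (h1 : ∀ x y, l (x + y) = l x + l y) (x : F) :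
    l x + F.w * l (F.w * x) = (l F.i + F.w * l F.w) * x := by
  have f0 : l F.o = 0 := (h1 0 0).trans (F.add_self _)
  have fv : l F.v = l F.i + l F.w := h1 F.i F.w
  cases x
  · rw [show F.w * F.o = F.o from rfl, f0]; generalize l F.i = s; generalize l F.w = t; revert s t; decide
  · rw [show F.w * F.i = F.w from rfl]; generalize l F.i = s; generalize l F.w = t; revert s t; decide
  · rw [show F.w * F.w = F.v from rfl, fv]; generalize l F.i = s; generalize l F.w = t; revert s t; decide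
  · rw [show F.w * F.v = F.i from rfl, fv]; generalize l F.i = s; generalize l F.w = t; revert s t; decide

theorem lin2 (f : F → F) (h1 : ∀ x y, f (x + y) = f x + f y)
    (h2 : ∀ x y, f (x + y) * (x + y) = f x * x + f y * y) (x : F) : f x = x * f 1 := by
  have f0 : f F.o = 0 := (h1 0 0).trans (F.add_self _)
  have fv : f F.v = f F.i + f F.w := h1 F.i F.w
  have k : f F.v * F.v = f F.i * F.i + f F.w * F.w := h2 F.i F.w
  rw [fv] at k
  change _ = x * f F.i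
  cases x <;> (try simp only [f0, fv]) <;> revert k <;> generalize f F.i = s <;> generalize f F.w = t <;>
    revert s t <;> decide

theorem bil (X Z : F → F → F) (x1 : ∀ m m' q, X (m + m') q = X m q + X m' q)
    (x2 : ∀ m q q', X m (q + q') = X m q + X m q') (z1 : ∀ m m' q, Z (m + m') q = Z m q + Z m' q)
    (z2 : ∀ m q q', Z m (q + q') = Z m q + Z m q') (e : ∀ m q, X m q * q = Z m q * m) (m q : F) :
    X m q = X 1 1 * m * m * q ∧ Z m q = X 1 1 * m * q * q := by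
  have hx : ∀ m q, X m q = q * X m 1 := fun m => lin2 (X m) (x2 m) fun q q' => by rw [e, e, e, z2, add_mul]
  have hz : ∀ q m, Z m q = m * Z 1 q := fun q => lin2 (Z · q) (z1 · · q) fun m m' => by
    rw [← e, ← e, ← e, x1, add_mul]
  have e1 := e m 1
  have e2 := e 1 q
  have e3 := e 1 1
  rw [hz] at e1
  rw [hx] at e2
  rw [hx m q, hz q m]
  constructor
  · linear_combination q * e1 - q * m * m * e3
  · linear_combination -m * e2

theorem tau (τ : U →* U) (e : ∀ u, u * τ u * τ (τ u) = 1) : ∃ (a : F) (l1 l2 : F → F), (a = F.w ∨ a = F.v) ∧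
    (∀ x y, l1 (x + y) = l1 x + l1 y) ∧ (∀ x y, l2 (x + y) = l2 x + l2 y) ∧
    ∀ x y z, τ ⟨x, y, z⟩ = ⟨a * x, a * y, a * a * z + l1 x + l2 y⟩ := by
  have sq : ∀ x y z, τ ⟨0, 0, x * y⟩ = ⟨0, 0, (τ ⟨x, y, z⟩).x * (τ ⟨x, y, z⟩).y⟩ := fun x y z => by
    have : ∀ u : U, u * u = ⟨0, 0, u.x * u.y⟩ := by decide
    rw [← this, ← map_mul, this]
  have i0 : ∀ u : U, u.x * u.y = 0 → (τ u).x * (τ u).y = 0 := fun ⟨x, y, z⟩ k => by
    have := sq x y z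
    rw [show x * y = 0 from k, ← U.one_def, map_one] at this
    exact (congrArg U.z this).symm
  have zz : ∀ z, (τ ⟨0, 0, z⟩).x = 0 ∧ (τ ⟨0, 0, z⟩).y = 0 := fun z => by
    have := sq 1 z 0
    rw [one_mul] at this
    rw [this]; exact ⟨rfl, rfl⟩
  have ex : ∀ u : U, u.x + (τ u).x + (τ (τ u)).x = 0 := fun u => congrArg U.x (e u)
  have ey : ∀ u : U, u.y + (τ u).y + (τ (τ u)).y = 0 := fun u => congrArg U.y (e u)
  have aux : ∀ x a c a' c' : F, a * c = 0 → a' * c' = 0 → x + a + a' = 0 → 0 + c + c' = 0 → c = 0 ∨ x = 0 := by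
    decide
  have v1 : ∀ x, (τ ⟨x, 0, 0⟩).y = 0 := fun x =>
    (aux x _ _ _ _ (i0 ⟨x, 0, 0⟩ (mul_zero _)) (i0 _ (i0 ⟨x, 0, 0⟩ (mul_zero _))) (ex ⟨x, 0, 0⟩) (ey ⟨x, 0, 0⟩)).elim id
      fun k => k ▸ (zz 0).2
  have v2 : ∀ y, (τ ⟨0, y, 0⟩).x = 0 := fun y =>
    (aux y _ _ _ _ ((mul_comm _ _).trans (i0 ⟨0, y, 0⟩ (zero_mul _)))
      ((mul_comm _ _).trans (i0 _ (i0 ⟨0, y, 0⟩ (zero_mul _)))) (ey ⟨0, y, 0⟩) (ex ⟨0, y, 0⟩)).elim id
      fun k => k ▸ (zz 0).1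
  have gen : ∀ x y z, τ ⟨x, y, z⟩ = ⟨(τ ⟨x, 0, 0⟩).x, (τ ⟨0, y, 0⟩).y, (τ ⟨x, 0, 0⟩).z + (τ ⟨0, y, 0⟩).z +
      (τ ⟨x, 0, 0⟩).x * (τ ⟨0, y, 0⟩).y + (τ ⟨0, 0, z + x * y⟩).z⟩ := fun x y z => by
    rw [show (⟨x, y, z⟩ : U) = ⟨x, 0, 0⟩ * ⟨0, y, 0⟩ * ⟨0, 0, z + x * y⟩ by revert x y z; decide, map_mul, map_mul]
    simp [U.mul_def, v1, v2, zz]
  have m1 : ∀ x y, τ ⟨x + y, 0, 0⟩ = τ ⟨x, 0, 0⟩ * τ ⟨y, 0, 0⟩ := fun x y => by rw [← map_mul]; simp [U.mul_def]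
  have m2 : ∀ x y, τ ⟨0, x + y, 0⟩ = τ ⟨0, x, 0⟩ * τ ⟨0, y, 0⟩ := fun x y => by rw [← map_mul]; simp [U.mul_def]
  have m3 : ∀ x y, τ ⟨0, 0, x + y⟩ = τ ⟨0, 0, x⟩ * τ ⟨0, 0, y⟩ := fun x y => by rw [← map_mul]; simp [U.mul_def]
  obtain ⟨a, ha, fa⟩ := scal (fun x => (τ ⟨x, 0, 0⟩).x) (fun x y => congrArg U.x (m1 x y)) fun x => by
    have := ex ⟨x, 0, 0⟩
    rwa [show τ (τ ⟨x, 0, 0⟩) = _ from gen _ _ _] at this
  obtain ⟨c, hc, fc⟩ := scal (fun x => (τ ⟨0, x, 0⟩).y) (fun x y => congrArg U.y (m2 x y)) fun x => by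
    have := ey ⟨0, x, 0⟩
    rwa [show τ (τ ⟨0, x, 0⟩) = _ from gen _ _ _] at this
  obtain ⟨k, hk, fk⟩ := scal (fun x => (τ ⟨0, 0, x⟩).z) (fun x y => by simp [m3, U.mul_def, zz]) fun x => by
    have := congrArg U.z (e ⟨0, 0, x⟩)
    rw [show τ ⟨0, 0, x⟩ = ⟨0, 0, (τ ⟨0, 0, x⟩).z⟩ from U.ext (zz x).1 (zz x).2 rfl] at this
    simpa [U.mul_def, U.one_def] using this
  have := congrArg U.z (sq 1 1 0)
  rw [fk, gen 1 1 0, fa, fc] at this
  obtain ⟨rfl, rfl⟩ : c = a ∧ k = a * a := by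
    rcases ha with rfl | rfl <;> rcases hc with rfl | rfl <;> rcases hk with rfl | rfl <;> revert this <;> decide
  refine ⟨c, fun x => (τ ⟨x, 0, 0⟩).z, fun x => (τ ⟨0, x, 0⟩).z, ha, fun x y => by simp [m1, U.mul_def, v1],
    fun x y => by simp [m2, U.mul_def, v2], fun x y z => ?_⟩
  rw [gen, fa, fc, fk]
  congr 1
  linear_combination c * c * x * y * F.two

variable (A b r) in
/-- `D` is the group of elements of odd order of `C_K(R)` -/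
structure DD (D : Subgroup G) : Prop where
  memD : ∀ d, d ∈ D ↔ d ∈ centralizer (A : Set G) ∧ (∀ p, Sp b p → Commute d (r p)) ∧ Odd (orderOf d)
  cD : ∀ k ∈ centralizer (A : Set G), (∀ p, Sp b p → Commute k (r p)) → ∃ p, Sp b p ∧ r p * k ∈ D

variable (ψ b r) in
/-- translations centralising `U` -/
structure T0 (D : Subgroup G) (x : G) (q : F) : Prop where
  cu : ∀ u, Commute x (ψ u)
  cd : ∀ d ∈ D, Commute x d
  rx : ∀ p, Sp b p → r p * x * (r p)⁻¹ = x * ψ ⟨0, 0, p * q⟩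

variable (ψ b r) in
/-- translations centralising `V₁` -/
structure T1 (D : Subgroup G) (x : G) (m q : F) : Prop where
  cv : ∀ s t, Commute x (ψ ⟨s, 0, t⟩)
  cd : ∀ d ∈ D, Commute x d
  rx : ∀ p, Sp b p → r p * x * (r p)⁻¹ = x * ψ ⟨p * m, 0, p * q⟩

variable {D : Subgroup G} {x y : G} {m m' q q' : F}

theorem v_mul (s t s' t' : F) : ψ ⟨s, 0, t⟩ * ψ ⟨s', 0, t'⟩ = ψ ⟨s + s', 0, t + t'⟩ := by
  rw [← map_mul, U.mul_def]; simp

theorem v_sq (s t : F) : ψ ⟨s, 0, t⟩ * ψ ⟨s, 0, t⟩ = 1 := by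
  rw [v_mul, F.add_self, F.add_self]; exact map_one ψ

theorem v_comm (s t s' t' : F) : Commute (ψ ⟨s, 0, t⟩) (ψ ⟨s', 0, t'⟩) := by
  rw [Commute, SemiconjBy, v_mul, v_mul, add_comm s, add_comm t]

theorem v_inv (s t : F) : (ψ ⟨s, 0, t⟩)⁻¹ = ψ ⟨s, 0, t⟩ := inv_eq_of_mul_eq_one_right (v_sq s t)

theorem z_comm (t : F) (u : U) : Commute (ψ ⟨0, 0, t⟩) (ψ u) :=
  Commute.map (show (⟨0, 0, t⟩ * u : U) = u * ⟨0, 0, t⟩ by revert t u; decide) ψ

theorem T0.t1 (a : T0 ψ b r D x q) : T1 ψ b r D x 0 q :=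
  ⟨fun _ _ => a.cu _, a.cd, fun p hp => by rw [mul_zero]; exact a.rx p hp⟩

theorem T1.t0 (a : T1 ψ b r D x 0 q) (c : ∀ u, Commute x (ψ u)) : T0 ψ b r D x q :=
  ⟨c, a.cd, fun p hp => by simpa only [mul_zero] using a.rx p hp⟩

theorem T1.mul (a : T1 ψ b r D x m q) (c : T1 ψ b r D y m' q') : T1 ψ b r D (x * y) (m + m') (q + q') :=
  ⟨fun s t => (a.cv s t).mul_left (c.cv s t), fun d hd => (a.cd d hd).mul_left (c.cd d hd), fun p hp => by
    rw [← conj_mul, a.rx p hp, c.rx p hp, mul_add, mul_add, ← v_mul]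
    simp only [mul_assoc]
    rw [(c.cv _ _).left_comm]⟩

theorem T1.inv (a : T1 ψ b r D x m q) : T1 ψ b r D x⁻¹ m q :=
  ⟨fun s t => (a.cv s t).inv_left, fun d hd => (a.cd d hd).inv_left, fun p hp => by
    rw [← conj_inv, a.rx p hp, mul_inv_rev, v_inv, (a.cv _ _).inv_left.eq]⟩

theorem T0.mul (a : T0 ψ b r D x q) (c : T0 ψ b r D y q') : T0 ψ b r D (x * y) (q + q') :=
  (by simpa using a.t1.mul c.t1 : T1 ψ b r D (x * y) 0 _).t0 fun u => (a.cu u).mul_left (c.cu u)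

theorem T0.inv (a : T0 ψ b r D x q) : T0 ψ b r D x⁻¹ q := a.t1.inv.t0 fun u => (a.cu u).inv_left

theorem T0.one : T0 ψ b r D 1 0 :=
  ⟨fun _ => Commute.one_left _, fun _ _ => Commute.one_left _, fun _ _ => by
    rw [mul_zero, ← U.one_def]; simp⟩

theorem T0.pow (a : T0 ψ b r D x q) {n : ℕ} (hn : Odd n) : T0 ψ b r D (x ^ n) q := by
  obtain ⟨j, rfl⟩ := hn
  induction j with
  | zero => simpa using a
  | succ j ih =>
    have := (ih.mul a).mul a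
    rwa [← pow_succ, ← pow_succ, F.add_self, zero_add] at this

variable (H : St1 A ψ α ν h n1 n2 b r g)
include H

theorem rA {p : F} (hp : Sp b p) {a : G} (ha : a ∈ A) : Commute (r p) a := mem_cen.1 (H.rK p hp) a ha

theorem rr {p q : F} (hp : Sp b p) (hq : Sp b q) : Commute (r p) (r q) := by
  rw [Commute, SemiconjBy, ← H.radd p q hp hq, add_comm, H.radd q p hq hp]

theorem rinv {p : F} (hp : Sp b p) : (r p)⁻¹ = r p := inv_eq_of_mul_eq_one_right (H.rsq hp)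

theorem exists_DD [Finite G] : ∃ D, DD A b r D := by
  let C : Subgroup G := centralizer (A : Set G) ⊓ centralizer {x | ∃ p, Sp b p ∧ x = r p}
  have mC : ∀ {k}, k ∈ C ↔ k ∈ centralizer (A : Set G) ∧ ∀ p, Sp b p → Commute k (r p) :=
    ⟨fun h => ⟨h.1, fun p hp => (h.2 _ ⟨p, hp, rfl⟩).symm⟩,
      fun h => ⟨h.1, by rintro _ ⟨p, hp, rfl⟩; exact (h.2 p hp).symm⟩⟩
  have key : ∀ k ∈ C, ∃ m p, Odd m ∧ Sp b p ∧ k ^ m = r p := fun k hk => by
    obtain ⟨m, n, hm, e⟩ := exists_odd k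
    obtain ⟨p, hp, e⟩ := H.rcen _ (pow_mem hk.1 m) ⟨n, e⟩ (mC.1 (pow_mem hk m)).2
    exact ⟨m, p, hm, hp, e⟩
  refine ⟨{ carrier := {d | d ∈ C ∧ Odd (orderOf d)}
            one_mem' := ⟨one_mem _, by simp⟩
            inv_mem' := fun h => ⟨inv_mem h.1, by simpa using h.2⟩
            mul_mem' := fun {a c} ha hc => ⟨mul_mem ha.1 hc.1, ?_⟩ },
    fun d => (and_congr_left' mC).trans and_assoc, fun k h1 h2 => ?_⟩
  · have := odd_mul (C := C) (fun k => ?_) (a := ⟨a, ha.1⟩) (c := ⟨c, hc.1⟩) (by simpa using ha.2)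
      (by simpa using hc.2)
    · simpa [← orderOf_coe] using this
    obtain ⟨m, p, hm, hp, e⟩ := key _ k.2
    exact ⟨m, hm, mem_center_iff.2 fun y => Subtype.ext (by
      simpa [e] using ((mC.1 y.2).2 p hp).eq)⟩
  · obtain ⟨m, p, hm, hp, e⟩ := key k (mC.2 ⟨h1, h2⟩)
    refine ⟨p, hp, mC.2 ⟨mul_mem (H.rK p hp) h1, fun q hq => (rr H hp hq).mul_left (h2 q hq)⟩,
      hm.of_dvd_nat (orderOf_dvd_of_pow_eq_one ?_)⟩
    rw [(h2 p hp).symm.mul_pow, e, pow_odd (H.rsq hp) hm, H.rsq hp]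

variable (HD : DD A b r D)
include HD

omit H in
theorem dA {d : G} (hd : d ∈ D) {a : G} (ha : a ∈ A) : Commute a d :=
  (mem_cen.1 ((HD.memD d).1 hd).1 a ha).symm

theorem gD [Finite G] {d : G} (hd : d ∈ D) : g⁻¹ * d * g ∈ D := by
  obtain ⟨h1, h2, h3⟩ := (HD.memD d).1 hd
  refine (HD.memD _).2 ⟨?_, fun q hq => ?_, ?_⟩
  · obtain ⟨q, hq, e⟩ := H.ck d h1 1 sp_one one_ne_zero (h2 1 sp_one)
    obtain ⟨j, hj⟩ := h3
    have := pow_mem (mul_mem e e) (j + 1)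
    rwa [show g⁻¹ * (r q * d) * g * (g⁻¹ * (r q * d) * g) = g⁻¹ * (r q * (d * r q) * d) * g⁻¹⁻¹ by group,
      (h2 q hq).eq, ← mul_assoc (r q), H.rsq hq, one_mul, conj_pow, ← sq, ← pow_mul,
      show 2 * (j + 1) = orderOf d + 1 by omega, pow_succ, pow_orderOf_eq_one, one_mul, inv_inv] at this
  · obtain ⟨p, hp, e⟩ := H.gr' q hq
    exact (comm_cj' (e ▸ (h2 p hp).symm.mul_left (dA HD hd (H.mem _)))).symm
  · have := orderOf_injective (MulAut.conj g⁻¹).toMonoidHom (MulAut.conj g⁻¹).injective d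
    simp only [MulEquiv.coe_toMonoidHom, MulAut.conj_apply, inv_inv] at this
    rwa [this]

theorem T0.of_r {p : F} (hp : Sp b p) : T0 ψ b r D (r p) 0 :=
  ⟨fun u => rA H hp (H.mem u), fun d hd => (((HD.memD d).1 hd).2.1 p hp).symm, fun q hq => by
    rw [cj_of_comm (rr H hq hp), mul_zero, ← U.one_def, map_one, mul_one]⟩

theorem T1.cj (a : T1 ψ b r D x m q) {n : G} (hn : n ∈ A) (f : F → F → F × F)
    (e : ∀ s t, n * ψ ⟨s, 0, t⟩ * n⁻¹ = ψ ⟨(f s t).1, 0, (f s t).2⟩)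
    (hf : ∀ s t, ∃ s' t', f s' t' = (s, t)) (e' : ∀ p, f (p * m) (p * q) = (p * m', p * q')) :
    T1 ψ b r D (n * x * n⁻¹) m' q' := by
  refine ⟨fun s t => ?_, fun d hd => ?_, fun p hp => ?_⟩
  · obtain ⟨s', t', k⟩ := hf s t
    have := comm_cj (a.cv s' t') n
    rwa [e, k] at this
  · simpa only [cj_of_comm (dA HD hd hn)] using comm_cj (a.cd d hd) n
  · rw [← cj_mul, (rA H hp hn).eq, cj_mul, a.rx p hp, ← conj_mul, e, e']

theorem T0.cjh (a : T0 ψ b r D x q) : T0 ψ b r D (h * x * h⁻¹) (F.w * q) := by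
  refine (a.t1.cj H HD H.hA (fun s t => (F.v * s, F.w * t)) (fun s t => by simpa using H.hact s 0 t)
    (by decide) fun p => by simp [mul_left_comm]).t0 fun ⟨s, t, z⟩ => ?_
  have := comm_cj (a.cu ⟨F.w * s, F.w * t, F.v * z⟩) h
  rwa [H.hact, ← mul_assoc F.v, ← mul_assoc F.v, ← mul_assoc F.w, show F.v * F.w = 1 from rfl,
    show F.w * F.v = 1 from rfl, one_mul, one_mul, one_mul] at this

theorem T0.cjn (a : T0 ψ b r D x q) : T1 ψ b r D (n1 * x * n1⁻¹) q 0 :=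
  a.t1.cj H HD H.n1A (fun s t => (t, s)) H.n1act (by decide) fun _ => rfl

omit H HD in
theorem yact (y s t : F) : ψ ⟨0, y, 0⟩ * ψ ⟨s, 0, t⟩ * (ψ ⟨0, y, 0⟩)⁻¹ = ψ ⟨s, 0, t + s * y⟩ := by
  rw [← map_inv, ← map_mul, ← map_mul]; congr 1; revert y s t; decide

theorem T1.cjy (a : T1 ψ b r D x m q) (y : F) :
    T1 ψ b r D (ψ ⟨0, y, 0⟩ * x * (ψ ⟨0, y, 0⟩)⁻¹) m (q + y * m) :=
  a.cj H HD (H.mem _) (fun s t => (s, t + s * y)) (yact y) (by revert y; decide) fun p => by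
    simp only [Prod.mk.injEq, true_and]; ring

theorem fin {k v : G} (hv : v ∈ A) (hk : v⁻¹ * k ∈ centralizer (A : Set G))
    (c : ∀ p, Sp b p → Commute k (r p)) : ∃ p, ∃ d ∈ D, Sp b p ∧ k = v * r p * d := by
  obtain ⟨p, hp, e⟩ := HD.cD _ hk fun p hp => (rA H hp hv).symm.inv_left.mul_left (c p hp)
  exact ⟨p, _, e, hp, by rw [mul_assoc, ← mul_assoc (r p), H.rsq hp]; simp⟩

theorem T1.ker (a : T1 ψ b r D x 0 0) : ∃ s t p, ∃ d ∈ D, Sp b p ∧ x = ψ ⟨s, 0, t⟩ * r p * d := by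
  have c : ∀ p, Sp b p → Commute x (r p) := fun p hp =>
    (comm_of_cj (by simpa [← U.one_def] using a.rx p hp)).symm
  obtain ⟨s, t, e⟩ := H.cenV1 (H.nor_of_comm (H.rK 1 sp_one) (H.rsq sp_one) (H.rne 1 sp_one one_ne_zero)
    (c 1 sp_one)) a.cv
  exact ⟨s, t, fin H HD (H.mem _) e c⟩

omit HD in
theorem T1.xr (a : T1 ψ b r D x m q) {p : F} (hp : Sp b p) :
    x * r p * x⁻¹ = r p * ψ ⟨p * m, 0, p * q⟩ := by
  rw [show x * r p * x⁻¹ = x * (r p * x⁻¹ * (r p)⁻¹) * r p by group, a.inv.rx p hp, mul_inv_cancel_left,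
    (rA H hp (H.mem _)).eq]

theorem exists_t0 [Finite G] : ∃ x q, q ≠ 0 ∧ T0 ψ b r D x q := by
  have hN : g * h * g⁻¹ ∈ normalizer (ψ.range : Set G) := mul_mem (mul_mem H.gN H.hN) (inv_mem H.gN)
  choose t ht using act_of_nor hN
  let τ : U →* U := MonoidHom.mk' t fun a c => H.inj (by rw [map_mul, ← ht, ← ht, ← ht, map_mul, conj_mul])
  obtain ⟨a, l1, l2, ha, h1, h2, e⟩ := tau τ fun u => H.inj (by
    obtain ⟨⟨x, y, z⟩, k⟩ := act_of_nor (inv_mem H.gN) u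
    have k' : ψ u = g * ψ ⟨x, y, z⟩ * g⁻¹ := by rw [← k]; group
    have e4 : ∀ a c : G, g * a * g⁻¹ * (g * c * g⁻¹) * (g * a * g⁻¹)⁻¹ = g * (a * c * a⁻¹) * g⁻¹ :=
      fun a c => by group
    change ψ (u * t u * t (t u)) = _
    rw [map_mul, map_mul, ← ht (t u), ← ht u, k', e4, e4, H.hact, H.hact, conj_mul, conj_mul, ← map_mul, ← map_mul,
      show (⟨x, y, z⟩ * ⟨F.v * x, F.v * y, F.w * z⟩ * ⟨F.v * (F.v * x), F.v * (F.v * y), F.w * (F.w * z)⟩ : U) = 1 by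
        clear k k'; revert x y z; decide]
    simp)
  obtain ⟨k, kA, kc, ke⟩ : ∃ k ∈ A, Commute h k ∧ ∀ x y z, k * ψ ⟨x, y, z⟩ * k⁻¹ = ψ ⟨a * a * x, a * a * y, a * z⟩ := by
    rcases ha with rfl | rfl
    · exact ⟨h, H.hA, Commute.refl _, H.hact⟩
    · refine ⟨h * h, mul_mem H.hA H.hA, (Commute.refl _).mul_right (Commute.refl _), fun x y z => ?_⟩
      rw [cj_mul, H.hact, H.hact]; congr 1; revert x y z; decide
  have a3 : ∀ x, a * a * (a * x) = x := by rcases ha with rfl | rfl <;> decide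
  have l0 : ∀ l : F → F, (∀ x y, l (x + y) = l x + l y) → l 0 = 0 := fun l h1 => (h1 0 0).trans (F.add_self _)
  obtain ⟨w, wd, wr, we⟩ : ∃ w : G, (∀ d ∈ D, Commute w d) ∧
      (∀ p, Sp b p → w * r p * w⁻¹ = r p * ψ ⟨0, 0, p * (1 + a)⟩) ∧
      ∀ x y z, w * ψ ⟨x, y, z⟩ * w⁻¹ = ψ ⟨x, y, z + a * l1 x + a * l2 y⟩ := by
    have we : ∀ x y z, k * (g * h * g⁻¹) * ψ ⟨x, y, z⟩ * (k * (g * h * g⁻¹))⁻¹ =
        ψ ⟨x, y, z + a * l1 x + a * l2 y⟩ := fun x y z => by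
      rw [cj_mul, ht, show t ⟨x, y, z⟩ = _ from e x y z, ke, a3, a3, mul_add, mul_add,
        show a * (a * a * z) = z by linear_combination a3 z]
    refine ⟨_, fun d hd => (dA HD hd kA).mul_left (comm_cj'' (dA HD (gD H HD hd) H.hA)), fun p hp => ?_, we⟩
    obtain ⟨q, hq, k1⟩ := H.gr p hp
    have c := cj_of_comm (comm_cj (rA H hq H.hA) g).symm
    have k2 := we 0 0 p
    rw [l0 _ h1, l0 _ h2, mul_zero, add_zero, add_zero] at k2
    rw [← mul_left_inj (ψ ⟨0, 0, p⟩), mul_assoc (r p), v_mul]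
    nth_rw 1 [← k2]
    rw [conj_mul, cj_mul, ← k1, c, k1, ← conj_mul, cj_of_comm (rA H hp kA).symm, ke]
    congr 3 <;> [simp; simp; linear_combination -p * F.two]
  have wz : ∀ t, Commute w (ψ ⟨0, 0, t⟩) := fun t => comm_of_cj (by rw [we, l0 _ h1, l0 _ h2]; simp)
  have hi : ∀ x y z, h⁻¹ * ψ ⟨x, y, z⟩ * h⁻¹⁻¹ = ψ ⟨F.w * x, F.w * y, F.v * z⟩ := fun x y z => by
    rw [show ψ ⟨x, y, z⟩ = h * ψ ⟨F.w * x, F.w * y, F.v * z⟩ * h⁻¹ by
      rw [H.hact]; congr 1; revert x y z; decide]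
    group
  let u0 : U := ⟨a * (l2 F.i + F.w * l2 F.w), a * (l1 F.i + F.w * l1 F.w), 0⟩
  have cu : ∀ u, Commute (w * (h * w * h⁻¹) * ψ u0) (ψ u) := fun ⟨x, y, z⟩ => comm_of_cj (by
    rw [cj_mul, ← map_inv, ← map_mul, ← map_mul, cj_mul, cj_mul, cj_mul]
    simp only [u0, U.mul_def, U.inv_def]
    rw [hi, we, H.hact, we]
    congr 1
    have k1 := lin l1 h1 x
    have k2 := lin l2 h2 y
    have vw : ∀ x, F.v * (F.w * x) = x := by decide
    have wv : F.w * F.v = 1 := rfl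
    simp only [add_assoc, F.add_self, add_zero, add_left_comm _ x, add_left_comm _ y, vw, U.mk.injEq, true_and]
    generalize l1 F.i + F.w * l1 F.w = s at k1 ⊢
    generalize l2 F.i + F.w * l2 F.w = t at k2 ⊢
    linear_combination (z + a * t * y + 2 * a * a * s * t + a * s * x) * wv + a * k1 + a * k2 +
      (a * a * s * t + a * s * x + a * t * y) * F.two)
  refine ⟨w * (h * w * h⁻¹) * ψ u0, F.v * (1 + a), by rcases ha with rfl | rfl <;> decide, cu, fun d hd => ?_,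
    fun p hp => ?_⟩
  · refine ((wd d hd).mul_left ?_).mul_left (dA HD hd (H.mem _))
    simpa only [cj_of_comm (dA HD hd H.hA)] using comm_cj (wd d hd) h
  · have : ∀ x v : G, x * r p * x⁻¹ = r p * v → Commute x v → r p * x * (r p)⁻¹ = x * v := fun x v e c => by
      rw [rinv H hp, show r p * x * r p = r p * (x * r p * x⁻¹) * x by group, e, ← mul_assoc, H.rsq hp, one_mul,
        c.eq]
    refine this _ _ ?_ (cu _)
    rw [cj_mul, cj_of_comm (rA H hp (H.mem _)).symm, cj_mul, cj_mul, cj_mul,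
      cj_of_comm (rA H hp H.hA).symm.inv_left, wr p hp, ← conj_mul (b := h), cj_of_comm (rA H hp H.hA).symm, H.hact,
      ← conj_mul, wr p hp, mul_zero, cj_of_comm (wz _), mul_assoc, v_mul]
    rw [add_zero]
    congr 3
    generalize p = s; revert s; rcases ha with rfl | rfl <;> decide

omit H HD in
theorem s0 (H : Function.Injective ψ) {s t : F} (c : Commute (ψ ⟨s, 0, t⟩) (ψ ⟨0, 1, 0⟩)) : s = 0 := by
  have := H ((map_mul ψ _ _).trans (c.eq.trans (map_mul ψ _ _).symm))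
  clear c; revert this s t; decide

omit HD in
theorem v0 {s t : F} (e : ψ ⟨s, 0, t⟩ = 1) : s = 0 ∧ t = 0 :=
  have := H.inj (e.trans ψ.map_one.symm)
  ⟨congrArg U.x this, congrArg U.z this⟩

omit H HD in
theorem p0 {p : F} (hq : m ≠ 0 ∨ q ≠ 0) (e : p * m = 0 ∧ p * q = 0) : p = 0 := by
  revert hq e m q p; decide

omit H HD in
variable (ψ) in
/-- the square lies in `V₁` -/
def Sq (x : G) : Prop := ∃ s t, x * x = ψ ⟨s, 0, t⟩

omit H HD in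
theorem Sq.inv (a : Sq ψ x) : Sq ψ x⁻¹ := by
  obtain ⟨s, t, e⟩ := a
  exact ⟨s, t, by rw [← mul_inv_rev, e, v_inv]⟩

omit H HD in
theorem Sq.of (e : x * x = 1) : Sq ψ x := ⟨0, 0, e.trans ψ.map_one.symm⟩

omit H HD in
theorem Sq.cj (a : Sq ψ x) {n : G} (e : ∀ s t, ∃ s' t', n * ψ ⟨s, 0, t⟩ * n⁻¹ = ψ ⟨s', 0, t'⟩) :
    Sq ψ (n * x * n⁻¹) := by
  obtain ⟨s, t, k⟩ := a
  rw [Sq, conj_mul, k]; exact e s t

theorem sq_ker {s t p : F} {d : G} (hd : d ∈ D) (hp : Sp b p) :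
    ψ ⟨s, 0, t⟩ * r p * d * (ψ ⟨s, 0, t⟩ * r p * d) = d * d := by
  rw [((dA HD hd (H.mem _)).mul_left (((HD.memD d).1 hd).2.1 p hp).symm).symm.mul_mul_mul_comm,
    (rA H hp (H.mem _)).mul_mul_mul_comm, v_sq, H.rsq hp, one_mul, one_mul]

theorem T1.ker' (a : T1 ψ b r D x 0 0) (c : Sq ψ x) : ∃ s t p, Sp b p ∧ x = ψ ⟨s, 0, t⟩ * r p := by
  obtain ⟨s, t, p, d, hd, hp, e⟩ := a.ker H HD
  obtain ⟨s', t', k⟩ := c
  rw [e, sq_ker H HD hd hp] at k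
  obtain rfl := eq_one_of_odd ((HD.memD d).1 hd).2.2 (by rw [k, v_sq])
  exact ⟨s, t, p, hp, e.trans (mul_one _)⟩

theorem T1.comm (a : T1 ψ b r D x m q) (c : T1 ψ b r D y m' q') (k : Sq ψ x) (hq : m ≠ 0 ∨ q ≠ 0) :
    ∃ s t, x * y * x⁻¹ = ψ ⟨s, 0, t⟩ * y := by
  obtain ⟨s, t, p, d, hd, hp, e⟩ := T1.ker H HD (x := x * y * x⁻¹ * y⁻¹) (by
    simpa [add_right_comm _ m' m, add_right_comm _ q' q] using ((a.mul c).mul a.inv).mul c.inv)
  obtain ⟨s', t', k⟩ := k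
  obtain ⟨rfl, k2⟩ := core (mul_inv_eq_iff_eq_mul.1 e) (k ▸ (c.cv _ _).symm) (a.cv _ _) (a.cd d hd) (a.xr H hp)
    (v_sq _ _) (H.rsq hp) (v_sq _ _) (rA H hp (H.mem _)).symm (dA HD hd (H.mem _)) (v_comm _ _ _ _)
    (((HD.memD d).1 hd).2.1 p hp).symm (rA H hp (H.mem _)) ((HD.memD d).1 hd).2.2
  obtain rfl := p0 hq (v0 H k2)
  exact ⟨s, t, by simpa [H.r0] using mul_inv_eq_iff_eq_mul.1 e⟩

theorem Sq.mul (k : Sq ψ x) (k' : Sq ψ y) (a : T1 ψ b r D x m q) (c : T1 ψ b r D y m' q') : Sq ψ (x * y) := by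
  obtain ⟨s2, t2, e2⟩ := k'
  by_cases hq : m ≠ 0 ∨ q ≠ 0
  · obtain ⟨s, t, e⟩ := a.comm H HD c k hq
    obtain ⟨s1, t1, e1⟩ := k
    exact ⟨_, _, by
      rw [show x * y * (x * y) = x * y * x⁻¹ * (x * x) * y by group, e, e1, mul_assoc (ψ _), (c.cv _ _).eq,
        ← mul_assoc, mul_assoc _ y, e2, v_mul, v_mul]⟩
  · obtain ⟨rfl, rfl⟩ : m = 0 ∧ q = 0 := by simpa using hq
    obtain ⟨s, t, p, hp, rfl⟩ := a.ker' H HD k
    exact ⟨_, _, by
      rw [mul_assoc (ψ _), ((rA H hp (H.mem _)).mul_left (c.cv _ _)).mul_mul_mul_comm, v_sq, one_mul,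
        ← mul_assoc, ← rinv H hp, ← inv_inv (r p)⁻¹, inv_inv, rinv H hp]
      nth_rw 2 [← rinv H hp]
      rw [c.rx p hp, mul_assoc, ← (c.cv _ _).eq, ← mul_assoc, e2, v_mul]⟩

omit HD in
theorem T0.sq (a : T0 ψ b r D x q) (k : Sq ψ x) : ∃ t, x * x = ψ ⟨0, 0, t⟩ := by
  obtain ⟨s, t, e⟩ := k
  obtain rfl := s0 H.inj (e ▸ (a.cu _).mul_left (a.cu _))
  exact ⟨t, e⟩

theorem T0.ker' (a : T0 ψ b r D x 0) (c : Sq ψ x) : ∃ t p, Sp b p ∧ x = ψ ⟨0, 0, t⟩ * r p := by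
  obtain ⟨s, t, p, hp, e⟩ := a.t1.ker' H HD c
  obtain rfl : s = 0 := s0 H.inj (t := t) (by
    rw [eq_mul_inv_of_mul_eq e.symm]; exact (a.cu _).mul_left (rA H hp (H.mem _)).inv_left)
  exact ⟨t, p, hp, e⟩

theorem exists_w [Finite G] : ∃ w, T0 ψ b r D w 1 ∧ Sq ψ w := by
  obtain ⟨x, a⟩ : ∃ x, T0 ψ b r D x 1 := by
    obtain ⟨x, q, hq, a⟩ := exists_t0 H HD
    cases q
    exacts [absurd rfl hq, ⟨_, a⟩, ⟨_, (a.cjh H HD).cjh H HD⟩, ⟨_, a.cjh H HD⟩]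
  obtain ⟨s, t, p, d, hd, hp, e⟩ := T1.ker H HD (x := x * x) (by simpa using a.t1.mul a.t1)
  obtain ⟨-, c1, o⟩ := (HD.memD d).1 hd
  have c : Commute x (r p) := by
    rw [show r p = (ψ ⟨s, 0, t⟩)⁻¹ * (x * x) * d⁻¹ by rw [e]; group]
    exact ((a.cu _).inv_right.mul_right ((Commute.refl x).mul_right (Commute.refl x))).mul_right (a.cd d hd).inv_right
  obtain rfl : p = 0 := by simpa using (v0 H (mul_eq_left.1 ((a.rx p hp).symm.trans (cj_of_comm c.symm)))).2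
  refine ⟨_, a.pow o, s, t, ?_⟩
  rw [← (Commute.refl x).mul_pow, e, H.r0, mul_one, (dA HD hd (H.mem _)).mul_pow, pow_orderOf_eq_one, mul_one,
    pow_odd (v_sq _ _) o]

theorem exists_w' [Finite G] : ∃ w, T0 ψ b r D w 1 ∧ Sq ψ w ∧ w * (h * w * h⁻¹ * (h * (h * w * h⁻¹) * h⁻¹)) = 1 := by
  have hs : ∀ {x}, Sq ψ x → Sq ψ (h * x * h⁻¹) := fun a => a.cj fun s t => ⟨_, _, by simpa using H.hact s 0 t⟩
  obtain ⟨w, a, k⟩ := exists_w H HD
  have a1 := a.cjh H HD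
  have a2 := a1.cjh H HD
  obtain ⟨t, p, hp, e⟩ := T0.ker' H HD (a.mul (a1.mul a2))
    (k.mul H HD ((hs k).mul H HD (hs (hs k)) a1.t1 a2.t1) a.t1 (a1.mul a2).t1)
  have c := T0.of_r H HD hp
  have a' : T0 ψ b r D (w * r p) 1 := by simpa using a.mul c
  refine ⟨w * r p, a', k.mul H HD (Sq.of (H.rsq hp)) a.t1 c.t1, ?_⟩
  have k1 : w * r p * (h * (w * r p) * h⁻¹ * (h * (h * (w * r p) * h⁻¹) * h⁻¹)) = ψ ⟨0, 0, t + p * F.w⟩ := by
    rw [← conj_mul (b := h) (a := w), cj_of_comm (rA H hp H.hA).symm, ← conj_mul (b := h) (c := r p),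
      cj_of_comm (rA H hp H.hA).symm]
    generalize h * (h * w * h⁻¹) * h⁻¹ = w2 at e a2
    generalize h * w * h⁻¹ = w1 at e a1
    calc _ = w * (r p * w1 * (r p)⁻¹) * w2 * r p := by rw [rinv H hp]; group
      _ = w * (w1 * w2) * r p * ψ ⟨0, 0, p * F.w⟩ := by
        rw [a1.rx p hp, mul_one]
        simp only [mul_assoc]
        rw [← (a2.cu _).left_comm, (rA H hp (H.mem _)).eq]
      _ = _ := by rw [e, mul_assoc _ (r p) (r p), H.rsq hp, mul_one, v_mul, add_zero]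
  generalize w * r p = x at a' k1
  have h3 : h * (h * h) = 1 := by rw [← H.h3]; simp [pow_succ, mul_assoc]
  have k2 : h * ψ ⟨0, 0, t + p * F.w⟩ * h⁻¹ = x⁻¹ * ψ ⟨0, 0, t + p * F.w⟩ * x := by
    rw [← k1, ← conj_mul, ← conj_mul, ← cj_mul h h, ← cj_mul h (h * h), h3]
    group
  rw [H.hact, mul_zero, (a'.cu _).inv_left.eq, inv_mul_cancel_right] at k2
  have k3 := congrArg U.z (H.inj k2)
  rw [k1, show t + p * F.w = 0 by revert k3; generalize t + p * F.w = z; revert z; decide, ← U.one_def, map_one]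

theorem cj_y {a : G} (c : T1 ψ b r D a m 0) (k : Sq ψ a) (y : F) (c' : T0 ψ b r D x (y * m)) (k' : Sq ψ x) :
    ∃ p s t, Sp b p ∧ ψ ⟨0, y, 0⟩ * a * (ψ ⟨0, y, 0⟩)⁻¹ = a * x * r p * ψ ⟨s, 0, t⟩ := by
  have c1 := c.cjy H HD y
  obtain ⟨s, t, p, hp, e⟩ := T1.ker' H HD (x := (a * x)⁻¹ * (ψ ⟨0, y, 0⟩ * a * (ψ ⟨0, y, 0⟩)⁻¹))
    (by simpa using (c.mul c'.t1).inv.mul c1)
    ((k.mul H HD k' c c'.t1).inv.mul H HD (k.cj fun s t => ⟨_, _, yact y s t⟩) (c.mul c'.t1).inv c1)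
  exact ⟨p, s, t, hp, by rw [eq_mul_of_inv_mul_eq e, mul_assoc _ (r p), (rA H hp (H.mem _)).eq]⟩

omit HD in
theorem twice {a : G} {y p s t z : F} (c : T0 ψ b r D x q) (k : x * x = ψ ⟨0, 0, z⟩) (hp : Sp b p)
    (e : ψ ⟨0, y, 0⟩ * a * (ψ ⟨0, y, 0⟩)⁻¹ = a * x * r p * ψ ⟨s, 0, t⟩) : z + p * q + s * y = 0 := by
  have y2 : ψ ⟨0, y, 0⟩ * ψ ⟨0, y, 0⟩ = 1 := by
    rw [← map_mul, show (⟨0, y, 0⟩ * ⟨0, y, 0⟩ : U) = 1 by clear e; revert y; decide, map_one]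
  have e1 := congrArg (fun u => ψ ⟨0, y, 0⟩ * u * (ψ ⟨0, y, 0⟩)⁻¹) e
  rw [← cj_mul, y2, one_mul, inv_one, mul_one, ← conj_mul, ← conj_mul, ← conj_mul, e, cj_of_comm (c.cu _).symm,
    cj_of_comm (rA H hp (H.mem _)).symm, yact] at e1
  refine (v0 H (s := 0) ?_).2
  calc _ = x * (x * ψ ⟨0, 0, p * q⟩) * (ψ ⟨s, 0, t⟩ * ψ ⟨s, 0, t + s * y⟩) := by
        rw [← mul_assoc x, k, v_mul, v_mul, v_mul]; simp [← add_assoc]
    _ = x * r p * ψ ⟨s, 0, t⟩ * x * r p * ψ ⟨s, 0, t + s * y⟩ := by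
        rw [← c.rx p hp, rinv H hp]
        simp only [mul_assoc]
        rw [← (c.cu _).left_comm, (rA H hp (H.mem _)).left_comm]
    _ = 1 := by simpa only [mul_assoc, left_eq_mul] using e1

theorem exists_s [Finite G] : ∃ s : F → G, (∀ p q, s (p + q) = s p * s q) ∧ (∀ q, T0 ψ b r D (s q) q) ∧
    ∀ q, h * s q * h⁻¹ = s (F.w * q) := by
  obtain ⟨w, a, k, e⟩ := exists_w' H HD
  obtain ⟨t, k0⟩ := a.sq H k
  have h3 : h * h * h = 1 := by rw [← H.h3]; simp [pow_succ, mul_assoc]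
  have k3 : h * (h * (h * w * h⁻¹) * h⁻¹) * h⁻¹ = w := by rw [← cj_mul h h, ← cj_mul (h * h) h, h3]; simp
  have a1 : T0 ψ b r D _ F.w := a.cjh H HD
  have a2 : T0 ψ b r D _ F.v := a1.cjh H HD
  have k1 : h * w * h⁻¹ * (h * w * h⁻¹) = ψ ⟨0, 0, F.w * t⟩ := by rw [conj_mul, k0, H.hact, mul_zero]
  have k2 : h * (h * w * h⁻¹) * h⁻¹ * (h * (h * w * h⁻¹) * h⁻¹) = ψ ⟨0, 0, F.v * t⟩ := by
    rw [conj_mul, k1, H.hact, mul_zero, ← mul_assoc]; rfl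
  obtain ⟨w1, e1⟩ : ∃ w1, h * w * h⁻¹ = w1 := ⟨_, rfl⟩
  rw [e1] at k3 a1 a2 k1 k2 e
  obtain ⟨w2, e2⟩ : ∃ w2, h * w1 * h⁻¹ = w2 := ⟨_, rfl⟩
  rw [e2] at k3 a2 k2 e
  have k4 : w * w1 * (w * w1) = ψ ⟨0, 0, F.v * t⟩ := by
    rw [eq_inv_of_mul_eq_one_left ((mul_assoc _ _ _).trans e), ← mul_inv_rev, k2, v_inv]
  have c : Commute w w1 := by
    have : w * w1 * (w * w1) = w * w * (w1 * w1) := by
      rw [k4, k0, k1, v_mul, add_zero]; congr 2; generalize t = u; revert u; decide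
    exact mul_right_cancel (b := w1) (mul_left_cancel (a := w) (by simpa only [mul_assoc] using this.symm))
  obtain rfl : t = 0 := by
    have c0 := a.cjn H HD
    have ks := k.cj (n := n1) fun s t => ⟨_, _, H.n1act s t⟩
    obtain ⟨p1, s1, t1, hp1, f1⟩ := cj_y H HD c0 ks 1 a k
    obtain ⟨p2, s2, t2, hp2, f2⟩ := cj_y H HD c0 ks F.w a1 ⟨_, _, k1⟩
    have g1 := twice H a k0 hp1 f1
    have g2 := twice H a1 k1 hp2 f2
    have g3 := twice H (a := n1 * w * n1⁻¹) (y := F.v) (s := s1 + s2) (t := p1 * F.w + t1 + (t2 + s2 * 1))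
      (a.mul a1) k4 (hp1.add hp2) (by
        rw [show ψ ⟨0, F.v, 0⟩ = ψ ⟨0, 1, 0⟩ * ψ ⟨0, F.w, 0⟩ by rw [← map_mul]; rfl, cj_mul, f2, ← conj_mul,
          ← conj_mul, ← conj_mul (c := w1), f1, cj_of_comm (a1.cu _).symm, cj_of_comm (rA H hp2 (H.mem _)).symm, yact,
          H.radd _ _ hp1 hp2, ← v_mul, ← zero_add s1, ← v_mul]
        rw [zero_add, mul_assoc _ (r p1), mul_assoc _ _ w1, mul_assoc (r p1), ← (a1.cu _).eq, ← mul_assoc (r p1),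
          mul_inv_eq_iff_eq_mul.1 (a1.rx p1 hp1)]
        simp only [mul_assoc]
        rw [← (rA H hp1 (H.mem _)).left_comm, ← (rA H hp2 (H.mem _)).left_comm, ← (rA H hp2 (H.mem _)).left_comm])
    exact (by decide +kernel : ∀ t p1 s1 p2 s2 : F, t + p1 * 1 + s1 * 1 = 0 → F.w * t + p2 * F.w + s2 * F.w = 0 →
      F.v * t + (p1 + p2) * (1 + F.w) + (s1 + s2) * F.v = 0 → t = 0) _ _ _ _ _ g1 g2 g3
  rw [mul_zero, ← U.one_def, map_one] at k1 k2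
  rw [← U.one_def, map_one] at k0
  obtain rfl : w * w1 = w2 := by
    rw [eq_inv_of_mul_eq_one_left ((mul_assoc _ _ _).trans e), inv_eq_of_mul_eq_one_left k2]
  have c1 : w * (w * w1) = w1 := by rw [← mul_assoc, k0, one_mul]
  have c2 : w * w1 * w1 = w := by rw [mul_assoc, k1, mul_one]
  have c3 : w1 * (w * w1) = w := by rw [c.eq, ← mul_assoc, k1, one_mul]
  have c4 : w * w1 * w = w1 := by rw [c.eq, mul_assoc, k0, mul_one]
  refine ⟨fun q => match q with | F.o => 1 | F.i => w | F.w => w1 | F.v => w * w1, fun p q => ?_, fun q => ?_,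
    fun q => ?_⟩
  · cases p <;> cases q
    exacts [(one_mul _).symm, (one_mul _).symm, (one_mul _).symm, (one_mul _).symm, (mul_one _).symm, k0.symm, rfl,
      c1.symm, (mul_one _).symm, c.eq, k1.symm, c3.symm, (mul_one _).symm, c4.symm, c2.symm, k2.symm]
  · cases q
    exacts [T0.one, a, a1, a2]
  · cases q
    exacts [(by simp : h * 1 * h⁻¹ = 1), e1, e2, k3]

variable {s : F → G} (sadd : ∀ p q, s (p + q) = s p * s q) (hs : ∀ q, T0 ψ b r D (s q) q)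
include sadd hs

theorem final : ∃ κ : F, (∀ m q, n1 * s m * n1⁻¹ * s q * (n1 * s m * n1⁻¹)⁻¹ =
    s q * ψ ⟨κ * m * m * q, 0, κ * m * q * q⟩) ∧ ∀ y m, Sp b (κ * y * m * m) ∧ ∃ x z,
      ψ ⟨0, y, 0⟩ * (n1 * s m * n1⁻¹) * (ψ ⟨0, y, 0⟩)⁻¹ =
        n1 * s m * n1⁻¹ * s (y * m) * r (κ * y * m * m) * ψ ⟨x, 0, z⟩ := by
  have s0 : s 0 = 1 := by simpa using sadd 0 0
  have s2 : ∀ q, s q * s q = 1 := fun q => by rw [← sadd, F.add_self, s0]
  have ha : ∀ m, T1 ψ b r D (n1 * s m * n1⁻¹) m 0 := fun m => (hs m).cjn H HD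
  have a2 : ∀ m, n1 * s m * n1⁻¹ * (n1 * s m * n1⁻¹) = 1 := fun m => by rw [conj_mul, s2]; simp
  have k : ∀ y m, ∃ p x z, Sp b p ∧ ψ ⟨0, y, 0⟩ * (n1 * s m * n1⁻¹) * (ψ ⟨0, y, 0⟩)⁻¹ =
      n1 * s m * n1⁻¹ * s (y * m) * r p * ψ ⟨x, 0, z⟩ ∧
      n1 * s m * n1⁻¹ * s (y * m) * (n1 * s m * n1⁻¹)⁻¹ = s (y * m) * ψ ⟨p * m, 0, p * (y * m)⟩ := fun y m => by
    obtain ⟨p, x, z, hp, e⟩ := cj_y H HD (ha m) (Sq.of (a2 m)) y (hs _) (Sq.of (s2 _))
    refine ⟨p, x, z, hp, e, ?_⟩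
    have c := (ha m).mul (hs (y * m)).t1
    have e1 := congrArg (fun u => u * u) e
    have e2 := c.rx p hp
    have e3 := s2 (y * m)
    have e4 := a2 m
    have e5 := (hs (y * m)).cu
    simp only [conj_mul, e4, add_zero, zero_add] at e1 e2
    generalize n1 * s m * n1⁻¹ = a at *
    generalize s (y * m) = t at *
    rw [((c.cv _ _).mul_left (rA H hp (H.mem _))).symm.mul_mul_mul_comm, v_sq, mul_one, mul_one, mul_inv_cancel,
      mul_assoc (a * t), ← mul_assoc (r p), ← rinv H hp, ← inv_inv (r p)⁻¹, inv_inv, rinv H hp] at e1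
    nth_rw 2 [← rinv H hp] at e1
    rw [e2] at e1
    rw [inv_eq_of_mul_eq_one_left e4, (e5 _).eq, ← inv_eq_of_mul_eq_one_left e3, ← v_inv, ← mul_inv_rev]
    exact eq_inv_of_mul_eq_one_left (by rw [inv_eq_of_mul_eq_one_left e3]; simpa only [mul_assoc] using e1.symm)
  have k' : ∀ m q, ∃ X Z, n1 * s m * n1⁻¹ * s q * (n1 * s m * n1⁻¹)⁻¹ = s q * ψ ⟨X, 0, Z⟩ ∧ X * q = Z * m :=
    fun m q => by
    by_cases hm : m = 0
    · exact ⟨0, 0, by simp [hm, s0, ← U.one_def], by simp⟩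
    · obtain ⟨p, -, -, -, -, e⟩ := k (q * m⁻¹) m
      rw [inv_mul_cancel_right₀ hm] at e
      exact ⟨_, _, e, by ring⟩
  choose X Z e1 e2 using k'
  have i : ∀ {q X Z X' Z'}, s q * ψ ⟨X, 0, Z⟩ = s q * ψ ⟨X', 0, Z'⟩ → X = X' ∧ Z = Z' := fun e =>
    have := H.inj (mul_left_cancel e)
    ⟨congrArg U.x this, congrArg U.z this⟩
  have m1 : ∀ m m' q, X (m + m') q = X m q + X m' q ∧ Z (m + m') q = Z m q + Z m' q := fun m m' q => i (by
    rw [← e1, sadd, ← conj_mul, cj_mul, e1, ← conj_mul (a := s q), e1, cj_of_comm ((ha m).cv _ _), mul_assoc, v_mul])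
  have m2 : ∀ m q q', X m (q + q') = X m q + X m q' ∧ Z m (q + q') = Z m q + Z m q' := fun m q q' => i (by
    rw [← e1, sadd, ← conj_mul, e1, e1, ((hs q').cu _).symm.mul_mul_mul_comm, v_mul])
  have hb := bil X Z (fun m m' q => (m1 m m' q).1) (fun m q q' => (m2 m q q').1) (fun m m' q => (m1 m m' q).2)
    (fun m q q' => (m2 m q q').2) e2
  refine ⟨X 1 1, fun m q => by rw [e1, (hb m q).1, (hb m q).2], fun y m => ?_⟩
  by_cases hm : m = 0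
  · subst hm
    exact ⟨by simpa using sp_zero, 0, 0, by simp [s0, H.r0, ← U.one_def]⟩
  · obtain ⟨p, x, z, hp, e, e'⟩ := k y m
    obtain rfl : p = X 1 1 * y * m * m :=
      mul_right_cancel₀ hm (by rw [(i (e'.symm.trans (e1 _ _))).1, (hb _ _).1]; ring)
    exact ⟨hp, x, z, e⟩

end CT

theorem St1.exists_st2 [Finite G] (H : St1 A ψ α ν h n1 n2 b r g) :
    ∃ D s κ1 κ2, St2 A ψ α ν h n1 n2 b r g D s κ1 κ2 := by
  obtain ⟨D, HD⟩ := CT.exists_DD H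
  obtain ⟨s, sadd, hs, hh⟩ := CT.exists_s H HD
  have e : ∀ x z, (ψ.comp θ) ⟨x, 0, z⟩ = ψ ⟨0, x, z⟩ := fun x z => congrArg ψ ((θ_apply x 0 z).trans (by simp))
  have e' : ∀ y z, (ψ.comp θ) ⟨0, y, z⟩ = ψ ⟨y, 0, z⟩ := fun y z => congrArg ψ ((θ_apply 0 y z).trans (by simp))
  obtain ⟨κ1, a1, y1⟩ := CT.final H HD sadd hs
  obtain ⟨κ2, a2, y2⟩ := CT.final H.dual HD sadd fun q =>
    ⟨fun _ => (hs q).cu _, (hs q).cd, by simpa only [e] using (hs q).rx⟩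
  exact ⟨D, s, κ1, κ2, H, HD.memD, HD.cD, sadd, fun q => (hs q).cu, fun q => (hs q).cd, fun p q => (hs q).rx p, hh,
    a1, y1, by simpa only [e] using a2, by simpa only [e, e'] using y2⟩

end Cfsg.Agent.L4S
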