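import Cfsg.Agent.L4S.Basic

/-! The quadratic algebra `E = F[X]/(X² + X + μ)`, its automorphisms, and the Heisenberg group over it. -/

set_option autoImplicit false
set_option synthInstance.maxSize 4000
set_option maxRecDepth 100000

namespace Cfsg.Agent.L4S.Dd

open Subgroup

/-- `F[X]/(X² + X + μ)` -/
@[ext] structure E (μ : F) where
  a : F
  b : F
  deriving DecidableEq

namespace E

variable {μ : F}

instance decAll (p : E μ → Prop) [DecidablePred p] : Decidable (∀ u, p u) :=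
  decidable_of_iff (∀ a b, p ⟨a, b⟩) ⟨fun h u => h u.a u.b, fun h _ _ => h _⟩

instance decEx (p : E μ → Prop) [DecidablePred p] : Decidable (∃ u, p u) :=
  decidable_of_iff (∃ a b, p ⟨a, b⟩) ⟨fun ⟨_, _, h⟩ => ⟨_, h⟩, fun ⟨u, h⟩ => ⟨u.a, u.b, h⟩⟩

instance : Zero (E μ) := ⟨⟨0, 0⟩⟩
instance : One (E μ) := ⟨⟨1, 0⟩⟩
instance : Add (E μ) := ⟨fun x y => ⟨x.a + y.a, x.b + y.b⟩⟩
instance : Neg (E μ) := ⟨id⟩
instance : Mul (E μ) := ⟨fun x y => ⟨x.a * y.a + μ * (x.b * y.b), x.a * y.b + x.b * y.a + x.b * y.b⟩⟩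

theorem add_def (x y : E μ) : x + y = ⟨x.a + y.a, x.b + y.b⟩ := rfl
theorem mul_def (x y : E μ) :
    x * y = ⟨x.a * y.a + μ * (x.b * y.b), x.a * y.b + x.b * y.a + x.b * y.b⟩ := rfl

instance : CommRing (E μ) := CommRing.ofMinimalAxioms
  (fun a b c => by simp only [add_def, E.mk.injEq]; constructor <;> ring)
  (by revert μ; decide +kernel) (by revert μ; decide +kernel)
  (fun a b c => by simp only [mul_def, E.mk.injEq]; constructor <;> ring)
  (fun a b => by simp only [mul_def, E.mk.injEq]; constructor <;> ring)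
  (by revert μ; decide +kernel)
  (fun a b c => by simp only [mul_def, add_def, E.mk.injEq]; constructor <;> ring)

instance : Fintype (E μ) := Fintype.ofEquiv (F × F) ⟨fun p => ⟨p.1, p.2⟩, fun u => (u.a, u.b), fun _ => rfl, fun _ => rfl⟩

theorem card : Fintype.card (E μ) = 16 := rfl

@[simp] theorem add_self : ∀ x : E μ, x + x = 0 := by revert μ; decide +kernel
theorem two : (2 : E μ) = 0 := by rw [← one_add_one_eq_two, add_self]
instance : CharP F 2 := CharTwo.of_one_ne_zero_of_two_eq_zero one_ne_zero F.two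
instance : CharP (E μ) 2 := CharTwo.of_one_ne_zero_of_two_eq_zero (by revert μ; decide) two
theorem red : ∀ x : E μ, x * x = 0 → x = 0 := by revert μ; decide +kernel
theorem of_add : ∀ x y : E μ, x + y = 0 → x = y := fun x y h => by linear_combination h - y * two

/-- the constants -/
def C : F →+* E μ where
  toFun c := ⟨c, 0⟩
  map_one' := rfl
  map_zero' := rfl
  map_mul' := by revert μ; decide +kernel
  map_add' := by revert μ; decide +kernel

/-- the involution `X ↦ X + 1` -/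
def st : E μ →+* E μ where
  toFun x := ⟨x.a + x.b, x.b⟩
  map_one' := by revert μ; decide +kernel
  map_zero' := by revert μ; decide +kernel
  map_mul' := by revert μ; decide +kernel
  map_add' := by revert μ; decide +kernel

theorem C_apply (c : F) : (C c : E μ) = ⟨c, 0⟩ := rfl
theorem st_apply (x : E μ) : st x = ⟨x.a + x.b, x.b⟩ := rfl
theorem st_fix : ∀ x : E μ, st x = x → x = C x.a := by revert μ; decide +kernel
theorem st_gen : ∀ x : E μ, x ≠ 0 → ∃ a b, a * x + b * st x = 1 := by revert μ; decide +kernel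
theorem idem_card : (Finset.univ.filter fun x : E μ => x * x = x).card < 16 := by revert μ; decide +kernel

def lin (w : E μ) : F → E μ
  | .o => 0
  | .i => 1
  | .w => w
  | .v => w + 1

def ap (p : E μ × E μ) (e : E μ) : E μ := lin p.1 e.a + lin p.1 e.b * p.2

def mk4 (a b c d : F) : E μ × E μ := (⟨a, b⟩, ⟨c, d⟩)

open F in
/-- the images of `ω` and `X` under the automorphisms of `E` -/
def tab : (μ : F) → List (E μ × E μ)
  | o => [mk4 w o o i, mk4 w o i i, mk4 w i o i, mk4 w i i i, mk4 v o o i, mk4 v o i i, mk4 v i o i, mk4 v i i i]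
  | i => [mk4 o i w o, mk4 o i v o, mk4 i i w o, mk4 i i v o, mk4 w o o i, mk4 w o i i, mk4 v o o i, mk4 v o i i]
  | _ => [mk4 w o o i, mk4 w o i i, mk4 v o w i, mk4 v o v i]

theorem mem_tab0 : ∀ w : E μ, w * w + w + 1 = 0 → ∀ x : E μ, x * x + x + lin w μ = 0 →
    (∀ e, ap (w, x) e = 0 → e = 0) → (w, x) ∈ tab μ := by revert μ; decide +kernel

theorem eq_C : ∀ e : E μ, e = C e.a + C e.b * ⟨0, 1⟩ := by revert μ; decide +kernel
theorem C_w : (C F.w * C F.w + C F.w + 1 : E μ) = 0 := by revert μ; decide +kernel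
theorem X_sq : (⟨0, 1⟩ * ⟨0, 1⟩ + ⟨0, 1⟩ + C μ : E μ) = 0 := by revert μ; decide +kernel

theorem exists_tab (σ : E μ →+* E μ) (h : Function.Injective σ) : ∃ p ∈ tab μ, ∀ e, σ e = ap p e := by
  have h1 : ∀ c, σ (C c) = lin (σ (C F.w)) c := fun c => by
    cases c
    · exact (congrArg σ (map_zero C)).trans (map_zero σ)
    · exact (congrArg σ (map_one C)).trans (map_one σ)
    · rfl
    · rw [show F.v = F.w + 1 from rfl, map_add, map_add, map_one, map_one]; rfl
  have h2 : ∀ e, σ e = ap (σ (C F.w), σ ⟨0, 1⟩) e := fun e => by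
    rw [ap, ← h1, ← h1, ← map_mul, ← map_add, ← eq_C]
  refine ⟨_, mem_tab0 _ ?_ _ ?_ fun e he => h (by rw [h2, he, map_zero]), h2⟩
  · rw [← map_one σ, ← map_mul, ← map_add, ← map_add, C_w, map_zero]
  · rw [← h1, ← map_mul, ← map_add, ← map_add, X_sq, map_zero]

/-- an idempotent, or a generator of the field -/
def e0 (μ : F) : E μ := ⟨if μ = 1 then F.w else 0, 1⟩

def chi (y : E μ) : ZMod 4 :=
  if y = e0 μ then 0 else if y = e0 μ + 1 then 2 else if y = e0 μ * e0 μ then 1 else 3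

theorem chi_add : ∀ p ∈ tab μ, ∀ q ∈ tab μ, chi (ap p (ap q (e0 μ))) = chi (ap p (e0 μ)) + chi (ap q (e0 μ)) := by
  revert μ; decide +kernel

theorem chi_zero : ∀ y : E μ, chi y = 0 → y = e0 μ := by revert μ; decide +kernel
theorem chi_st : chi (st (e0 μ)) = 2 := by revert μ; decide +kernel
theorem e0_ne : e0 μ ≠ 0 ∧ e0 μ + 1 ≠ 0 := by revert μ; decide +kernel

theorem caseA : ∀ d ∈ tab μ, ap d (e0 μ) = e0 μ → ∀ p ∈ tab μ, (∀ e, ap p (ap p e) = e) → ∀ q ∈ tab μ,
    (∀ e, ap q (ap q e) = e) → (∀ e, ap p (ap q e) = ap q (ap p e)) →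
    (∀ e, ap d e = e → (ap p e = e ↔ ap q e = e) ∧ (ap p e = e ↔ ap p (ap q e) = e)) →
    ∀ e, ap d e = e → ap p e = e := by revert μ; decide +kernel

theorem caseB : ∀ d ∈ tab μ, ap d (e0 μ) = e0 μ → 4 < (Finset.univ.filter fun e => ap d e = e).card ∨
    (e0 μ * e0 μ = e0 μ ∧ ap d (C F.w) = C F.w + 1) := by revert μ; decide +kernel

end E

open E (C st)

/-- the Heisenberg group over `E` -/
@[ext] structure Hs (μ : F) where
  x : E μ
  y : E μ
  z : E μ

namespace Hs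

variable {μ : F}

instance : Mul (Hs μ) := ⟨fun a b => ⟨a.x + b.x, a.y + b.y, a.z + b.z + a.x * b.y⟩⟩
instance : One (Hs μ) := ⟨⟨0, 0, 0⟩⟩
instance : Inv (Hs μ) := ⟨fun a => ⟨a.x, a.y, a.z + a.x * a.y⟩⟩

@[simp] theorem mul_x (a b : Hs μ) : (a * b).x = a.x + b.x := rfl
@[simp] theorem mul_y (a b : Hs μ) : (a * b).y = a.y + b.y := rfl
@[simp] theorem mul_z (a b : Hs μ) : (a * b).z = a.z + b.z + a.x * b.y := rfl
@[simp] theorem one_x : (1 : Hs μ).x = 0 := rfl
@[simp] theorem one_y : (1 : Hs μ).y = 0 := rfl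
@[simp] theorem one_z : (1 : Hs μ).z = 0 := rfl
@[simp] theorem inv_x (a : Hs μ) : a⁻¹.x = a.x := rfl
@[simp] theorem inv_y (a : Hs μ) : a⁻¹.y = a.y := rfl
@[simp] theorem inv_z (a : Hs μ) : a⁻¹.z = a.z + a.x * a.y := rfl

instance : Group (Hs μ) := Group.ofLeftAxioms (fun a b c => by ext1 <;> simp only [mul_x, mul_y, mul_z] <;> ring)
  (fun a => by ext1 <;> simp) (fun a => by
    ext1 <;> simp only [mul_x, mul_y, mul_z, inv_x, inv_y, inv_z, one_x, one_y, one_z, E.add_self]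
    linear_combination (a.z + a.x * a.y) * E.two)

instance : Fintype (Hs μ) := Fintype.ofEquiv (E μ × E μ × E μ)
  ⟨fun p => ⟨p.1, p.2.1, p.2.2⟩, fun u => (u.x, u.y, u.z), fun _ => rfl, fun _ => rfl⟩

theorem card : Nat.card (Hs μ) = 4096 := by
  rw [Nat.card_eq_fintype_card, Fintype.ofEquiv_card, Fintype.card_prod, Fintype.card_prod, E.card]

/-- the centre -/
def zz (w : E μ) : Hs μ := ⟨0, 0, w⟩
/-- the commutator form -/
def bf (u v : Hs μ) : E μ := u.x * v.y + u.y * v.x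
/-- scalar multiplication modulo the centre -/
def sm (e : E μ) (u : Hs μ) : Hs μ := ⟨e * u.x, e * u.y, 0⟩

@[simp] theorem zz_x (w : E μ) : (zz w).x = 0 := rfl
@[simp] theorem zz_y (w : E μ) : (zz w).y = 0 := rfl
@[simp] theorem zz_z (w : E μ) : (zz w).z = w := rfl
@[simp] theorem sm_x (e : E μ) (u : Hs μ) : (sm e u).x = e * u.x := rfl
@[simp] theorem sm_y (e : E μ) (u : Hs μ) : (sm e u).y = e * u.y := rfl

theorem zz_zero : zz (0 : E μ) = 1 := rfl
theorem zz_add (v w : E μ) : zz (v + w) = zz v * zz w := by ext1 <;> simp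
theorem zz_inj {v w : E μ} (h : zz v = zz w) : v = w := congrArg Hs.z h
theorem zz_comm (w : E μ) (u : Hs μ) : Commute (zz w) u := by
  show _ * _ = _ * _; ext1 <;> simp [add_comm]
theorem eq_zz {u : Hs μ} (h1 : u.x = 0) (h2 : u.y = 0) : u = zz u.z := by ext1 <;> simp [*]

theorem comm_eq (u v : Hs μ) : u * v * u⁻¹ * v⁻¹ = zz (bf u v) := by
  ext1 <;> simp only [mul_x, mul_y, mul_z, inv_x, inv_y, inv_z, zz_x, zz_y, zz_z, bf]
  · linear_combination (u.x + v.x) * E.two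
  · linear_combination (u.y + v.y) * E.two
  · linear_combination (u.z + v.z + u.x * u.y + v.x * v.y + u.x * v.y) * E.two

theorem sq_eq (u : Hs μ) : u * u = zz (u.x * u.y) := by ext1 <;> simp

theorem commute_iff {u v : Hs μ} : Commute u v ↔ bf u v = 0 := by
  rw [← commutatorElement_eq_one_iff_commute, commutatorElement_def, comm_eq]
  exact ⟨fun h => zz_inj h, fun h => by rw [h, zz_zero]⟩

theorem cong {u v : Hs μ} (h1 : u.x = v.x) (h2 : u.y = v.y) : ∃ w, u = v * zz w :=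
  ⟨u.z + v.z, by ext1 <;> simp [h1, h2, add_comm, add_left_comm]⟩

theorem ext_bf {u v : Hs μ} (h : ∀ w, bf u w = bf v w) : u.x = v.x ∧ u.y = v.y :=
  ⟨by simpa [bf] using h ⟨0, 1, 0⟩, by simpa [bf] using h ⟨1, 0, 0⟩⟩

/-- the action of an automorphism on the centre -/
def zf (f : MulAut (Hs μ)) (w : E μ) : E μ := (f (zz w)).z

theorem map_zz (f : MulAut (Hs μ)) (w : E μ) : f (zz w) = zz (zf f w) := by
  have := ext_bf (u := f (zz w)) (v := 1) fun v => by
    rw [commute_iff.1 (by simpa using (zz_comm w (f.symm v)).map f)]; simp [bf]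
  exact eq_zz this.1 this.2

variable (f g : MulAut (Hs μ))

theorem zf_add (v w : E μ) : zf f (v + w) = zf f v + zf f w :=
  zz_inj (by rw [← map_zz, zz_add, zz_add, map_mul, map_zz, map_zz])
theorem zf_zero : zf f 0 = 0 := zz_inj (by rw [← map_zz, zz_zero, map_one])
theorem zf_comp (w : E μ) : zf (f * g) w = zf f (zf g w) :=
  zz_inj (by rw [← map_zz, ← map_zz, ← map_zz]; rfl)
theorem zf_one (w : E μ) : zf 1 w = w := rfl
theorem zf_inv (w : E μ) : zf f (zf f⁻¹ w) = w := by rw [← zf_comp, mul_inv_cancel, zf_one]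
theorem zf_inv' (w : E μ) : zf f⁻¹ (zf f w) = w := by rw [← zf_comp, inv_mul_cancel, zf_one]

theorem bf_map (u v : Hs μ) : bf (f u) (f v) = zf f (bf u v) :=
  zz_inj (by rw [← map_zz, ← comm_eq, ← comm_eq]; simp)
theorem q_map (u : Hs μ) : (f u).x * (f u).y = zf f (u.x * u.y) :=
  zz_inj (by rw [← map_zz, ← sq_eq, ← sq_eq]; simp)

theorem map_cong {u v : Hs μ} (h1 : u.x = v.x) (h2 : u.y = v.y) : (f u).x = (f v).x ∧ (f u).y = (f v).y := by
  obtain ⟨w, rfl⟩ := cong h1 h2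
  simp [map_zz]

/-- the action of an automorphism on the centroid -/
def sg0 (e : E μ) : E μ := zf f (e * zf f⁻¹ 1)

theorem zf_mul (e w : E μ) : zf f (e * w) = sg0 f e * zf f w := by
  have key : ∀ w, zf f (e * zf f⁻¹ w) = w * (f (sm e (f⁻¹ ⟨0, 1, 0⟩))).y := fun w => by
    have h1 := bf_map f (f⁻¹ ⟨w, 0, 0⟩) (sm e (f⁻¹ ⟨0, 1, 0⟩))
    have h2 := bf_map f⁻¹ ⟨w, 0, 0⟩ ⟨0, 1, 0⟩
    rw [MulAut.apply_inv_self] at h1
    simp only [bf, mul_one, zero_mul, add_zero, sm_x, sm_y] at h1 h2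
    rw [h1, ← h2]; congr 1; ring
  rw [sg0, key, one_mul, mul_comm _ (zf f w), ← key, zf_inv']

/-- the action of an automorphism on the centroid -/
def sg : E μ →+* E μ where
  toFun := sg0 f
  map_one' := by rw [sg0, one_mul, zf_inv]
  map_zero' := by rw [sg0, zero_mul, zf_zero]
  map_add' a b := by rw [sg0, add_mul, zf_add]; rfl
  map_mul' a b := by rw [sg0, mul_assoc, zf_mul]; rfl

theorem zf_smul (e w : E μ) : zf f (e * w) = sg f e * zf f w := zf_mul f e w

theorem sg_comp (e : E μ) : sg (f * g) e = sg f (sg g e) := by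
  have := zf_smul (f * g) e (zf (f * g)⁻¹ 1)
  rw [zf_inv, mul_one, zf_comp, zf_smul, zf_smul, ← zf_comp, zf_inv, mul_one] at this
  exact this.symm

theorem sg_one (e : E μ) : sg 1 e = e := mul_one e

theorem sg_inj : Function.Injective (sg f) := fun a b h => by
  rw [← sg_one a, ← sg_one b, ← inv_mul_cancel f, sg_comp, sg_comp, h]

theorem map_sm (e : E μ) (u : Hs μ) : (f (sm e u)).x = sg f e * (f u).x ∧ (f (sm e u)).y = sg f e * (f u).y :=
  ext_bf (v := sm (sg f e) (f u)) fun w => by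
    obtain ⟨w, rfl⟩ := f.surjective w
    have : ∀ e (u w : Hs μ), bf (sm e u) w = e * bf u w := fun e u w => by simp only [bf, sm_x, sm_y]; ring
    rw [bf_map, this, this, zf_smul, bf_map]

/-- matrix form -/
theorem map_mat (u : Hs μ) :
    (f u).x = sg f u.x * (f ⟨1, 0, 0⟩).x + sg f u.y * (f ⟨0, 1, 0⟩).x ∧
    (f u).y = sg f u.x * (f ⟨1, 0, 0⟩).y + sg f u.y * (f ⟨0, 1, 0⟩).y := by
  have := map_cong f (u := u) (v := sm u.x ⟨1, 0, 0⟩ * sm u.y ⟨0, 1, 0⟩) (by simp) (by simp)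
  rw [this.1, this.2, map_mul, mul_x, mul_y, (map_sm ..).1, (map_sm ..).1, (map_sm ..).2, (map_sm ..).2]
  exact ⟨rfl, rfl⟩

/-- if `ε ⁅U, f⁆` is isotropic then `ε` kills the displacement of the centroid -/
theorem iso_sg {ε : E μ} (h : ∀ u v, ε * bf (u * f u) (v * f v) = 0) (e : E μ) : ε * (e + sg f e) = 0 := by
  have a1 := h ⟨1, 0, 0⟩ ⟨0, 1, 0⟩
  have a2 := h (sm e ⟨1, 0, 0⟩) ⟨0, 1, 0⟩
  have a3 := h ⟨1, 0, 0⟩ (sm e ⟨0, 1, 0⟩)
  have a4 := h (sm e ⟨1, 0, 0⟩) (sm e ⟨0, 1, 0⟩)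
  simp only [bf, mul_x, mul_y, map_sm, sm_x, sm_y] at a1 a2 a3 a4
  apply E.red
  linear_combination ε * (a4 - sg f e * a2 - sg f e * a3 + sg f e ^ 2 * a1) + ε ^ 2 * 2 * e * sg f e * E.two

end Hs

/-- the `F`-points -/
def ιH {μ : F} : U →* Hs μ := MonoidHom.mk' (fun u => ⟨C u.x, C u.y, C u.z⟩) fun a b => by
  ext1 <;> simp [U.mul_def]

/-- the involution induced by `t` -/
def stH {μ : F} (u : Hs μ) : Hs μ := ⟨st u.x, st u.y, st u.z⟩

end Cfsg.Agent.L4S.Dd
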