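import Cfsg.Agent.L4S.E2b
import Cfsg.Agent.Transfer.ThompsonTransfer

/-! The Sylow 2-subgroup and the fusion of its involutions. -/

set_option autoImplicit false

namespace Cfsg.Agent.L4S

open Subgroup PP E2
open Equiv.Perm (sign sign_inv sign_swap sign_one)
open F (fr)
open Cfsg.Agent.TT (Eqv XS)
open Cfsg.Agent.PLocal.Amb (IsSyl isPGroup_iff)

variable {G : Type*} [Group G] {A : Subgroup G} {ρ : PP →* G} {ω : WW →* G} {D : Subgroup G} {h f y : G}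
  {n : G} {π : Equiv.Perm (Fin 5)} {σ : Bool}

/-- the group `N(Q) ∩ N(D) ∩ C(z)` -/
abbrev E2.HH (ρ : PP →* G) (f : G) (D : Subgroup G) : Subgroup G :=
  (normalizer (QQ ρ f : Set G) ⊓ normalizer (D : Set G)) ⊓ centralizer {ρ (zz 1)}

theorem E2.w_split (ω : WW →* G) (p q m x z : F) : ω ⟨p, q, m, x, z⟩ = ω ⟨p, q, 0, x, z⟩ * ω ⟨0, 0, m, 0, 0⟩ := by
  rw [← map_mul]; simp [WW.mul_def]

theorem E2.sq_cj {i z k : G} (e : i * i = 1 ∨ i * i = z) (c : Commute k z) :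
    k * i * k⁻¹ * (k * i * k⁻¹) = 1 ∨ k * i * k⁻¹ * (k * i * k⁻¹) = z := by
  rw [conj_mul]
  rcases e with e | e <;> rw [e]
  exacts [Or.inl (by simp), Or.inr (cj_of_comm c)]

theorem E2.pow_two {i : G} (e : i * i = 1 ∨ i * i = ρ (zz 1)) : ∃ k, i ^ 2 ^ k = 1 :=
  ⟨2, by
    rw [show i ^ 2 ^ 2 = i * i * (i * i) by simp [pow_succ, mul_assoc]]
    rcases e with e | e <;> rw [e]
    exacts [one_mul 1, z2 ρ]⟩

namespace St4

variable (H : St4 A ρ ω D h f y)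
include H

theorem wz : ω ⟨0, 0, 0, 0, 1⟩ = ρ (zz 1) := (H.rw 0 0 0 1).symm

theorem a2 (m : F) : ω ⟨0, 0, m, 0, 0⟩ * ω ⟨0, 0, m, 0, 0⟩ = ρ 1 := by
  rw [← map_mul, wsq, map_one]; simp [← WW.one_def]

theorem yw (c p q m x z : F) : ∃ x' z', ρ ⟨0, c, 0, 0, 0⟩ * ω ⟨p, q, m, x, z⟩ * (ρ ⟨0, c, 0, 0, 0⟩)⁻¹ =
    ω ⟨p + c * m * m, q + c * m, m, x', z'⟩ := by
  obtain ⟨x', z', e⟩ := H.ya c m
  rw [w_split, ← conj_mul, e, ← H.rw, rcj, show (⟨x, 0, p, q, z⟩ * zz (bf ⟨0, c, 0, 0, 0⟩ ⟨x, 0, p, q, z⟩) : PP) =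
    ⟨x, 0, p, q, z + c * x⟩ by simp [mul_def, zz, bf], H.rw, ← map_mul]
  exact ⟨x + x', _, by simp only [WW.mul_def, zero_mul, add_zero, zero_add]; rfl⟩

theorem pW (u : PP) : ρ u ∈ normalizer (ω.range : Set G) := by
  have : Finite (ω.range : Set G) := Set.finite_range ω
  obtain ⟨x, c, p, q, z⟩ := u
  rw [show (⟨x, c, p, q, z⟩ : PP) = ⟨x, 0, p, q, z + x * c⟩ * ⟨0, c, 0, 0, 0⟩ by simp [mul_def, add_assoc], map_mul, H.rw]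
  refine mul_mem (le_normalizer ⟨_, rfl⟩) (mem_normalizer_fintype ?_)
  rintro _ ⟨⟨p, q, m, x, z⟩, rfl⟩
  obtain ⟨x', z', e⟩ := H.yw c p q m x z
  exact ⟨_, e.symm⟩

theorem pw_y {u : PP} {w : WW} (e : ω w = ρ u) : u.y = 0 := by
  obtain ⟨p, q, m, x, z⟩ := w
  rw [w_split, ← H.rw, ← eq_inv_mul_iff_mul_eq, ← map_inv, ← map_mul] at e
  obtain rfl := pa_eq_one m ((H.amv m).uniq H.rinj (e ▸ mv_inn ρ _)).1
  simpa [mul_def, inv_def] using congrArg PP.y (H.rinj ((H.rw 0 0 0 0).trans e)).symm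

theorem inv0 {m : F} (a : Mv ρ n (pa m) false) (e : n * n = 1 ∨ n * n = ρ (zz 1)) : n ∈ ρ.range ∨ n ∈ ω.range := by
  by_cases hm : m = 0
  · subst hm
    exact Or.inl ((H.ker2 a (pow_two e)).imp fun _ => Eq.symm)
  obtain ⟨⟨x, c, p, q, z⟩, rfl⟩ := H.ker3 a (pow_two e) (H.amv m) ⟨1, H.a2 m⟩ (H.wc _)
  obtain ⟨u', e1, e2⟩ := (H.amv m).2 ⟨x, c, p, q, z⟩
  rw [inv_eq_of_mul_eq_one_left ((H.a2 m).trans ρ.map_one)] at e1
  rw [← mul_assoc, e1, ← map_mul, ← ρ.map_one] at e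
  have k : ∀ i, tt i u' = tt i ⟨x, c, p, q, z⟩ := fun i => by
    have : tt i (u' * ⟨x, c, p, q, z⟩) = 0 := by
      rcases e with e | e <;> rw [H.rinj e]
      exacts [tt_zz i 0, tt_zz i 1]
    rw [tt_mul] at this
    exact add_right_cancel (this.trans (F.add_self _).symm)
  obtain rfl := pa_y m x c p q hm fun j => (k _).symm.trans (e2 j)
  exact Or.inr (mul_mem ⟨_, rfl⟩ ⟨_, (H.rw _ _ _ _).symm⟩)

variable [Finite G]

theorem mH (a : Mv ρ n π σ) : n ∈ HH ρ f D := ⟨H.nq' a, mem_centralizer_singleton_iff.2 a.comm⟩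

theorem yH : y ∈ HH ρ f D := ⟨⟨H.yQ, cen_le_nor H.yc⟩, mem_centralizer_singleton_iff.2 H.yz⟩

theorem inv1 {m : F} (a : Mv ρ n (pa m) true) (e : n * n = 1 ∨ n * n = ρ (zz 1))
    (c : Commute n (ρ ⟨1, 0, 0, 0, 0⟩)) : y⁻¹ * n * y ∈ ρ.range ∨ y⁻¹ * n * y ∈ ω.range := by
  have nW : n ∈ normalizer (ω.range : Set G) := by
    obtain ⟨u, e⟩ := H.ker3 a (pow_two e) (π := pa m) (by simpa using (H.amv m).mul H.fmv) (m := ω ⟨0, 0, m, 0, 0⟩ * f)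
      (by
        refine H.ker2 (by
          simpa [show pa m * pa m = 1 by cases m <;> decide] using ((H.amv m).mul H.fmv).mul ((H.amv m).mul H.fmv)) ?_
        obtain ⟨w, e⟩ := nor_cjA H.fW ⟨⟨0, 0, m, 0, 0⟩, rfl⟩
        rw [inv_eq_of_mul_eq_one_left H.fsq] at e
        refine ⟨2, ?_⟩
        rw [mul_assoc, ← mul_assoc f, ← e, ← map_mul, ← map_pow]
        generalize _ * w = w'
        rw [show w' ^ 2 ^ 2 = w' * w' * (w' * w') by simp [pow_succ, mul_assoc], wsq w', wsq]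
        simp [← WW.one_def]) (mul_mem (H.wc _) H.fc)
    exact e ▸ mul_mem (mul_mem (le_normalizer ⟨_, rfl⟩) H.fW) (H.pW u)
  have nW' : y⁻¹ * n * y ∈ normalizer (ω.range : Set G) := mul_mem (mul_mem (inv_mem H.yW) nW) H.yW
  have c1 : Commute (y⁻¹ * n * y) (ρ (zz 1)) := (H.yz.inv_left.mul_left a.comm).mul_left H.yz
  have c2 : Commute (y⁻¹ * n * y) (ρ (zz F.w)) := (comm_cj' (H.yz' ▸ c.symm)).symm
  obtain ⟨π, σ, a'⟩ := H.mv _ (H.nw _ nW' c1 c2) c1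
  obtain rfl := H.cen_z a' c2
  obtain ⟨m', rfl⟩ := eq_pa π (by
    obtain ⟨u, e1, e2⟩ := a'.2 (sv 0)
    obtain ⟨w, e3⟩ := nor_cjA nW' ⟨_, (H.rw 1 0 0 0).symm⟩
    have k : tt 0 u = 0 := by simpa [tt, bf, show sv 0 = ⟨1, 0, 0, 0, 0⟩ from rfl] using H.pw_y (e3.trans e1)
    have := e2 (π.symm 0)
    rw [Equiv.apply_symm_apply, k] at this
    exact (π.symm_apply_eq.1 ((tt_sv _ _).1 this.symm)).symm) fun p hp => by
    obtain ⟨⟨x', y', p', q', z'⟩, e1, e2⟩ := a'.2 ⟨0, 0, p, p * p, 0⟩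
    refine ⟨x', y', p', q', e2, ?_⟩
    obtain ⟨⟨p1, q1, m1, x1, z1⟩, e3⟩ := nor_cjA H.yW ⟨_, (H.rw 0 p (p * p) 0).symm⟩
    have e4 := congrArg (fun t => t * t) e3
    simp only [conj_mul, ← map_mul, sq_eq, wsq] at e4
    rw [(by decide : ∀ p : F, p ≠ 0 → 0 * 0 + p * (p * p) = 1) p hp, cj_of_comm H.yz, ← H.wz] at e4
    obtain ⟨rfl, h1, rfl⟩ := wsq_z p1 q1 m1 (congrArg WW.x (H.winj e4)) (congrArg WW.z (H.winj e4))
    obtain ⟨⟨x2, y2, p2, q2, z2⟩, e5, e6⟩ := a.2 ⟨x1, 0, p1, p1 * p1, z1⟩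
    have k := pa_x m x1 p1 x2 y2 p2 q2 h1 e6
    have e7 : y * ρ (⟨x', y', p', q', z'⟩ * ⟨0, 0, p, p * p, 0⟩) * y⁻¹ =
        ρ (⟨x2, y2, p2, q2, z2⟩ * ⟨x1, 0, p1, p1 * p1, z1⟩) := by
      rw [map_mul, map_mul, ← e1, ← e5, H.rw x1, e3]; group
    have e8 := congrArg (fun t => t * t) e7
    simp only [conj_mul, ← map_mul, sq_eq, mul_def, add_zero, k] at e8
    rw [show zz 0 = 1 from rfl, map_one, conj_eq_one_iff, ← ρ.map_one] at e8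
    exact congrArg PP.z (H.rinj e8)
  exact H.inv0 a' (by simpa using sq_cj e H.yz.inv_left)

theorem inv (a : Mv ρ n π σ) (e : n * n = 1 ∨ n * n = ρ (zz 1)) (hπ : sign π = 1) :
    ∃ k ∈ HH ρ f D, k * n * k⁻¹ ∈ ρ.range ∨ k * n * k⁻¹ ∈ ω.range := by
  obtain ⟨τ, ⟨m, e1⟩, hτ⟩ := cj_pa π hπ ((a.mul a).uniq H.rinj (by
    rcases e with e | e <;> rw [e]
    exacts [ρ.map_one ▸ mv_inn ρ 1, mv_inn ρ _] : Mv ρ (n * n) 1 false)).1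
  obtain ⟨k, -, b⟩ := H.a5 τ hτ
  have a1 := e1 ▸ b.cj H.rinj a
  have e := sq_cj e b.comm
  cases σ
  · exact ⟨k, H.mH b, H.inv0 a1 e⟩
  obtain ⟨u, e2, e3⟩ := a1.2 (sv 0)
  obtain ⟨c, rfl⟩ := eq_of_tt (u := sv 0) (u' := u) fun i => by
    rw [← (pa m).apply_symm_apply i, e3]; clear e1 a1 e3; revert m i; decide
  rcases H.semi a1 e e2 with rfl | rfl
  · refine ⟨y⁻¹ * k, mul_mem (inv_mem H.yH) (H.mH b), ?_⟩
    simpa [mul_assoc] using H.inv1 a1 e (comm_of_cj (e2.trans (congrArg ρ (mul_one _))))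
  · have b' := mv_inn ρ ⟨0, F.w, 0, 0, 0⟩⁻¹
    refine ⟨y⁻¹ * (ρ ⟨0, F.w, 0, 0, 0⟩⁻¹ * k), mul_mem (inv_mem H.yH) (mul_mem (H.mH b') (H.mH b)), ?_⟩
    have := H.inv1 (m := m) (by simpa using b'.cj H.rinj a1) (sq_cj e b'.comm) (comm_cj'' (comm_of_cj (by
      rw [map_inv, inv_inv, rcj, map_mul, ← conj_mul, a1.1]
      exact (congrArg (· * _) e2).trans (by rw [← map_mul, ← map_mul]; rfl))))
    simpa [mul_assoc] using this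

theorem to_r {u : PP} (e : ∃ π : Equiv.Perm (Fin 5), (∀ j, tt (π j) (rr 1) = tt j u) ∧ sign π = 1) :
    ∃ k ∈ HH ρ f D, k * ρ u * k⁻¹ = ρ (rr 1) := by
  obtain ⟨π, e, hπ⟩ := e
  obtain ⟨k, -, b⟩ := H.a5 π hπ
  obtain ⟨u', e1, e2⟩ := b.2 u
  obtain ⟨c, rfl⟩ := eq_of_tt (u := rr 1) (u' := u') fun i => by rw [← π.apply_symm_apply i, e2, e]; rfl
  exact ⟨ρ ⟨0, 0, 0, c, 0⟩ * k, mul_mem (H.mH (mv_inn ρ _)) (H.mH b), by
    rw [cj_mul, e1, rcj]; congr 1; clear e1 e2; revert c; decide⟩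

theorem clsP {u : PP} (e : u * u = 1) (h1 : u ≠ 1) : (∃ k ∈ normalizer (D : Set G), k * ρ u * k⁻¹ = ρ (zz 1)) ∨
    ∃ k ∈ HH ρ f D, k * ρ u * k⁻¹ = ρ (rr 1) := by
  obtain ⟨x, y, p, q, z⟩ := u
  rcases sing x y p q (congrArg PP.z ((sq_eq _).symm.trans e)) with ⟨rfl, rfl, rfl, rfl⟩ | ⟨π, ⟨c, hc, e⟩, hπ⟩ | e
  · have hD := cen_le_nor H.hc
    left
    cases z
    exacts [absurd rfl h1, ⟨1, one_mem _, by simp; rfl⟩, ⟨h * h, mul_mem hD hD, by rw [cj_mul, H.hP, H.hP]; rfl⟩,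
      ⟨h, hD, H.hP _⟩]
  · obtain ⟨k, hk, b⟩ := H.a5 π hπ
    obtain ⟨u', e1, e2⟩ := b.2 ⟨x, y, p, q, z⟩
    obtain ⟨d, rfl⟩ := eq_of_tt (u := ⟨c, 0, 0, 0, 0⟩) (u' := u') fun i => by
      rw [← π.apply_symm_apply i, e2, e]; rfl
    obtain ⟨l, hl, e3⟩ := H.xz c hc
    refine Or.inl ⟨l * (ρ ⟨0, d * fr c, 0, 0, 0⟩ * k), cen_le_nor (mul_mem hl (mul_mem (H.rc _) hk)), ?_⟩
    rw [cj_mul, cj_mul, e1, rcj, ← e3]
    congr 3; clear e e1 e2 e3; revert c d; decide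
  · exact Or.inr (H.to_r e)

theorem clsW {w : WW} (e : w * w = 1) (hm : w.m ≠ 0) : ∃ k ∈ HH ρ f D, k * ω w * k⁻¹ = ρ (rr 1) := by
  obtain ⟨e0, w0, h0, h1, h2⟩ : ∃ e0 w0 : WW, (∀ w : WW, cx w e0 = 0 → w.m = 0) ∧ y * ω e0 * y⁻¹ = ω w0 ∧
      w0.m ≠ 0 ∧ e0 * e0 = 1 := by
    obtain ⟨⟨p1, q1, m1, x1, z1⟩, e1⟩ := nor_cjA H.yW ⟨⟨1, 0, 0, 0, 0⟩, rfl⟩
    obtain ⟨⟨p2, q2, m2, x2, z2⟩, e2⟩ := nor_cjA H.yW ⟨⟨0, F.w, 0, 0, 0⟩, rfl⟩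
    by_cases k1 : m1 = 0
    · refine ⟨_, _, fun w => by simp [cx, show F.w ≠ 0 by decide], e2.symm, ?_, by decide⟩
      rintro rfl
      subst k1
      have := H.yz'
      rw [show zz F.w = ⟨0, 0, 1, 0, 0⟩ * ⟨0, 0, 0, F.w, 0⟩ * ⟨0, 0, 1, 0, 0⟩⁻¹ * ⟨0, 0, 0, F.w, 0⟩⁻¹ by decide,
        map_mul, map_mul, map_mul, map_inv, map_inv, ← conj_mul, ← conj_mul, ← conj_mul, ← conj_inv, ← conj_inv,
        H.rw, H.rw, ← e1, ← e2, ← H.rw, ← H.rw, ← map_inv, ← map_inv, ← map_mul, ← map_mul, ← map_mul] at this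
      simpa [mul_def, inv_def, add_assoc, add_left_comm x2 x1] using congrArg PP.x (H.rinj this)
    · exact ⟨_, _, fun w => by simp [cx], e1.symm, k1, by decide⟩
  have h3 : w0 * w0 = 1 := H.winj (by rw [map_mul, ← h1, conj_mul, ← map_mul, h2.2]; simp)
  obtain ⟨p, q, m, x, z⟩ := w
  obtain ⟨c, k1, k2⟩ := w_trans p q m w0.p w0.q w0.m hm h2.1 (congrArg WW.x ((wsq _).symm.trans e))
    (congrArg WW.x ((wsq _).symm.trans h3))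
  obtain ⟨x', z', e1⟩ := H.yw c p q m x z
  have c1 : Commute (ω ⟨p + c * m * m, q + c * m, m, x', z'⟩) (ω w0) :=
    Commute.map ((comm_iff ⟨p + c * m * m, q + c * m, m, x', z'⟩ w0).2 ⟨k1, k2⟩) ω
  obtain ⟨⟨p1, q1, m1, x1, z1⟩, e2⟩ := nor_cjA (inv_mem H.yW) ⟨⟨p + c * m * m, q + c * m, m, x', z'⟩, rfl⟩
  rw [inv_inv] at e2
  obtain rfl : m1 = 0 := h0 _ ((comm_iff ⟨p1, q1, m1, x1, z1⟩ e0).1 (H.winj (by
    rw [map_mul, map_mul, e2]; exact (comm_cj' (h1 ▸ c1.symm)).symm))).1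
  have e3 := congrArg (fun t => t * t) e2
  simp only [← e1, show ∀ a b : G, y⁻¹ * a * y * (y⁻¹ * b * y) = y⁻¹ * (a * b) * y from fun a b => by group,
    conj_mul, ← map_mul, e, map_one, mul_one, mul_inv_cancel, inv_mul_cancel, wsq] at e3
  obtain ⟨k, hk, e4⟩ := H.to_r (u := ⟨x1, 0, p1, q1, z1⟩) (sing' x1 p1 q1
    (by simpa [mul_comm, WW.one_def] using congrArg WW.z (H.winj (e3.trans ω.map_one.symm))) (by
      by_contra! k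
      obtain ⟨rfl, rfl⟩ := k
      obtain ⟨w, e5⟩ := nor_cjA (inv_mem H.yW) ⟨⟨1, 0, 0, 0, 0⟩, rfl⟩
      have := comm_cj (Commute.map ((comm_iff ⟨0, 0, 0, x1, z1⟩ w).2 ⟨by simp [cx], by simp [cz]⟩) ω) y
      rw [e2, e5] at this
      simp only [inv_inv, mul_assoc, mul_inv_cancel_left, mul_inv_cancel, mul_one] at this
      exact hm (by simpa [cx] using ((comm_iff _ _).1 (H.winj ((map_mul _ _ _).trans
        (this.eq.trans (map_mul _ _ _).symm)))).1)))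
  exact ⟨k * (y⁻¹ * ρ ⟨0, c, 0, 0, 0⟩), mul_mem hk (mul_mem (inv_mem H.yH) (H.mH (mv_inn ρ _))), by
    rw [cj_mul, cj_mul, e1, inv_inv, ← e2, ← H.rw, e4]⟩

theorem inv2 (a : Mv ρ n π σ) (e : n * n = 1) (h1 : n ≠ 1) (hπ : sign π = 1) :
    (∃ k ∈ normalizer (D : Set G), k * n * k⁻¹ = ρ (zz 1)) ∨ ∃ k ∈ HH ρ f D, k * n * k⁻¹ = ρ (rr 1) := by
  obtain ⟨k, hk, c⟩ := H.inv a (Or.inl e) hπ
  have e2 : k * n * k⁻¹ * (k * n * k⁻¹) = 1 := by rw [conj_mul, e]; simp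
  have k1 : ∀ u, ρ u = k * n * k⁻¹ → (∃ k ∈ normalizer (D : Set G), k * n * k⁻¹ = ρ (zz 1)) ∨
      ∃ k ∈ HH ρ f D, k * n * k⁻¹ = ρ (rr 1) := fun u c =>
    (H.clsP (u := u) (H.rinj (by rw [map_mul, c, e2, map_one])) fun e => h1 (by simpa [e] using c.symm)).imp
      (fun ⟨l, hl, e⟩ => ⟨l * k, mul_mem hl hk.1.2, by rw [cj_mul, ← c, e]⟩)
      fun ⟨l, hl, e⟩ => ⟨l * k, mul_mem hl hk, by rw [cj_mul, ← c, e]⟩
  rcases c with ⟨u, c⟩ | ⟨⟨p, q, m, x, z⟩, c⟩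
  · exact k1 u c
  by_cases hm : m = 0
  · exact k1 _ ((H.rw _ _ _ _).trans (hm ▸ c))
  obtain ⟨l, hl, e⟩ := H.clsW (H.winj (by rw [map_mul, c, e2, map_one])) hm
  exact Or.inr ⟨l * k, mul_mem hl hk, by rw [cj_mul, ← c, e]⟩

theorem inv3 (a : Mv ρ n π σ) (hn : IsD A n) (hπ : sign π = 1) : ∃ k ∈ HH ρ f D, k * n * k⁻¹ = ρ (rr 1) :=
  (H.inv2 a hn.1 hn.2.1 hπ).resolve_left fun ⟨k, _, e⟩ => H.nD (e ▸ hn.cj k)

theorem even [IsSimpleGroup G] (a : Mv ρ n π σ) : sign π = 1 := by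
  by_contra hπ
  obtain ⟨i, a, i2, c⟩ : ∃ i, Mv ρ i (Equiv.swap 0 1) false ∧ i * i = 1 ∧ ∀ p, Commute i (ρ (rr p)) := by
    obtain ⟨k, -, b⟩ := H.a5 (Equiv.swap 0 1 * π⁻¹) (by
      rw [map_mul, sign_inv, (Int.units_eq_one_or _).resolve_left hπ, sign_swap (by decide)]; rfl)
    cases σ
    · exact H.outE _ (by simpa using b.mul a)
    · exact H.outE _ (by simpa using (b.mul a).mul H.fmv)
  have i1 : i ≠ 1 := fun e => absurd (a.uniq H.rinj (e ▸ ρ.map_one ▸ mv_inn ρ 1)).1 (by decide)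
  obtain ⟨T, S, iT⟩ := PLocal.Amb.exists_isSyl_ge (p := 2) (PLocal.Amb.isPGroup_zpowers ⟨1, (sq i).trans i2⟩)
    (zpowers_le.2 (H.mem_NN.2 ⟨_, _, a⟩))
  obtain ⟨-, -, S'⟩ := H.syl' S
  choose θ s hθ using fun t : T => H.mem_NN.1 (S.le t.2)
  let ε : T →* ℤˣ := MonoidHom.mk' (fun t => sign (θ t)) fun a b => by
    rw [← map_mul, ((hθ _).uniq H.rinj ((hθ a).mul (hθ b))).1]
  obtain ⟨g, hg⟩ := Transfer.exists_conj_mem_of_no_index_two (P := T) (Q := ε.ker.map T.subtype) (u := i)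
    (fun M hM => by
      rcases (normal_of_index_eq_two hM).eq_bot_or_eq_top with rfl | rfl
      · have := Nat.card_le_card_of_injective ρ H.rinj
        rw [card_PP, ← index_bot, hM] at this
        omega
      · simp at hM)
    (Nat.odd_iff.2 (Nat.two_dvd_ne_zero.1 (by simpa using S'.not_dvd_relIndex))) (by
      rw [relIndex, PLocal.Amb.map_subtype_subgroupOf]
      exact Transfer.index_ker_eq_two (u := ⟨i, iT (mem_zpowers i)⟩) (by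
        change sign (θ _) = _
        rw [((hθ _).uniq H.rinj a).1, sign_swap (by decide)]))
    (orderOf_eq_prime ((sq i).trans i2) i1)
  obtain ⟨g, hg⟩ : ∃ g, g * i * g⁻¹ = ρ (zz 1) := by
    obtain ⟨t, ht, e⟩ := hg
    change (t : G) = _ at e
    rcases H.inv2 (hθ t) (by rw [e, conj_mul, i2]; simp)
      (fun k => i1 (by simpa using e.symm.trans k)) ht with ⟨k, -, e1⟩ | ⟨k, -, e1⟩
    · exact ⟨k * g, by rw [cj_mul, ← e]; exact e1⟩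
    · exact absurd (IsD.of_cj (e ▸ IsD.of_cj (e1 ▸ H.rD 1 one_ne_zero))) (H.out i a i2 c)
  let R : Multiplicative F →* G := (MulAut.conj g).toMonoidHom.comp
    (ρ.comp (MonoidHom.mk' (fun p => rr p.toAdd) fun _ _ => by simp [rr, mul_def]))
  obtain ⟨l, hl, e⟩ := (S'.mono (S.le.trans inf_le_right) le_top).exists_cj_le (R := R.range)
    (isPGroup_iff.2 (by
      rintro _ ⟨p, rfl⟩
      exact ⟨1, by rw [pow_one, ← map_pow, show p ^ 2 = 1 from (sq p).trans (F.add_self p.toAdd), map_one]⟩))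
    (by rintro _ ⟨p, rfl⟩; exact mem_centralizer_singleton_iff.2 (hg ▸ comm_cj (c _).symm g))
  have hg' : l * g * i * (l * g)⁻¹ = ρ (zz 1) := by
    rw [cj_mul, hg, cj_of_comm (mem_centralizer_singleton_iff.1 hl)]
  have m : ∀ p, l * g * ρ (rr p) * (l * g)⁻¹ ∈ T := fun p =>
    cj_mul l g _ ▸ e (PLocal.Amb.conj_mem_cj l ⟨Multiplicative.ofAdd p, rfl⟩)
  generalize l * g = g at hg' m
  obtain ⟨p, hp, k⟩ : ∃ p, p ≠ 0 ∧ ε ⟨_, m p⟩ = 1 := by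
    by_contra! k
    have e : ε ⟨_, m F.v⟩ = ε ⟨_, m F.i⟩ * ε ⟨_, m F.w⟩ := by
      rw [← map_mul]; congr 1; exact Subtype.ext (by simp only [coe_mul, conj_mul, ← map_mul]; rfl)
    rw [(Int.units_eq_one_or _).resolve_left (k F.i (by decide)),
      (Int.units_eq_one_or _).resolve_left (k F.w (by decide))] at e
    exact k F.v (by decide) e
  obtain ⟨k, hk, e⟩ := H.inv3 (hθ ⟨_, m p⟩) ((H.rD p hp).cj g) k
  refine H.out (ρ (rr p) * i) (by simpa using (mv_inn ρ _).mul a)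
    (by rw [(c p).mul_mul_mul_comm, i2, mul_one, ← map_mul, sq_eq]; simp [rr, show zz 0 = 1 from rfl])
    (fun q => (Commute.map (by simp [Commute, SemiconjBy, rr, mul_def, add_comm]) ρ).mul_left (c q))
    (IsD.of_cj (g := g) (IsD.of_cj (g := k) ?_))
  rw [← conj_mul (b := g), hg', ← conj_mul, e, cj_of_comm (mem_centralizer_singleton_iff.1 hk.2), ← map_mul]
  exact rcj ρ ⟨0, 0, 0, 1, 0⟩ (rr 1) ▸ (H.rD 1 one_ne_zero).cj _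

theorem star' (a : Mv ρ n π σ) (e : n * n = 1 ∨ n * n = ρ (zz 1)) (hπ : sign π = 1) : ∃ k ∈ HH ρ f D,
    Eqv (ρ (zz 1)) (n * (k * ρ (rr 1) * k⁻¹) * n⁻¹) (k * ρ (rr 1) * k⁻¹) := by
  obtain ⟨k, hk, c⟩ := H.inv a e hπ
  have kz : Commute k (ρ (zz 1)) := mem_centralizer_singleton_iff.1 hk.2
  have e := sq_cj e kz
  suffices ∃ x, (∃ l ∈ HH ρ f D, l * x * l⁻¹ = ρ (rr 1)) ∧
      Eqv (ρ (zz 1)) (k * n * k⁻¹ * x * (k * n * k⁻¹)⁻¹) x by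
    obtain ⟨x, ⟨l, hl, e1⟩, e2⟩ := this
    exact ⟨k⁻¹ * l⁻¹, mul_mem (inv_mem hk) (inv_mem hl), by simpa [← e1, mul_assoc] using e2.conj kz.inv_left⟩
  have k1 : ∀ u, ρ u = k * n * k⁻¹ → ∃ x, (∃ l ∈ HH ρ f D, l * x * l⁻¹ = ρ (rr 1)) ∧
      Eqv (ρ (zz 1)) (k * n * k⁻¹ * x * (k * n * k⁻¹)⁻¹) x := fun u c => by
    obtain ⟨p, hp, e⟩ := (by decide : ∀ q : F, ∃ p, p ≠ 0 ∧ (q * p = 0 ∨ q * p = 1)) u.q
    exact ⟨_, H.inv3 (mv_inn ρ _) (H.rD p hp) sign_one, by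
      rw [← c, rcj]; exact eqv_of (by simpa [bf, rr] using e)⟩
  rcases c with ⟨u, c⟩ | ⟨⟨p, q, m, x, z⟩, c⟩
  · exact k1 u c
  by_cases hm : m = 0
  · exact k1 _ ((H.rw _ _ _ _).trans (hm ▸ c))
  rw [← c] at e ⊢
  refine ⟨_, H.clsW (w := ⟨p, q, m, x, z⟩) (H.winj ((map_mul _ _ _).trans
    ((e.resolve_right fun e => hm ?_).trans ω.map_one.symm))) hm, Or.inl (by simp)⟩
  rw [← map_mul, wsq, ← H.wz] at e
  exact (wsq_z p q m (congrArg WW.x (H.winj e)) (congrArg WW.z (H.winj e))).1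

end St4

theorem St4.exists_st5 [Finite G] [IsSimpleGroup G] (H : St4 A ρ ω D h f y) : ∃ T, St5 A ρ ω D h f y T := by
  obtain ⟨T, S⟩ := PLocal.Amb.exists_isSyl 2 (St4.NN ρ)
  obtain ⟨PT, fT, S'⟩ := H.syl' S
  have tm : ∀ t ∈ T, ∃ π σ, Mv ρ t π σ := fun t ht => H.mem_NN.1 (S.le ht)
  refine ⟨T, H, H.xs', H.card', fun _ => H.memQ', fun _ _ _ => H.nq', fun _ _ _ => H.chq', S.pgrp,
    by simpa using S'.not_dvd_relIndex, tm, PT, fT, fun c cz hc => ?_, fun i hi e => ?_, fun i hi e h1 => ?_⟩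
  · obtain ⟨_, _, a⟩ := tm _ hc
    obtain ⟨k, hk, e⟩ := H.inv3 a ((H.rD 1 one_ne_zero).cj c) (H.even a)
    have kz : Commute (k * c) (ρ (zz 1)) := Commute.mul_left (mem_centralizer_singleton_iff.1 hk.2) cz
    obtain ⟨_, _, b⟩ := H.mv _ (H.cr _ (comm_of_cj ((cj_mul _ _ _).trans e)) kz) kz
    exact (Subgroup.mul_mem_cancel_left _ hk.1.1).1 (H.nq' b).1
  · obtain ⟨_, _, a⟩ := tm _ hi
    obtain ⟨k, hk, e⟩ := H.star' a e (H.even a)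
    exact ⟨k, hk.1.1, mem_centralizer_singleton_iff.1 hk.2, e⟩
  · obtain ⟨_, _, a⟩ := tm _ hi
    rcases H.inv2 a e h1 (H.even a) with ⟨k, hk, e⟩ | ⟨k, hk, e⟩
    exacts [⟨k, hk, Or.inr e⟩, ⟨k, hk.1.2, Or.inl e⟩]

end Cfsg.Agent.L4S
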