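import Cfsg.Agent.L4S.E2a
import Cfsg.Agent.TT.LX
import Cfsg.Agent.PLocal.AmbSyl

/-! The extraspecial group and the Sylow 2-subgroup. -/

set_option autoImplicit false

namespace Cfsg.Agent.L4S

open Subgroup PP E2 Equiv.Perm
open F (fr)
open Cfsg.Agent.TT (Eqv XS)
open Cfsg.Agent.PLocal.Amb (IsSyl isPGroup_iff)

variable {G : Type*} [Group G] {A : Subgroup G} {ρ : PP →* G} {ω : WW →* G} {D : Subgroup G} {h f y : G}
  {n : G} {π : Equiv.Perm (Fin 5)} {σ : Bool}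

theorem E2.two_odd {e d : G} {k l : ℕ} (c : Commute e d) (he : e ^ 2 ^ k = 1) (hd : Odd (orderOf d))
    (x : (e * d) ^ 2 ^ l = 1) : d = 1 := by
  have : d ^ 2 ^ (k + l) = 1 := by
    have := congrArg (· ^ 2 ^ k) x
    simp only [← pow_mul, one_pow] at this
    rwa [c.mul_pow, mul_comm (2 ^ l), pow_mul e, he, one_pow, one_mul, ← pow_add] at this
  exact orderOf_eq_one_iff.1 (Nat.Coprime.eq_one_of_dvd (Nat.Coprime.pow_right _ hd.coprime_two_right)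
    (orderOf_dvd_of_pow_eq_one this))

theorem E2.rcj (ρ : PP →* G) (a b : PP) : ρ a * ρ b * (ρ a)⁻¹ = ρ (b * zz (bf a b)) := by
  rw [← conj_eq, map_mul, map_mul, map_inv]

theorem E2.z2 (ρ : PP →* G) : ρ (zz 1) * ρ (zz 1) = 1 := by
  rw [← map_mul, zz_mul, F.add_self]; exact map_one ρ

theorem E2.eqv_of {u : PP} {c : F} (hc : c = 0 ∨ c = 1) : Eqv (ρ (zz 1)) (ρ (u * zz c)) (ρ u) := by
  rcases hc with rfl | rfl
  exacts [Or.inl (congrArg ρ (mul_one u)), Or.inr (map_mul _ _ _)]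

theorem E2.eqv_symm {z x y : G} (z2 : z * z = 1) (cx : Commute x z) (cy : Commute y z)
    (e : Eqv z (x * y * x⁻¹) y) : Eqv z (y * x * y⁻¹) x := by
  rcases e with e | e
  · exact Or.inl (cj_of_comm (comm_of_cj e).symm)
  · refine Or.inr ?_
    rw [show y * x * y⁻¹ = y * z * z * x * y⁻¹ by rw [mul_assoc y z, z2, mul_one], ← e, mul_assoc _ z, ← cx.eq,
      ← mul_assoc, inv_mul_cancel_right, mul_assoc x, ← cy.symm.eq]
    group

theorem Mv.cj {m : G} {τ : Equiv.Perm (Fin 5)} {s : Bool} (hρ : Function.Injective ρ) (a : Mv ρ m τ s)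
    (c : Mv ρ n π σ) : Mv ρ (m * n * m⁻¹) (τ * π * τ⁻¹) σ := by
  have := (a.mul c).mul (a.inv hρ)
  rwa [show xor (xor s σ) s = σ by cases s <;> cases σ <;> rfl] at this

namespace St4

variable (H : St4 A ρ ω D h f y)
include H

theorem rd {d : G} (hd : d ∈ D) (u : PP) : Commute (ρ u) d := mem_cen.1 (H.rc u) d hd

theorem of_eqv {u : PP} {c : F} (e : Eqv (ρ (zz 1)) (ρ (u * zz c)) (ρ u)) : c = 0 ∨ c = 1 :=
  e.imp (fun e => congrArg PP.z (mul_eq_left.1 (H.rinj e))) fun e =>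
    congrArg PP.z (mul_left_cancel (H.rinj (e.trans (map_mul _ _ _).symm)))

theorem ker2 (a : Mv ρ n 1 false) (e : ∃ k, n ^ 2 ^ k = 1) : ∃ u, n = ρ u := by
  obtain ⟨u, d, hd, rfl⟩ := H.ker n a
  obtain ⟨k, e⟩ := e
  obtain rfl := two_odd (k := 2) (H.rd hd u) (by rw [← map_pow]; exact (congrArg ρ (pow4 u)).trans ρ.map_one)
    (H.odd d hd) e
  exact ⟨u, mul_one _⟩

/-- `n = m * ρ u` if `n` and `m` have the same type -/
theorem ker3 {m : G} (a : Mv ρ n π σ) (e : ∃ k, n ^ 2 ^ k = 1) (c : Mv ρ m π σ) (m2 : ∃ u, m * m = ρ u)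
    (hm : m ∈ centralizer (D : Set G)) : ∃ u, n = m * ρ u := by
  obtain ⟨u, d, hd, e1⟩ := H.ker (m⁻¹ * n) (by simpa using (c.inv H.rinj).mul a)
  obtain ⟨k, e⟩ := e
  obtain ⟨u0, m2⟩ := m2
  obtain ⟨u', e2, -⟩ := (c.inv H.rinj).2 u
  rw [inv_mul_eq_iff_eq_mul, ← mul_assoc] at e1
  obtain rfl := two_odd (k := 3) (l := k) ((mem_cen.1 hm d hd).mul_left (H.rd hd u)) (by
    rw [show 2 ^ 3 = 2 * 4 from rfl, pow_mul, sq, show m * ρ u * (m * ρ u) = m * m * (m⁻¹ * ρ u * m⁻¹⁻¹) * ρ u by group,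
      m2, e2, ← map_mul, ← map_mul, ← map_pow, pow4, map_one]) (H.odd d hd) (e1 ▸ e)
  exact ⟨u, e1.trans (mul_one _)⟩

theorem semi (a : Mv ρ n π true) (e : n * n = 1 ∨ n * n = ρ (zz 1)) {u : PP} {c : F}
    (k : n * ρ u * n⁻¹ = ρ (u * zz c)) : c = 0 ∨ c = 1 := by
  have e1 : n * n * ρ u * (n * n)⁻¹ = ρ u := by
    rcases e with e | e <;> rw [e]
    exacts [by simp, cj_of_comm (Commute.map (zz_comm 1 u) ρ)]
  rw [cj_mul, k, map_mul, ← conj_mul, k, a.1, ← map_mul, mul_assoc, zz_mul] at e1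
  exact (by decide : ∀ c, c + fs true c = 0 → c = 0 ∨ c = 1) c (congrArg PP.z (mul_eq_left.1 (H.rinj e1)))

theorem fQ0 {u : PP} (hu : u ∈ Q0) : Eqv (ρ (zz 1)) (f * ρ u * f⁻¹) (ρ u) := by
  obtain ⟨u', e1, e2⟩ := H.fmv.2 u
  obtain ⟨c, rfl⟩ := eq_of_tt (u := u) (u' := u') fun i => (e2 i).trans (by rcases hu i with e | e <;> rw [e] <;> rfl)
  exact e1 ▸ eqv_of (H.semi H.fmv (Or.inl H.fsq) e1)

theorem memQ' {x : G} : x ∈ QQ ρ f ↔ ∃ u ∈ Q0, x = ρ u ∨ x = f * ρ u := by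
  have : Finite (Q0.map ρ : Set G) := (Set.toFinite _).image ρ
  have hn : zpowers f ≤ normalizer (Q0.map ρ : Set G) := zpowers_le.2 (mem_normalizer_fintype (by
    rintro _ ⟨u, hu, rfl⟩
    exact (H.fQ0 hu).mem (mem_map_of_mem ρ (zz_mem 1)) (mem_map_of_mem ρ hu)))
  rw [QQ, sup_comm, PLocal.Amb.mem_sup_of_le_normalizer_right hn]
  constructor
  · rintro ⟨a, ha, _, ⟨u, hu, rfl⟩, rfl⟩
    rcases (TT.mem_zpowers_invol H.fsq).1 ha with rfl | rfl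
    exacts [⟨u, hu, Or.inl (one_mul _)⟩, ⟨u, hu, Or.inr rfl⟩]
  · rintro ⟨u, hu, rfl | rfl⟩
    exacts [⟨1, one_mem _, _, mem_map_of_mem ρ hu, (one_mul _).symm⟩, ⟨f, mem_zpowers f, _, mem_map_of_mem ρ hu, rfl⟩]

theorem rQ {u : PP} (hu : u ∈ Q0) : ρ u ∈ QQ ρ f := H.memQ'.2 ⟨u, hu, Or.inl rfl⟩

theorem fQ : f ∈ QQ ρ f := H.memQ'.2 ⟨1, one_mem _, Or.inr (by simp)⟩

theorem mv_fr (u : PP) : Mv ρ (f * ρ u) 1 true := by simpa using H.fmv.mul (mv_inn ρ u)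

theorem fr_ne (u u' : PP) : f * ρ u ≠ ρ u' := fun e =>
  absurd ((H.mv_fr u).uniq H.rinj (e ▸ mv_inn ρ u')).2 (by decide)

theorem z_ne : ρ (zz 1) ≠ 1 := fun e => absurd (H.rinj (e.trans ρ.map_one.symm)) (by decide)

theorem cen_z (a : Mv ρ n π σ) (c : Commute n (ρ (zz F.w))) : σ = false := by
  exact (by decide : ∀ σ, zz (fs σ F.w) = zz F.w → σ = false) σ (H.rinj ((a.1 F.w).symm.trans (cj_of_comm c)))

theorem xs' : XS (QQ ρ f) (ρ (zz 1)) := by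
  have cz : ∀ x ∈ QQ ρ f, Commute x (ρ (zz 1)) := fun x hx => by
    obtain ⟨u, -, rfl | rfl⟩ := H.memQ'.1 hx
    exacts [(mv_inn ρ u).comm, (H.mv_fr u).comm]
  have k1 : ∀ u ∈ Q0, ∀ x ∈ QQ ρ f, Eqv (ρ (zz 1)) (x * ρ u * x⁻¹) (ρ u) := fun u hu x hx => by
    have k : ∀ u' ∈ Q0, Eqv (ρ (zz 1)) (ρ u' * ρ u * (ρ u')⁻¹) (ρ u) := fun u' hu' =>
      rcj ρ u' u ▸ eqv_of (bf_mem _ _ _ _ _ _ _ _ hu' hu)
    obtain ⟨u', hu', rfl | rfl⟩ := H.memQ'.1 hx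
    · exact k u' hu'
    · rw [cj_mul]; exact ((k u' hu').conj H.fmv.comm).trans (z2 ρ) (H.fQ0 hu)
  refine ⟨H.rQ (zz_mem 1), H.z_ne, z2 ρ, cz, fun x hx x' hx' => ?_, fun x hx c => ?_,
    f, H.fQ, by simpa using H.fr_ne 1 1, by simpa using H.fr_ne 1 (zz 1)⟩
  · have : Eqv (ρ (zz 1)) (x * x' * x⁻¹) x' := by
      obtain ⟨u, hu, rfl | rfl⟩ := H.memQ'.1 hx'
      · exact k1 u hu x hx
      · rw [← conj_mul]
        refine (((?_ : Eqv _ _ f).mul_right (cz _ (mul_mem (mul_mem hx (H.rQ hu)) (inv_mem hx))))).trans (z2 ρ)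
          ((k1 u hu x hx).mul_left f)
        obtain ⟨u', hu', rfl | rfl⟩ := H.memQ'.1 hx
        · exact eqv_symm (z2 ρ) H.fmv.comm (cz _ hx) (H.fQ0 hu')
        · rw [cj_mul]
          simpa using (eqv_symm (z2 ρ) H.fmv.comm (cz _ (H.rQ hu')) (H.fQ0 hu')).conj H.fmv.comm
    simpa [Eqv] using this.mul_right (cz x hx)
  · obtain ⟨u, hu, rfl | rfl⟩ := H.memQ'.1 hx
    · have e := tt_eq_zero u fun i => congrArg PP.z (mul_eq_left.1 (H.rinj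
        ((rcj ρ u (sv i)).symm.trans (cj_of_comm (c _ (H.rQ (sv_mem i)))))))
      have := H.rinj ((H.fmv.1 u.z).symm.trans (cj_of_comm (e ▸ (c f H.fQ).symm)))
      rw [e]
      generalize u.z = t at this
      cases t
      exacts [Or.inl ρ.map_one, Or.inr rfl, absurd this (by decide), absurd this (by decide)]
    · exact absurd (H.cen_z (H.mv_fr u) (c _ (H.rQ (zz_mem _)))) (by decide)

theorem card' : Nat.card (QQ ρ f) = 128 := by
  refine (Nat.card_eq_of_bijective (fun p : Q0 × Bool => (⟨cond p.2 f 1 * ρ p.1,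
    mul_mem (by cases p.2; exacts [one_mem _, H.fQ]) (H.rQ p.1.2)⟩ : QQ ρ f)) ⟨?_, ?_⟩).symm.trans
      (by rw [Nat.card_prod, card_Q0]; simp)
  · rintro ⟨v, a⟩ ⟨w, b⟩ e
    have e : cond a f 1 * ρ v = cond b f 1 * ρ w := congrArg Subtype.val e
    cases a <;> cases b
    exacts [by rw [Subtype.ext (H.rinj (mul_left_cancel e))], absurd (e.symm.trans (one_mul _)) (H.fr_ne _ _),
      absurd (e.trans (one_mul _)) (H.fr_ne _ _), by rw [Subtype.ext (H.rinj (mul_left_cancel e))]]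
  · rintro ⟨g, hg⟩
    obtain ⟨u, hu, rfl | rfl⟩ := H.memQ'.1 hg
    exacts [⟨(⟨u, hu⟩, false), Subtype.ext (one_mul _)⟩, ⟨(⟨u, hu⟩, true), rfl⟩]

theorem nq' [Finite G] (a : Mv ρ n π σ) : n ∈ normalizer (QQ ρ f : Set G) ⊓ normalizer (D : Set G) := by
  have k : ∀ u ∈ Q0, n * ρ u * n⁻¹ ∈ QQ ρ f := fun u hu => by
    obtain ⟨u', e1, e2⟩ := a.2 u
    refine e1 ▸ H.rQ fun i => ?_
    rw [← π.apply_symm_apply i, e2]
    rcases hu (π.symm i) with e | e <;> rw [e] <;> cases σ <;> decide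
  refine ⟨mem_normalizer_fintype fun x hx => ?_, mem_normalizer_fintype fun d hd => ?_⟩
  · obtain ⟨u, hu, rfl | rfl⟩ := H.memQ'.1 hx
    · exact k u hu
    rw [← conj_mul]
    refine mul_mem ?_ (k u hu)
    have e2 : n * f * n⁻¹ * (n * f * n⁻¹) = 1 := by rw [conj_mul, H.fsq]; simp
    obtain ⟨u, e⟩ := H.ker3 (π := 1) (by simpa using a.cj H.rinj H.fmv) ⟨1, (sq _).trans e2⟩ H.fmv
      ⟨1, H.fsq.trans ρ.map_one.symm⟩ H.fc
    obtain ⟨u', e3, e4⟩ := H.fmv.2 u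
    rw [e, ← mul_assoc, ← inv_eq_of_mul_eq_one_left H.fsq, ← inv_inv f⁻¹, inv_inv, inv_eq_of_mul_eq_one_left H.fsq] at e2
    nth_rw 2 [← inv_eq_of_mul_eq_one_left H.fsq] at e2
    rw [e3, ← map_mul, ← ρ.map_one] at e2
    refine H.memQ'.2 ⟨u, fun i => ?_, Or.inr e⟩
    have := congrArg (tt i) (H.rinj e2)
    rw [tt_mul, show tt i u' = _ from e4 i, show tt i 1 = 0 from tt_zz i 0] at this
    revert this; generalize tt i u = t; revert t; decide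
  · obtain ⟨u, d', hd', e⟩ := H.ker (n * d * n⁻¹) (mv_of_comm fun u => comm_cj'' (by
      obtain ⟨u', e, -⟩ := (a.inv H.rinj).2 u
      rw [inv_inv] at e
      exact e ▸ (H.rd hd u').symm))
    have o : Odd (orderOf (n * d * n⁻¹)) := by
      rw [show orderOf (n * d * n⁻¹) = orderOf d from
        orderOf_injective (MulAut.conj n).toMonoidHom (MulAut.conj n).injective d]
      exact H.odd d hd
    have e1 : ρ u ^ (orderOf (n * d * n⁻¹) * orderOf d') = 1 := by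
      have := pow_orderOf_eq_one (n * d * n⁻¹)
      generalize orderOf (n * d * n⁻¹) = m at this
      have := congrArg (· ^ orderOf d') this
      simp only [e, ← pow_mul, one_pow] at this
      rwa [(H.rd hd' u).mul_pow, mul_comm m, pow_mul d', pow_orderOf_eq_one, one_pow, mul_one, mul_comm _ m] at this
    have e2 : ρ u = 1 := orderOf_eq_one_iff.1 (Nat.Coprime.eq_one_of_dvd
      (Nat.Coprime.pow_right 2 ((o.mul (H.odd d' hd')).of_dvd_nat (orderOf_dvd_of_pow_eq_one e1)).coprime_two_right)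
      (orderOf_dvd_of_pow_eq_one (by rw [← map_pow]; exact (congrArg ρ (pow4 u)).trans ρ.map_one)))
    rwa [e, e2, one_mul]

theorem chq' (a : Mv ρ n π σ) (e : ∃ k, n ^ 2 ^ k = 1)
    (c : ∀ i, Eqv (ρ (zz 1)) (n * ρ (sv i) * n⁻¹) (ρ (sv i))) : n ∈ QQ ρ f := by
  obtain rfl : π = 1 := Equiv.ext fun i => by
    obtain ⟨u, e1, e2⟩ := a.2 (sv i)
    have := e2 i
    rw [(tt_sv i i).2 rfl, show fs σ 0 = 0 by cases σ <;> rfl] at this
    rcases c i with k | k <;> rw [e1] at k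
    · exact (tt_sv _ _).1 (H.rinj k ▸ this)
    · rw [H.rinj (k.trans (map_mul _ _ _).symm), tt_mul, tt_zz, add_zero] at this
      exact (tt_sv _ _).1 this
  cases σ
  · obtain ⟨u, rfl⟩ := H.ker2 a e
    exact H.rQ fun i => H.of_eqv (rcj ρ u (sv i) ▸ c i)
  · obtain ⟨u, rfl⟩ := H.ker3 a e H.fmv ⟨1, H.fsq.trans ρ.map_one.symm⟩ H.fc
    refine H.memQ'.2 ⟨u, fun i => H.of_eqv (u := sv i) ?_, Or.inr rfl⟩
    have := ((c i).trans (z2 ρ) ((H.fQ0 (sv_mem i)).symm (z2 ρ))).conj H.fmv.comm.inv_left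
    rw [cj_mul, rcj] at this
    simpa [mul_assoc, tt] using this

/-- the group `N(P) ∩ C(z)` -/
abbrev NN (ρ : PP →* G) : Subgroup G := normalizer (ρ.range : Set G) ⊓ centralizer {ρ (zz 1)}

theorem mem_NN : n ∈ NN ρ ↔ ∃ π σ, Mv ρ n π σ :=
  ⟨fun a => H.mv n a.1 (mem_centralizer_singleton_iff.1 a.2),
    fun ⟨_, _, a⟩ => ⟨a.nor, mem_centralizer_singleton_iff.2 a.comm⟩⟩

theorem card_ker (θ : PP →* Equiv.Perm (Fin 5)) (hθ : ∀ u, Mv ρ (n * ρ u * n⁻¹) (θ u) false)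
    (hz : ∀ c, ∃ c', n * ρ (zz c) * n⁻¹ = ρ (zz c')) : θ = 1 := by
  have k : ∀ u : θ.ker, ∃ u', n * ρ u * n⁻¹ = ρ u' := fun u => H.ker2 (MonoidHom.mem_ker.1 u.2 ▸ hθ u)
    ⟨2, by rw [conj_pow, ← map_pow, show 2 ^ 2 = 4 from rfl, pow4]; simp⟩
  choose φ hφ using k
  have fx : ∀ u0 u i, tt (θ u0 i) (φ u) = tt i (φ u) := fun u0 u i => by
    obtain ⟨u', e1, e2⟩ := (hθ u0).2 (φ u)
    obtain ⟨c, e⟩ := hz (bf u0 u)
    rw [← hφ, show n * ρ u0 * n⁻¹ * (n * ρ u * n⁻¹) * (n * ρ u0 * n⁻¹)⁻¹ = n * (ρ u0 * ρ u * (ρ u0)⁻¹) * n⁻¹ by group,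
      rcj, map_mul, ← conj_mul, hφ, e, ← map_mul] at e1
    simpa [← H.rinj e1, tt_mul, tt_zz, fs] using e2 i
  have le : ∀ (P : PP → Prop) [DecidablePred P], (∀ u, P (φ u)) → Nat.card θ.ker ≤ Fintype.card {u // P u} :=
    fun P _ hP => Nat.card_eq_fintype_card (α := {u // P u}) ▸ Nat.card_le_card_of_injective
      (fun u => (⟨φ u, hP u⟩ : {u // P u})) fun u u' e => Subtype.ext (H.rinj (by
        simpa [← hφ] using congrArg (fun x => ρ x.1) e))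
  have c := θ.ker.card_mul_index
  rw [index_ker, card_PP] at c
  by_contra ne
  by_cases ev : ∃ u, θ u ≠ 1 ∧ sign (θ u) = 1
  · obtain ⟨u, h1, h2⟩ := ev
    obtain ⟨c', e⟩ := hz (u.x * u.y + u.p * u.q)
    obtain ⟨i, k, a1, a2, a3, a4, a5, a6⟩ := two_pairs (θ u) (by
      rw [← map_mul, sq_eq]; exact ((hθ _).uniq H.rinj (e ▸ mv_inn ρ _)).1) h1 h2
    have := (le _ fun u' => ⟨fx u u' i, fx u u' k⟩).trans (card_fix2 _ _ _ _ a1 a2 a3 a4 a5 a6)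
    have d1 : Nat.card θ.range ∣ Nat.factorial 5 := by
      simpa only [Nat.card_perm, Nat.card_fin] using card_subgroup_dvd_card θ.range
    have d2 := Nat.le_of_dvd (by decide) (Nat.dvd_gcd d1 (Dvd.intro_left _ c))
    exact absurd (c ▸ Nat.mul_le_mul this d2) (by decide)
  · obtain ⟨u, i, hi⟩ : ∃ u i, i ≠ θ u i := by
      by_contra! k
      exact ne (MonoidHom.ext fun u => Equiv.ext fun i => (k u i).symm)
    have := (le _ fun u' => fx u u' i).trans (card_fix1 _ _ hi)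
    have d : Nat.card θ.range ≤ Nat.card ℤˣ := Nat.card_le_card_of_injective (sign.comp θ.range.subtype)
      ((injective_iff_map_eq_one _).2 (by
        rintro ⟨_, u, rfl⟩ e
        exact Subtype.ext (by_contra fun k => ev ⟨u, k, e⟩)))
    rw [Nat.card_eq_fintype_card (α := ℤˣ), Fintype.card_units_int] at d
    exact absurd (c ▸ Nat.mul_le_mul this d) (by decide)

theorem syl' [Finite G] {T : Subgroup G} (S : IsSyl 2 T (NN ρ)) : ρ.range ≤ T ∧ f ∈ T ∧ IsSyl 2 T ⊤ := by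
  have p4 : ∀ u, ρ u ^ 2 ^ 2 = 1 := fun u => by rw [← map_pow]; exact (congrArg ρ (pow4 u)).trans ρ.map_one
  have PT : ρ.range ≤ T := S.le_of_le_normalizer (isPGroup_iff.2 (by rintro _ ⟨u, rfl⟩; exact ⟨2, p4 u⟩))
    (by rintro _ ⟨u, rfl⟩; exact H.mem_NN.2 ⟨_, _, mv_inn ρ u⟩) (S.le.trans inf_le_left)
  have tm : ∀ t ∈ T, ∃ π σ, Mv ρ t π σ := fun t ht => H.mem_NN.1 (S.le ht)
  have fT : f ∈ T := S.le_of_le_normalizer (R := QQ ρ f) (IsPGroup.of_card (n := 7) H.card') (fun x hx => by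
    obtain ⟨u, -, rfl | rfl⟩ := H.memQ'.1 hx
    exacts [H.mem_NN.2 ⟨_, _, mv_inn ρ u⟩, H.mem_NN.2 ⟨_, _, H.mv_fr u⟩])
    (fun t ht => (tm t ht).elim fun _ a => a.elim fun _ a => (H.nq' a).1) H.fQ
  have t2 := isPGroup_iff.1 S.pgrp
  have hz : ∀ n ∈ normalizer (T : Set G), n * ρ (zz 1) * n⁻¹ = ρ (zz 1) := fun n hn => by
    have m := nor_cjA hn (PT ⟨zz 1, rfl⟩)
    have c : ∀ t ∈ T, Commute (n * ρ (zz 1) * n⁻¹) t := fun t ht => comm_cj'' (by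
      obtain ⟨_, _, a⟩ := tm _ (by simpa using nor_cjA (inv_mem hn) ht)
      exact a.comm.symm)
    obtain ⟨u, e⟩ := H.ker2 (mv_of_comm fun u => c _ (PT ⟨u, rfl⟩)) (t2 _ m)
    rcases H.xs'.cent _ (H.chq' (e ▸ mv_inn ρ u) (t2 _ m) fun i => Or.inl (cj_of_comm (c _ (PT ⟨_, rfl⟩))))
      (fun x hx => by
        obtain ⟨u, -, rfl | rfl⟩ := H.memQ'.1 hx
        exacts [c _ (PT ⟨u, rfl⟩), c _ (mul_mem fT (PT ⟨u, rfl⟩))]) with k | k
    exacts [absurd (by simpa using k) H.z_ne, k]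
  have hw : ∀ n ∈ normalizer (T : Set G), ∃ c, n * ρ (zz F.w) * n⁻¹ = ρ (zz c) := fun n hn => by
    have m := nor_cjA hn (PT ⟨zz F.w, rfl⟩)
    have c : ∀ u, Eqv (ρ (zz 1)) (n * ρ (zz F.w) * n⁻¹ * ρ u * (n * ρ (zz F.w) * n⁻¹)⁻¹) (ρ u) := fun u => by
      obtain ⟨_, _, a⟩ := tm _ m
      refine eqv_symm (z2 ρ) (mv_inn ρ u).comm a.comm ?_
      obtain ⟨_, σ, a⟩ := tm _ (nor_cjA (inv_mem hn) (PT ⟨u, rfl⟩))
      have : Eqv (ρ (zz 1)) _ _ := a.1 F.w ▸ (by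
        cases σ
        exacts [Or.inl rfl, Or.inr (by rw [← map_mul]; rfl)] : Eqv (ρ (zz 1)) (ρ (zz (fs σ F.w))) (ρ (zz F.w)))
      simpa [mul_assoc] using this.conj (comm_of_cj (hz n hn))
    obtain ⟨π, σ, a⟩ := tm _ m
    obtain ⟨u, hu, e | e⟩ := H.memQ'.1 (H.chq' a (t2 _ m) fun i => c _) <;> rw [e] at c ⊢
    · obtain ⟨x, y, p, q, z⟩ := u
      obtain ⟨rfl, rfl, rfl, rfl⟩ := cen_of_bf x y p q hu fun x' y' p' q' =>
        H.of_eqv (rcj ρ ⟨x, y, p, q, z⟩ ⟨x', y', p', q', 0⟩ ▸ c _)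
      exact ⟨z, rfl⟩
    · obtain ⟨u', e1, e2⟩ := (H.mv_fr u).2 ⟨F.w, 0, 0, 0, 0⟩
      have := e2 1
      rcases c ⟨F.w, 0, 0, 0, 0⟩ with k | k <;> rw [e1] at k
      · exact absurd (H.rinj k ▸ this) (by decide)
      · exact absurd (H.rinj (k.trans (map_mul _ _ _).symm) ▸ this) (by decide)
  have hZ : ∀ n ∈ normalizer (T : Set G), ∀ c, ∃ c', n * ρ (zz c) * n⁻¹ = ρ (zz c') := fun n hn c => by
    obtain ⟨c', e⟩ := hw n hn
    cases c
    exacts [⟨0, cj_of_comm (show Commute n (ρ 1) by simp)⟩, ⟨1, hz n hn⟩, ⟨c', e⟩,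
      ⟨1 + c', by rw [← zz_mul, map_mul, ← e, ← hz n hn, conj_mul, ← map_mul]; rfl⟩]
  refine ⟨PT, fT, PLocal.Amb.isSyl_of_isSyl_normalizer (S.mono (le_inf le_top le_normalizer) fun n hn => ?_)⟩
  have k : ∀ u, ∃ π, Mv ρ (n * ρ u * n⁻¹) π false := fun u => by
    obtain ⟨π, σ, a⟩ := tm _ (nor_cjA hn.2 (PT ⟨u, rfl⟩))
    obtain ⟨c, e⟩ := hZ _ (inv_mem hn.2) F.w
    rw [inv_inv] at e
    exact ⟨π, H.cen_z a (comm_cj'' (e ▸ (Commute.map (zz_comm c u) ρ).symm)) ▸ a⟩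
  choose θ hθ using k
  have := H.card_ker (MonoidHom.mk' θ fun a b => ((hθ _).uniq H.rinj (by
    simpa only [conj_mul, ← map_mul] using (hθ a).mul (hθ b))).1) hθ (hZ n hn.2)
  refine ⟨mem_normalizer_fintype ?_, mem_centralizer_singleton_iff.2 (comm_of_cj (hz n hn.2))⟩
  rintro _ ⟨u, rfl⟩
  have e1 : θ u = 1 := DFunLike.congr_fun this u
  obtain ⟨u', e⟩ := H.ker2 (e1 ▸ hθ u) ⟨2, by rw [conj_pow, p4]; simp⟩
  exact ⟨u', e.symm⟩

end St4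

end Cfsg.Agent.L4S
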