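import Cfsg.Agent.L4S.DE

/-! Standard subgroups `L₃(4)`, case `κ₁ = κ₂ = 0`: the Heisenberg group over `E`. -/

set_option autoImplicit false
set_option synthInstance.maxSize 4000
set_option maxRecDepth 100000

namespace Cfsg.Agent.L4S

namespace Dd

open Subgroup E

variable {G : Type*} [Group G] {A : Subgroup G} {ψ : U →* G} {α : G → B} {ν : G → Bool × Bool} {h n1 n2 : G}
  {b : Bool} {r : F → G} {g : G} {D : Subgroup G} {s : F → G}

/-- `U` is the centraliser of the involution `t ∈ C(A)` in a Heisenberg group over `E` -/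
structure St3 (A : Subgroup G) (ψ : U →* G) (α : G → B) (ν : G → Bool × Bool) (h n1 n2 : G) (μ : F)
    (ρ : Hs μ →* G) (t : G) : Prop extends Cfg A ψ α ν h n1 n2 where
  rinj : Function.Injective ρ
  rpsi : ∀ u, ρ (ιH u) = ψ u
  tact : ∀ u, t * ρ u * t⁻¹ = ρ (stH u)
  tK : t ∈ centralizer (A : Set G)
  tsq : t * t = 1
  tne : t ≠ 1
  tcen : ∀ k ∈ centralizer (A : Set G), (∃ n, k ^ 2 ^ n = 1) → Commute k t → k = 1 ∨ k = t

theorem bilin (ζ : F → F → F) (h1 : ∀ c c' m, ζ (c + c') m = ζ c m + ζ c' m)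
    (h2 : ∀ c m m', ζ c (m + m') = ζ c m + ζ c m') (h3 : ∀ c m, ζ (F.v * c) (F.v * m) = F.w * ζ c m) :
    ∃ k, ∀ c m, ζ c m = k * c * m := by
  have z1 : ∀ m, ζ F.o m = 0 := fun m => show ζ 0 m = 0 by simpa using h1 0 0 m
  have z2 : ∀ m, ζ m F.o = 0 := fun m => show ζ m 0 = 0 by simpa using h2 m 0 0
  have v1 : ∀ m, ζ F.v m = ζ F.i m + ζ F.w m := h1 F.i F.w
  have v2 : ∀ m, ζ m F.v = ζ m F.i + ζ m F.w := fun m => h2 m F.i F.w
  have e1 : ζ F.v F.i = _ := h3 F.i F.w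
  have e2 : ζ F.i F.v = _ := h3 F.w F.i
  have e3 : ζ F.i F.i = _ := h3 F.w F.w
  rw [v1] at e1; rw [v2] at e2
  refine ⟨ζ F.i F.i, fun c m => ?_⟩
  cases c <;> cases m <;> (try simp only [z1, z2, v1, v2]) <;> revert e1 e2 e3 <;>
    generalize ζ F.i F.i = a <;> generalize ζ F.i F.w = b <;> generalize ζ F.w F.i = c <;>
    generalize ζ F.w F.w = d <;> decide +revert

theorem mk_mulU (a b c d e f : F) : (⟨a, b, c⟩ : U) * ⟨d, e, f⟩ = ⟨a + d, b + e, c + f + a * e⟩ := rfl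

theorem lmul {a1 a2 b z1 z2 : G} (h1 : a1 * b = b * a1 * z1) (h2 : a2 * b = b * a2 * z2) (c : Commute z1 a2) :
    a1 * a2 * b = b * (a1 * a2) * (z1 * z2) := by
  rw [mul_assoc, h2, ← mul_assoc, ← mul_assoc, h1, mul_assoc _ z1, c.eq]; simp only [mul_assoc]

theorem rmul {a b1 b2 z1 z2 : G} (h1 : a * b1 = b1 * a * z1) (h2 : a * b2 = b2 * a * z2) (c : Commute z1 b2) :
    a * (b1 * b2) = b1 * b2 * a * (z2 * z1) := by
  rw [← mul_assoc, h1, mul_assoc _ z1, c.eq, ← mul_assoc, mul_assoc b1, h2]; simp only [mul_assoc]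

theorem inv_of_sq {a : G} (h : a * a = 1) : a⁻¹ = a := inv_eq_of_mul_eq_one_right h

/-- the translations `a_m` -/
def aa (n : G) (s : F → G) (m : F) : G := n * s m * n⁻¹

end Dd

namespace St2

open Subgroup Dd E

variable {G : Type*} [Group G] {A : Subgroup G} {ψ : U →* G} {α : G → B} {ν : G → Bool × Bool} {h n1 n2 : G}
  {b : Bool} {r : F → G} {g : G} {D : Subgroup G} {s : F → G}

variable (H : St2 A ψ α ν h n1 n2 b r g D s 0 0)
include H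

theorem d_s0 : s 0 = 1 := by simpa using H.sadd 0 0
theorem d_ssq (q : F) : s q * s q = 1 := by rw [← H.sadd, F.add_self, H.d_s0]
theorem d_ss (p q : F) : Commute (s p) (s q) := by rw [Commute, SemiconjBy, ← H.sadd, ← H.sadd, add_comm]
theorem d_sw (q : F) (u : U) (x : G) : s q * (ψ u * x) = ψ u * (s q * x) := (H.sU q u).left_comm x
theorem d_ss' (p q : F) (x : G) : s p * (s q * x) = s (p + q) * x := by rw [H.sadd, mul_assoc]
omit H in
theorem d_pp (u v : U) (x : G) : ψ u * (ψ v * x) = ψ (u * v) * x := by rw [map_mul, mul_assoc]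

theorem d_aadd (m n : F) : aa n1 s (m + n) = aa n1 s m * aa n1 s n := by rw [aa, aa, aa, H.sadd]; group
theorem d_a0 : aa n1 s 0 = 1 := by rw [aa, H.d_s0]; group
theorem d_asq (m : F) : aa n1 s m * aa n1 s m = 1 := by rw [← H.d_aadd, F.add_self, H.d_a0]
theorem d_aV (m x z : F) : Commute (aa n1 s m) (ψ ⟨x, 0, z⟩) := by
  rw [← H.n1act]; exact comm_cj (H.sU _ _) _
theorem d_as (m q : F) : Commute (aa n1 s m) (s q) :=
  comm_of_cj ((H.as1 m q).trans (by simp [← U.one_def]))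
theorem d_aD (m : F) {d : G} (hd : d ∈ D) : Commute (aa n1 s m) d := by
  have c := mem_cen.1 ((H.memD d).1 hd).1 _ H.n1A
  exact (c.symm.mul_left (H.sD m d hd)).mul_left c.symm.inv_left
theorem d_ra {p : F} (hp : Sp b p) (m : F) : r p * aa n1 s m * (r p)⁻¹ = aa n1 s m * ψ ⟨p * m, 0, 0⟩ := by
  have c := cj_of_comm (mem_cen.1 (H.rK p hp) _ H.n1A)
  calc _ = r p * n1 * (r p)⁻¹ * (r p * s m * (r p)⁻¹) * (r p * n1 * (r p)⁻¹)⁻¹ := by rw [aa]; group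
    _ = _ := by rw [c, H.rs p m hp, ← H.n1act 0 (p * m), aa]; group
theorem d_ha (m : F) : h * aa n1 s m * h⁻¹ = aa n1 s (F.v * m) := by
  have e : h * n1 = n1 * h⁻¹ := by
    rw [← H.n1h, ← mul_assoc, ← mul_assoc, H.n1sq, one_mul, inv_of_sq H.n1sq]
  have e2 := H.hs (F.v * m)
  rw [← mul_assoc F.w, show F.w * F.v = 1 from rfl, one_mul] at e2
  calc _ = h * n1 * s m * (h * n1)⁻¹ := by rw [aa]; group
    _ = _ := by rw [e, ← e2, aa]; group

theorem d_zz (p q z y : F) :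
    s p * ψ ⟨0, 0, z⟩ * (s q * ψ ⟨0, 0, y⟩) = s (p + q) * ψ ⟨0, 0, z + y⟩ := by
  simp only [mul_assoc, (H.sU _ _).eq, H.d_sw, d_pp, ← H.sadd, mk_mulU, add_zero, mul_zero]

theorem d_zU (q z : F) (u : U) : Commute (s q * ψ ⟨0, 0, z⟩) (ψ u) :=
  (H.sU _ _).mul_left (Commute.map (by show _ * _ = _ * _; simp [U.mul_def, add_comm]) ψ)

theorem d_za (q z m : F) : Commute (s q * ψ ⟨0, 0, z⟩) (aa n1 s m) := (H.d_as _ _).symm.mul_left (H.d_aV _ _ _).symm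

theorem d_aV' (m y z : F) : Commute (aa n2 s m) (ψ ⟨0, y, z⟩) := by
  simpa only [MonoidHom.comp_apply, θ_apply, mul_zero, add_zero] using H.dual.d_aV m y z

theorem d_za' (q z m : F) : Commute (s q * ψ ⟨0, 0, z⟩) (aa n2 s m) :=
  (H.dual.d_as _ _).symm.mul_left (H.d_aV' _ _ _).symm

/-- the commutator of `y(c)` and `a_m` -/
theorem d_ya : ∃ ζ : F, ∀ c m, ψ ⟨0, c, 0⟩ * aa n1 s m =
    aa n1 s m * ψ ⟨0, c, 0⟩ * (s (c * m) * ψ ⟨0, 0, ζ * c * m⟩) := by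
  have key : ∀ c m, ∃ z, ψ ⟨0, c, 0⟩ * aa n1 s m =
      aa n1 s m * ψ ⟨0, c, 0⟩ * (s (c * m) * ψ ⟨0, 0, z⟩) := fun c m => by
    obtain ⟨-, x, z, e⟩ := H.ya1 c m
    rw [zero_mul, zero_mul, zero_mul, H.r0, mul_one, mul_inv_eq_iff_eq_mul, ← aa] at e
    generalize aa n1 s m = a at e ⊢
    have e2 : ψ ⟨0, c, 0⟩ * (ψ ⟨0, c, 0⟩ * a) = a := by
      rw [d_pp, show (⟨0, c, 0⟩ * ⟨0, c, 0⟩ : U) = 1 by clear * -; decide +revert, map_one, one_mul]
    have e3 : ∀ x, ψ ⟨0, c, 0⟩ * (a * x) = a * s (c * m) * ψ ⟨_, 0, z⟩ * ψ ⟨0, c, 0⟩ * x := fun x => by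
      rw [← mul_assoc, e]
    rw [e] at e2
    simp only [mul_assoc, e3, H.d_sw, H.d_ss', d_pp, ← map_mul, mul_eq_left, F.add_self, H.d_s0, one_mul] at e2
    have e4 := H.inj (e2.trans ψ.map_one.symm)
    by_cases hc : c = 0
    · subst hc
      exact ⟨0, by simp [← U.one_def, H.d_s0]⟩
    · obtain rfl : x = 0 := by clear * - hc e4; decide +revert
      refine ⟨z, ?_⟩
      rw [e]; simp only [mul_assoc, (H.sU _ _).eq, H.d_sw, d_pp, ← map_mul]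
      congr 3; clear * -; decide +revert
  choose ζ hζ using key
  have uq : ∀ {c m z}, ψ ⟨0, c, 0⟩ * aa n1 s m =
      aa n1 s m * ψ ⟨0, c, 0⟩ * (s (c * m) * ψ ⟨0, 0, z⟩) → ζ c m = z := fun e =>
    congrArg U.z (H.inj (mul_left_cancel (mul_left_cancel ((hζ _ _).symm.trans e))))
  obtain ⟨k, hk⟩ := bilin ζ (fun c c' m => uq (by
      have := lmul (hζ c m) (hζ c' m) (H.d_zU _ _ _)
      rwa [H.d_zz, ← map_mul, ← add_mul, mk_mulU, add_zero, zero_mul, add_zero] at this))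
    (fun c m m' => uq (by
      have := rmul (hζ c m) (hζ c m') (H.d_za _ _ _)
      rwa [H.d_zz, ← H.d_aadd, add_comm (c * m'), add_comm (ζ c m'), ← mul_add] at this))
    (fun c m => uq (by
      have := congrArg (MulAut.conj h) (hζ c m)
      simp only [map_mul, MulAut.conj_apply, H.hact, H.hs, H.d_ha, mul_zero] at this
      rwa [show F.v * c * (F.v * m) = F.w * (c * m) by clear * -; decide +revert]))
  exact ⟨k, fun c m => hk c m ▸ hζ c m⟩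

theorem d_au : ∃ ζ : F, ∀ m x y z g, aa n1 s m * (ψ ⟨x, y, z⟩ * g) =
    ψ ⟨x, y, z + ζ * y * m⟩ * (s (y * m) * (aa n1 s m * g)) := by
  obtain ⟨ζ, e⟩ := H.d_ya
  refine ⟨ζ, fun m x y z g => ?_⟩
  have e1 : aa n1 s m * ψ ⟨0, y, 0⟩ = ψ ⟨0, y, 0⟩ * aa n1 s m * (s (y * m) * ψ ⟨0, 0, ζ * y * m⟩) := by
    rw [e, mul_assoc, mul_assoc, H.d_zz, F.add_self, F.add_self, H.d_s0, ← U.one_def]; simp
  rw [show (⟨x, y, z⟩ : U) = ⟨0, y, 0⟩ * ⟨x, 0, z⟩ by simp [mk_mulU], map_mul, mul_assoc, ← mul_assoc, e1]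
  simp only [mul_assoc, (H.d_as _ _).left_comm, (H.d_aV _ _ _).left_comm, H.d_sw, d_pp, mk_mulU, add_zero]
  congr 3 <;> grind

theorem d_au' : ∃ ζ : F, ∀ m x y z g, aa n2 s m * (ψ ⟨x, y, z⟩ * g) =
    ψ ⟨x, y, z + ζ * x * m⟩ * (s (x * m) * (aa n2 s m * g)) := by
  obtain ⟨ζ, e⟩ := H.dual.d_au
  refine ⟨ζ, fun m x y z g => ?_⟩
  have := e m y x (z + x * y) g
  simp only [MonoidHom.comp_apply, θ_apply] at this
  convert this using 4 <;> (clear * -; decide +revert)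

theorem d_ar {p : F} (hp : Sp b p) (m : F) (g : G) :
    aa n1 s m * (r p * g) = r p * (ψ ⟨p * m, 0, 0⟩ * (aa n1 s m * g)) := by
  have := H.d_ra hp m
  rw [inv_of_sq (H.rsq hp), (H.d_aV _ _ _).eq] at this
  rw [← mul_assoc (ψ _), ← this]; simp only [← mul_assoc, H.rsq hp, one_mul]

theorem d_ar' {p : F} (hp : Sp b p) (m : F) (g : G) :
    aa n2 s m * (r p * g) = r p * (ψ ⟨0, p * m, 0⟩ * (aa n2 s m * g)) := by
  simpa only [MonoidHom.comp_apply, θ_apply, mul_zero, add_zero] using H.dual.d_ar hp m g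

theorem d_sr {p : F} (hp : Sp b p) (q : F) (g : G) : s q * (r p * g) = r p * (ψ ⟨0, 0, p * q⟩ * (s q * g)) := by
  have := H.rs p q hp
  rw [inv_of_sq (H.rsq hp), (H.sU _ _).eq] at this
  rw [← mul_assoc (ψ _), ← this]; simp only [← mul_assoc, H.rsq hp, one_mul]

section
variable {ζ1 ζ2 : F}
  (h1 : ∀ m x y z g, aa n1 s m * (ψ ⟨x, y, z⟩ * g) = ψ ⟨x, y, z + ζ2 * y * m⟩ * (s (y * m) * (aa n1 s m * g)))
  (h2 : ∀ m x y z g, aa n2 s m * (ψ ⟨x, y, z⟩ * g) = ψ ⟨x, y, z + ζ1 * x * m⟩ * (s (x * m) * (aa n2 s m * g)))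
include h1 h2

theorem d_cjr (m n : F) {u : G}
    (hu : u = s (m * n * (1 + ζ1 + ζ2)) * (aa n1 s m * (aa n2 s n * (aa n1 s m * aa n2 s n)))) :
    (∀ p, Sp b p → u * r p * u⁻¹ = r p * ψ ⟨0, 0, (p * p + p) * m * n⟩) ∧
      ∃ x z, (ψ ⟨x, 0, z⟩)⁻¹ * u ∈ centralizer (A : Set G) := by
  have e1 : ∀ p, Sp b p → u * r p * u⁻¹ = r p * ψ ⟨0, 0, (p * p + p) * m * n⟩ := fun p hp => by
    suffices ∀ g, u * (r p * g) = r p * (ψ ⟨0, 0, (p * p + p) * m * n⟩ * (u * g)) by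
      rw [mul_assoc, this]; simp
    intro g
    simp only [hu, mul_assoc, H.d_ar hp, H.d_ar' hp, H.d_sr hp, h1, h2, H.d_sw, d_pp, H.d_ss', (H.d_as _ _).left_comm,
      (H.dual.d_as _ _).left_comm, mk_mulU]
    congr 4 <;> grind
  refine ⟨e1, H.cenV1 (H.nor_of_comm (H.rK 1 sp_one) (H.rsq sp_one) (H.rne 1 sp_one one_ne_zero)
    (comm_of_cj (by simpa [← U.one_def] using e1 1 sp_one))) fun x z => ?_⟩
  suffices ∀ g, u * (ψ ⟨x, 0, z⟩ * g) = ψ ⟨x, 0, z⟩ * (u * g) by simpa [commute_iff_eq] using this 1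
  intro g
  simp only [hu, mul_assoc, h1, h2, H.d_sw, d_pp, H.d_ss', (H.d_as _ _).left_comm, (H.dual.d_as _ _).left_comm, mk_mulU]
  congr 3 <;> grind

theorem d_bf : b = false := by
  obtain ⟨e, x, z, k⟩ := H.d_cjr h1 h2 1 1 rfl
  by_contra hb
  have hp : Sp b F.w := Or.inl (by simpa using hb)
  have := nor_cjK (cen_le_nor k) (H.rK _ hp)
  rw [cj_mul, e _ hp, cj_of_comm
    ((mem_cen.1 (H.rK _ hp) _ (H.mem _)).mul_left (Commute.map (by show _ * _ = _ * _; simp [mk_mulU, add_comm]) ψ)).symm.inv_left,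
    mul_mem_cancel_left (H.rK _ hp)] at this
  exact absurd (H.memK this) (by decide)

theorem d_aa1 (m n : F) : ∃ x z, aa n1 s m * (aa n2 s n * (aa n1 s m * aa n2 s n)) =
    s (m * n * (1 + ζ1 + ζ2)) * ψ ⟨x, 0, z⟩ := by
  obtain rfl := H.d_bf h1 h2
  by_cases hm : m = 0
  · exact ⟨0, 0, by simp [hm, H.d_a0, H.d_s0, H.dual.d_asq, ← U.one_def]⟩
  obtain ⟨e, x, z, k⟩ := H.d_cjr h1 h2 m n rfl
  generalize m * n * (1 + ζ1 + ζ2) = q at *
  have e1 := e 1 sp_one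
  simp only [mul_one, F.add_self, zero_mul, ← U.one_def, map_one] at e1
  obtain ⟨p, hp, hd⟩ := H.cD _ k fun p hp => by
    rcases hp with hp | rfl | rfl
    exacts [absurd hp (by decide), H.r0 ▸ Commute.one_right _,
      (mem_cen.1 (H.rK 1 sp_one) _ (H.mem _)).symm.inv_left.mul_left (comm_of_cj e1)]
  generalize hw : aa n2 s n * (aa n1 s m * aa n2 s n) = w at *
  have hw2 : w * w = 1 := by
    rw [← hw]; simp only [mul_assoc, ← mul_assoc (aa n2 s n) (aa n2 s n), H.dual.d_asq, one_mul,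
      ← mul_assoc (aa n1 s m) (aa n1 s m), H.d_asq]
  have rr : ∀ g, r p * (r p * g) = g := fun g => by rw [← mul_assoc, H.rsq hp, one_mul]
  have a2 : ∀ g, aa n1 s m * (aa n1 s m * g) = g := fun g => by rw [← mul_assoc, H.d_asq, one_mul]
  obtain ⟨d, hd', e2⟩ : ∃ d ∈ D, w = aa n1 s m * (s q * (ψ ⟨x, 0, z⟩ * (r p * d))) :=
    ⟨_, hd, by simp [rr, a2, H.d_ss', H.d_s0]⟩
  have dK := ((H.memD d).1 hd')
  have e3 : ψ ⟨p * m, 0, p * q⟩ * (d * d) = 1 := by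
    rw [← hw2, e2]
    simp only [mul_assoc, (H.d_aD m hd').symm.left_comm, (H.sD q d hd').symm.left_comm,
      (mem_cen.1 dK.1 _ (H.mem _)).left_comm, (dK.2.1 p hp).left_comm, H.d_ar hp, H.d_sr hp, h1, H.d_sw, d_pp, H.d_ss',
      (H.d_as _ _).left_comm, (mem_cen.1 (H.rK p hp) _ (H.mem _)).symm.left_comm, rr, a2, mk_mulU, zero_mul,
      add_zero, F.add_self, H.d_s0, one_mul]
    congr 3 <;> grind
  have e4 := H.memK (u := ⟨p * m, 0, p * q⟩) (by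
    rw [eq_inv_of_mul_eq_one_left e3]; exact inv_mem (mul_mem dK.1 dK.1))
  rw [e4, map_one, one_mul, ← pow_two, ← orderOf_dvd_iff_pow_eq_one] at e3
  obtain rfl : p = 0 := (mul_eq_zero.1 (congrArg U.x e4)).resolve_right hm
  obtain rfl : d = 1 := orderOf_eq_one_iff.1 ((Nat.coprime_two_right.2 dK.2.2).eq_one_of_dvd e3)
  exact ⟨x, z, by rw [e2, a2, H.r0, one_mul, mul_one]⟩

theorem d_aa2 : ∃ k : F, ∀ m n, aa n1 s m * aa n2 s n =
    aa n2 s n * aa n1 s m * (s (m * n * (1 + ζ1 + ζ2)) * ψ ⟨0, 0, k * m * n⟩) := by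
  have key : ∀ m n, ∃ z, aa n1 s m * aa n2 s n =
      aa n2 s n * aa n1 s m * (s (m * n * (1 + ζ1 + ζ2)) * ψ ⟨0, 0, z⟩) := fun m n => by
    obtain ⟨x, z, e⟩ := H.d_aa1 h1 h2 m n
    obtain ⟨y, z', e'⟩ := H.dual.d_aa1 (ζ1 := ζ2) (ζ2 := ζ1) (fun m x y z g => by
      simp only [MonoidHom.comp_apply, θ_apply, h2]; congr 3; grind) (fun m x y z g => by
      simp only [MonoidHom.comp_apply, θ_apply, h1]; congr 3; grind) n m
    have a1 : ∀ g, aa n1 s m * (aa n1 s m * g) = g := fun g => by rw [← mul_assoc, H.d_asq, one_mul]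
    have a2 : ∀ g, aa n2 s n * (aa n2 s n * g) = g := fun g => by rw [← mul_assoc, H.dual.d_asq, one_mul]
    have e1 := congrArg₂ (· * ·) e e'
    simp only [mul_assoc, a1, a2, H.dual.d_asq, MonoidHom.comp_apply, θ_apply, H.d_sw, d_pp, (H.sU _ _).eq, ← H.sadd,
      show m * (n * (1 + ζ1 + ζ2)) + n * (m * (1 + ζ2 + ζ1)) = 0 by grind, H.d_s0, mul_one, H.d_asq, ← map_mul] at e1
    obtain rfl : x = 0 := by simpa [mk_mulU, U.one_def] using congrArg U.x (H.inj (ψ.map_one.trans e1)).symm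
    refine ⟨z, ?_⟩
    rw [← ((H.d_za' _ _ _).mul_right (H.d_za _ _ _)).eq, ← e]
    simp only [mul_assoc, a2, H.d_asq, mul_one]
  choose ζ hζ using key
  have uq : ∀ {m n z}, aa n1 s m * aa n2 s n =
      aa n2 s n * aa n1 s m * (s (m * n * (1 + ζ1 + ζ2)) * ψ ⟨0, 0, z⟩) → ζ m n = z := fun e =>
    congrArg U.z (H.inj (mul_left_cancel (mul_left_cancel ((hζ _ _).symm.trans e))))
  obtain ⟨k, hk⟩ := bilin ζ (fun c c' m => uq (by
      have := lmul (hζ c m) (hζ c' m) (H.d_za _ _ _)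
      rwa [H.d_zz, ← H.d_aadd, ← add_mul, ← add_mul] at this))
    (fun c m m' => uq (by
      have := rmul (hζ c m) (hζ c m') (H.d_za' _ _ _)
      rwa [H.d_zz, ← H.dual.d_aadd, ← add_mul, add_comm (c * m'), add_comm (ζ c m'), ← mul_add] at this))
    (fun c m => uq (by
      have := congrArg (MulAut.conj h) (hζ c m)
      simp only [map_mul, MulAut.conj_apply, H.hact, H.hs, H.d_ha, H.dual.d_ha, mul_zero] at this
      rwa [show F.v * c * (F.v * m) = F.w * (c * m) by clear * -; decide +revert, mul_assoc F.w]))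
  exact ⟨k, fun c m => hk c m ▸ hζ c m⟩

end

theorem d_exists_st3 : ∃ (μ : F) (ρ : Hs μ →* G), St3 A ψ α ν h n1 n2 μ ρ (r 1) := by
  obtain ⟨ζ2, h1⟩ := H.d_au
  obtain ⟨ζ1, h2⟩ := H.d_au'
  obtain rfl := H.d_bf h1 h2
  obtain ⟨k, h3⟩ := H.d_aa2 h1 h2
  have h3' : ∀ m n g, aa n1 s m * (aa n2 s n * g) =
      ψ ⟨0, 0, k * m * n⟩ * (s (m * n * (1 + ζ1 + ζ2)) * (aa n2 s n * (aa n1 s m * g))) := fun m n g => by
    rw [← mul_assoc, h3, ← ((H.d_za' _ _ _).mul_right (H.d_za _ _ _)).eq]; simp only [mul_assoc, H.d_sw]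
  have a1 : ∀ m n g, aa n1 s m * (aa n1 s n * g) = aa n1 s (m + n) * g := fun m n g => by rw [H.d_aadd, mul_assoc]
  have a2 : ∀ m n g, aa n2 s m * (aa n2 s n * g) = aa n2 s (m + n) * g := fun m n g => by
    rw [H.dual.d_aadd, mul_assoc]
  let ρ : Hs (k + ζ1 * ζ2) →* G := MonoidHom.mk' (fun u => ψ ⟨u.x.a + ζ2 * u.x.b, u.y.a + ζ1 * u.y.b,
      u.z.a + ζ1 * u.y.b * (u.x.a + ζ2 * u.x.b)⟩ *
      (s (u.z.b + u.y.b * (u.x.a + ζ2 * u.x.b)) * (aa n2 s u.y.b * (aa n1 s u.x.b * 1)))) fun u v => by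
    simp only [mul_assoc, one_mul, h1, h2, h3', a1, a2, H.d_sw, d_pp, H.d_ss', (H.d_as _ _).left_comm,
      (H.dual.d_as _ _).left_comm, mk_mulU, Hs.mul_x, Hs.mul_y, Hs.mul_z, E.add_def, E.mul_def]
    congr 3 <;> grind
  have hρ : ∀ u, ρ u = ψ ⟨u.x.a + ζ2 * u.x.b, u.y.a + ζ1 * u.y.b, u.z.a + ζ1 * u.y.b * (u.x.a + ζ2 * u.x.b)⟩ *
      (s (u.z.b + u.y.b * (u.x.a + ζ2 * u.x.b)) * (aa n2 s u.y.b * (aa n1 s u.x.b * 1))) := fun u => rfl
  have ht : ∀ u, r 1 * ρ u * (r 1)⁻¹ = ρ (stH u) := fun u => by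
    suffices ∀ g, ρ (stH u) * (r 1 * g) = r 1 * (ρ u * g) by rw [mul_assoc, ← this]; simp
    intro g
    simp only [hρ, mul_assoc, one_mul, H.d_ar sp_one, H.d_ar' sp_one, H.d_sr sp_one, h1, h2, H.d_sw,
      d_pp, H.d_ss', (mem_cen.1 (H.rK 1 sp_one) _ (H.mem _)).symm.left_comm,
      (H.dual.d_as _ _).left_comm, mk_mulU, stH, E.st_apply]
    congr 4 <;> grind
  have hp : ∀ u, ρ (ιH u) = ψ u := fun u => by simp [hρ, ιH, E.C_apply, H.d_a0, H.dual.d_a0, H.d_s0]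
  have hz : ∀ w, ρ (Hs.zz w) = 1 → w = 0 := fun w hw => by
    have e2 : ∀ c, ρ (Hs.zz (E.C c)) = 1 → c = 0 := fun c hc =>
      congrArg U.z (H.inj (((hp ⟨0, 0, c⟩).symm.trans hc).trans ψ.map_one.symm))
    have e1 := ht (Hs.zz w)
    rw [hw, mul_one, mul_inv_cancel, show stH (Hs.zz w) = Hs.zz (st w) by simp [stH, Hs.zz]] at e1
    have e3 := e2 w.b (by
      rw [show C w.b = w + st w by clear * -; revert w; generalize k + ζ1 * ζ2 = μ; decide +revert, Hs.zz_add,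
        map_mul, hw, ← e1, one_mul])
    have e4 : w = C w.a := by ext1; exacts [rfl, e3]
    rw [e4, e2 w.a (by rwa [← e4]), map_zero]
  refine ⟨_, ρ, H.toCfg, (injective_iff_map_eq_one ρ).2 fun u hu => ?_, hp, ht, H.rK 1 sp_one, H.rsq sp_one,
    H.rne 1 sp_one one_ne_zero, fun k hk h2 c => ?_⟩
  · have e1 := hz (Hs.bf u ⟨0, 1, 0⟩) (by rw [← Hs.comm_eq]; simp [hu])
    have e2 := hz (Hs.bf u ⟨1, 0, 0⟩) (by rw [← Hs.comm_eq]; simp [hu])
    simp only [Hs.bf, mul_one, mul_zero, add_zero, zero_add] at e1 e2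
    rw [Hs.eq_zz e1 e2] at hu ⊢
    rw [hz _ hu, Hs.zz_zero]
  · obtain ⟨p, hp, rfl⟩ := H.rcen k hk h2 fun p hp => by
      rcases hp with hp | rfl | rfl
      exacts [absurd hp (by decide), H.r0 ▸ Commute.one_right _, c]
    rcases hp with hp | rfl | rfl
    exacts [absurd hp (by decide), Or.inl H.r0, Or.inr rfl]

end St2

end Cfsg.Agent.L4S
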