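import Cfsg.Agent.L4S.A1
import Cfsg.Agent.Class.FieldTransport

/-! Existence of the configuration for a standard `L₃(4)`. -/

set_option autoImplicit false

namespace Cfsg.Agent.L4S

open Subgroup Pointwise

namespace CA

theorem syl0 (Q : Subgroup (MulAut PX)) (hQ : IsPGroup 2 Q) :
    ∃ y : PX, ∀ φ ∈ Q, ∀ u, ∃ u', (MulAut.conj y * φ * (MulAut.conj y)⁻¹) (ψ0 u) = ψ0 u' := by
  have := Fact.mk Nat.prime_two
  obtain ⟨T, hT⟩ := hQ.nonempty_fixed_point_of_prime_not_dvd_card (Sylow 2 PX) (not_dvd_card_sylow 2 PX)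
  have h2 : IsPGroup 2 ψ0.range := IsPGroup.of_card (n := 6) (by
    rw [← Nat.card_congr (MonoidHom.ofInjective ψ0_inj).toEquiv, U.card]; rfl)
  obtain ⟨y, hy⟩ := MulAction.exists_smul_eq PX T (h2.toSylow (by rw [index0]; decide))
  refine ⟨y, fun φ hφ u => ?_⟩
  have e : (MulAut.conj y * φ * (MulAut.conj y)⁻¹) • (y • T) = y • T := by
    rw [Sylow.smul_def, mul_smul, inv_smul_smul, mul_smul, show φ • T = T from hT ⟨φ, hφ⟩]
  rw [hy] at e
  have : (MulAut.conj y * φ * (MulAut.conj y)⁻¹) • ψ0.range = ψ0.range := congrArg Sylow.toSubgroup e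
  obtain ⟨u', hu⟩ := this.le (smul_mem_pointwise_smul _ _ _ ⟨u, rfl⟩)
  exact ⟨u', hu.symm⟩

theorem cfg {G : Type*} [Group G] [Finite G] {A : Subgroup G} (hA : IsStandardSubgroup A) (e : A ≃* PX) :
    ∃ ψ α ν h n1 n2, Cfg A ψ α ν h n1 n2 := by
  classical
  let φ : PX →* G := A.subtype.comp e.symm.toMonoidHom
  have φi : Function.Injective φ := A.subtype_injective.comp e.symm.injective
  have φA : ∀ x, φ x ∈ A := fun x => (e.symm x).2
  have φs : ∀ a ∈ A, ∃ x, φ x = a := fun a ha => ⟨e ⟨a, ha⟩, congrArg Subtype.val (e.symm_apply_apply _)⟩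
  let ρ0 : normalizer (A : Set G) →* MulAut PX := (MulAut.congr e).toMonoidHom.comp A.normalizerMonoidHom
  obtain ⟨ρ, hρ0, hρ⟩ : ∃ ρ : G → MulAut PX, (∀ m : normalizer (A : Set G), ρ m = ρ0 m) ∧
      ∀ m ∈ normalizer (A : Set G), ∀ x, φ (ρ m x) = m * φ x * m⁻¹ :=
    ⟨fun m => if hm : m ∈ normalizer (A : Set G) then ρ0 ⟨m, hm⟩ else 1, fun m => dif_pos m.2,
      fun m hm x => by
        simp only [dif_pos hm]
        exact congrArg Subtype.val (e.symm_apply_apply _)⟩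
  have ρm : ∀ a ∈ normalizer (A : Set G), ∀ b ∈ normalizer (A : Set G), ρ (a * b) = ρ a * ρ b :=
    fun a ha b hb => MulEquiv.ext fun x => φi (by
      rw [hρ _ (mul_mem ha hb), MulAut.mul_apply, hρ a ha, hρ b hb, cj_mul])
  have ρφ : ∀ y, ρ (φ y) = MulAut.conj y := fun y => MulEquiv.ext fun x => φi (by
    rw [hρ _ (le_normalizer (φA y)), MulAut.conj_apply, map_mul, map_mul, map_inv])
  have hβ : ∀ m ∈ normalizer (A : Set G) ⊓ normalizer ((φ.comp ψ0).range : Set G),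
      β (Function.invFun β (ρ m)) = ρ m := fun m hm => Function.invFun_eq (β_surj _ fun u => by
    obtain ⟨u', hu⟩ := act_of_nor hm.2 u
    exact ⟨u', φi ((hρ m hm.1 _).trans hu)⟩)
  have hα : ∀ m b, ρ m = β b → Function.invFun β (ρ m) = b := fun m b h => by
    rw [h, Function.leftInverse_invFun β_inj b]
  obtain ⟨ν, ν1, ν2, ν3⟩ := exists_nu
  have c3 : ∀ a b : PX, φ a * φ b * (φ a)⁻¹ = φ (a * b * a⁻¹) := fun a b => by rw [map_mul, map_mul, map_inv]
  have := Fact.mk Nat.prime_two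
  refine ⟨φ.comp ψ0, fun m => Function.invFun β (ρ m), fun m => ν (ρ m), φ h0, φ n10, φ n20, φi.comp ψ0_inj,
    fun u => φA _, fun a ha b hb => hα _ _ (by rw [map_mul, hβ a ha, hβ b hb, ρm a ha.1 b hb.1]),
    fun a ha => ⟨fun h => mem_cen.2 fun x hx => ?_, fun h => hα _ _ (MulEquiv.ext fun x => φi (by
      rw [hρ a ha.1, map_one, cj_of_comm (mem_cen.1 h _ (φA x))]; rfl))⟩,
    fun u => hα _ _ ((ρφ _).trans (β_inl u).symm), fun a ha b hb => by rw [ρm a ha b hb, ν1],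
    fun a ha => by obtain ⟨x, rfl⟩ := φs a ha; rw [ρφ, ν2], fun a ha => by rw [← ν3, hβ a ha], φA _,
    nor_of_act fun u => ⟨_, (c3 _ _).trans (congrArg φ ((congrArg (· (ψ0 u)) β_h).symm.trans (β_act _ u)))⟩,
    hα _ _ ((ρφ _).trans β_h.symm), by rw [← map_pow, h0_pow, map_one],
    φA _, by rw [← map_mul, n1_sq, map_one], by rw [c3, n1_h, map_inv],
    fun x z => (c3 _ _).trans (congrArg φ (n1_act x z)),
    φA _, by rw [← map_mul, n2_sq, map_one], by rw [c3, n2_h, map_inv],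
    fun x z => (c3 _ _).trans (congrArg φ (n2_act x z)), fun a ha c => ?_, fun P hP hN => ?_,
    have := simple; e.isSimpleGroup, fun X a b c x hx => ?_, fun t ht h1 h2 g hg => ?_, fun g hg => ?_, ?_⟩
  · obtain ⟨x, rfl⟩ := φs x hx
    have h1 := hβ a ha
    rw [h, map_one] at h1
    exact comm_of_cj (by rw [← hρ a ha.1, ← h1]; rfl)
  · obtain ⟨x, rfl⟩ := φs a ha
    obtain ⟨u, rfl⟩ := fa0 x (φi (by rw [map_mul, map_mul]; exact c.eq))
    exact ⟨u, rfl⟩
  · obtain ⟨y, hy⟩ := syl0 ((P.subgroupOf _).map ρ0) ((hP.of_equiv (subgroupOfEquivOfLe hN).symm).map _)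
    refine ⟨φ y, φA y, fun x hx => nor_of_act fun u => ?_⟩
    obtain ⟨u', hu⟩ := hy (ρ x) ⟨⟨x, hN hx⟩, hx, (hρ0 _).symm⟩ u
    refine ⟨u', Eq.trans ?_ (congrArg φ hu)⟩
    simp only [MulAut.mul_apply, MulAut.conj_apply, MulAut.conj_inv_apply, map_mul, map_inv, hρ x (hN hx),
      MonoidHom.comp_apply]
    group
  · obtain ⟨x, rfl⟩ := φs x hx
    exact (gen0 (X.comap φ) (by rintro _ ⟨u, rfl⟩; exact a ⟨u, rfl⟩) b c).ge (mem_top x)
  · by_contra hn
    have h3 := hA.2.1.2 g (hA.2.2.2 ▸ hn)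
    have h4 : orderOf (g * t * g⁻¹) = 2 := orderOf_eq_prime (by rw [conj_pow, pow_two, h1]; simp)
      (by simpa using h2)
    exact (Nat.not_even_iff_odd.2 h3) (even_iff_two_dvd.2 (h4 ▸ orderOf_dvd_natCard _ ⟨hg, t, ht, rfl⟩))
  · have hc : A.map (MulAut.conj g).toMonoidHom ≤ centralizer (A : Set G) := by
      rintro _ ⟨a, ha, rfl⟩; exact hg a ha
    by_cases h : A.map (MulAut.conj g).toMonoidHom = A
    · rw [h] at hc
      have := hc (φA (ψ0 ⟨1, 0, 0⟩)) _ (φA (ψ0 ⟨0, 1, 0⟩))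
      rw [← map_mul, ← map_mul, ← map_mul, ← map_mul] at this
      exact absurd (ψ0_inj (φi this)) (by decide)
    · exact hA.2.2.1 g h (by rwa [commutator_comm, commutator_eq_bot_iff_le_centralizer])
  · obtain ⟨t, ht⟩ := exists_prime_orderOf_dvd_card' (G := centralizer (A : Set G)) 2 hA.2.1.1.two_dvd
    refine ⟨t, t.2, ?_, fun h => ?_⟩
    · exact congrArg Subtype.val (by rw [← pow_two, ← ht, pow_orderOf_eq_one] : t * t = 1)
    · rw [show t = 1 from Subtype.ext h, orderOf_one] at ht; omega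

end CA

theorem exists_cfg {G : Type*} [Group G] [Finite G] {A : Subgroup G} (hA : IsStandardSubgroup A)
    {K : Type*} [Field K] [Fintype K] (hK : Fintype.card K = 4)
    (e : A ≃* Matrix.ProjectiveSpecialLinearGroup (Fin 3) K) :
    ∃ ψ α ν h n1 n2, Cfg A ψ α ν h n1 n2 :=
  CA.cfg hA (e.trans (Class.pslCongr (Fin 3) (FiniteField.ringEquivOfCardEq (hK.trans F.card.symm))))

end Cfsg.Agent.L4S
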