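import Cfsg.Agent.L4S.Basic
import Cfsg.Agent.KSG.AutPSL2
import Cfsg.Agent.Class.LinearBasic
import Cfsg.Agent.S0243
import Cfsg.Agent.S0249

/-! The matrix model of `L₃(4)` and of the normaliser of a Sylow 2-subgroup in its automorphism group. -/

set_option autoImplicit false
set_option synthInstance.maxSize 4000
set_option maxRecDepth 100000

namespace Cfsg.Agent.L4S.CA

open Subgroup Matrix
open F (fr)
open KSG (glAct2 psiL)

abbrev Mx := Matrix (Fin 3) (Fin 3) F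
abbrev SLx := SpecialLinearGroup (Fin 3) F
abbrev GLx := GL (Fin 3) F
abbrev PX := ProjectiveSpecialLinearGroup (Fin 3) F
abbrev Ax := RingAut F × Multiplicative (ZMod 2)
abbrev Gam := GLx ⋊[glAct2 (Fin 3) F] Ax

def sm (u : U) : Mx := !![1, u.x, u.z; 0, 1, u.y; 0, 0, 1]

theorem sm_mul (a b : U) : sm (a * b) = sm a * sm b := by
  ext i j
  fin_cases i <;> fin_cases j <;> simp [sm, U.mul_def, Matrix.mul_apply, Fin.sum_univ_three] <;> ring

/-- the unitriangular group -/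
def S : U →* SLx := MonoidHom.mk' (fun u => ⟨sm u, by simp [sm, det_fin_three]⟩) fun a b => Subtype.ext (sm_mul a b)

/-- the Sylow 2-subgroup of `L₃(4)` -/
def ψ0 : U →* PX := (QuotientGroup.mk' _).comp S

theorem ψ0_apply (u : U) : ψ0 u = QuotientGroup.mk (S u) := rfl

theorem mk_eq {a b : SLx} : (QuotientGroup.mk a : PX) = QuotientGroup.mk b ↔ ∃ r : F, b.1 = r • a.1 := by
  rw [QuotientGroup.eq, Matrix.SpecialLinearGroup.mem_center_iff]
  have e : a.1 * (a⁻¹ * b).1 = b.1 := congrArg Subtype.val (mul_inv_cancel_left a b)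
  constructor
  · rintro ⟨r, -, hr⟩
    exact ⟨r, by rw [← e, ← hr, scalar_apply, ← smul_eq_mul_diagonal]⟩
  · rintro ⟨r, hr⟩
    refine ⟨r, ?_, ?_⟩
    · have := congrArg det hr
      rw [det_smul, a.2, b.2, mul_one] at this
      exact this.symm
    · have e' : (a⁻¹ * b).1 = a⁻¹.1 * b.1 := rfl
      have e'' : a⁻¹.1 * a.1 = 1 := congrArg Subtype.val (inv_mul_cancel a)
      rw [e', hr, Matrix.mul_smul, e'', scalar_apply, smul_one_eq_diagonal]

theorem lift_eq {a b : SLx} (ha : a ^ 4 = 1) (hb : b ^ 4 = 1)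
    (e : (QuotientGroup.mk a : PX) = QuotientGroup.mk b) : a = b := by
  obtain ⟨r, hr⟩ := mk_eq.1 e
  have h1 : a.1 ^ 4 = 1 := congrArg Subtype.val ha
  have h2 : b.1 ^ 4 = 1 := congrArg Subtype.val hb
  rw [hr, smul_pow, h1] at h2
  have h3 : r ^ 4 = 1 := by simpa using congrFun (congrFun h2 0) 0
  have h4 : r = 1 := (by decide : ∀ r : F, r ^ 4 = 1 → r ^ 3 = 1 → r = 1) r h3 (by
    have := congrArg det hr
    rw [det_smul, a.2, b.2, mul_one] at this
    exact this.symm)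
  exact Subtype.ext (by rw [hr, h4, one_smul])

theorem U_pow : ∀ u : U, u ^ 4 = 1 := by decide +kernel

theorem S_pow (u : U) : S u ^ 4 = 1 := by rw [← map_pow, U_pow, map_one]

theorem S_inj : Function.Injective S := fun a b e => by
  have h : sm a = sm b := congrArg Subtype.val e
  exact U.ext (congrFun (congrFun h 0) 1) (congrFun (congrFun h 1) 2) (congrFun (congrFun h 0) 2)

theorem ψ0_inj : Function.Injective ψ0 := fun a b e => S_inj (lift_eq (S_pow a) (S_pow b) e)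

/-- the Frobenius automorphism -/
def frA : RingAut F := ⟨⟨fr, fr, F.fr_fr, F.fr_fr⟩, F.fr_mul, F.fr_add⟩

def sA (i j : Bool) : Ax := (cond i frA 1, cond j (Multiplicative.ofAdd 1) 1)

theorem sA_mul (i j i' j' : Bool) : sA (xor i i') (xor j j') = sA i j * sA i' j' := by
  refine Prod.ext (RingEquiv.ext fun x => ?_) ?_
  · cases i <;> cases i' <;> first | rfl | exact (F.fr_fr x).symm
  · show cond (xor j j') _ _ = cond j _ _ * cond j' _ _
    revert j j'; decide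

theorem sA_surj (a : Ax) : ∃ i j, sA i j = a := by
  obtain ⟨σ, e⟩ := a
  have h : ∀ (i : Bool) (x : F), σ F.w = cond i fr id F.w → σ x = cond i fr id x := fun i x hw => by
    cases x
    exacts [(map_zero σ).trans (by cases i <;> rfl), (map_one σ).trans (by cases i <;> rfl), hw,
      (map_mul σ F.w F.w).trans (by rw [hw]; cases i <;> rfl)]
  have h0 : σ F.w ≠ 0 := by rw [map_ne_zero]; decide
  have h1 : σ F.w ≠ 1 := fun e => absurd (σ.injective (e.trans (map_one σ).symm)) (by decide)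
  obtain ⟨i, hi⟩ : ∃ i : Bool, σ F.w = cond i fr id F.w := by
    generalize σ F.w = y at h0 h1; revert y; decide
  obtain ⟨j, hj⟩ : ∃ j : Bool, cond j (Multiplicative.ofAdd 1) 1 = e := by revert e; decide
  exact ⟨i, j, Prod.ext (RingEquiv.ext fun x => (by cases i <;> rfl : _ = _).trans (h i x hi).symm) hj⟩

def mm (t : Tau) : Mx := cond t.j !![0, 0, ex t.a; 0, 1, 0; ex (-t.b), 0, 0] !![ex t.a, 0, 0; 0, 1, 0; 0, 0, ex (-t.b)]
def mi (t : Tau) : Mx := cond t.j !![0, 0, ex t.b; 0, 1, 0; ex (-t.a), 0, 0] !![ex (-t.a), 0, 0; 0, 1, 0; 0, 0, ex t.b]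

theorem mm_mi : ∀ t, mm t * mi t = 1 ∧ mi t * mm t = 1 := by decide +kernel

def mG (t : Tau) : GLx := ⟨mm t, mi t, (mm_mi t).1, (mm_mi t).2⟩

def ac (i j : Bool) (g g' : Mx) : Mx := (cond j g'ᵀ g).map (cond i fr id)

theorem ac_val (i j : Bool) (g : GLx) : (glAct2 (Fin 3) F (sA i j) g).1 = ac i j g.1 g⁻¹.1 := by
  cases j
  · rw [sA, cond_false, KSG.glAct2_one, KSG.glAct_val]; cases i <;> rfl
  · rw [sA, cond_true, KSG.glAct2_gen, KSG.glAct_val, KSG.invT_val]; cases i <;> rfl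

theorem mm_mul : ∀ s t : Tau, mm (s * t) = mm s * ac s.i s.j (mm t) (mi t) := by decide +kernel

theorem ex_inv : ∀ b, ex b * ex (-b) = 1 := by decide

theorem mm_sm (t : Tau) (u : U) : mm t * ac t.i t.j (sm u) (sm u⁻¹) = sm (t.act u) * mm t := by
  obtain ⟨a, b, i, j⟩ := t
  have h0 : fr 0 = 0 := rfl
  have h1 : fr 1 = 1 := rfl
  have := ex_inv b
  ext k l
  cases i <;> cases j <;> fin_cases k <;> fin_cases l <;>
    simp [mm, ac, sm, Tau.act, U.inv_def, Matrix.mul_apply, Fin.sum_univ_three, h0, h1] <;> grind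

theorem mG_mul (s t : Tau) : mG (s * t) = mG s * glAct2 (Fin 3) F (sA s.i s.j) (mG t) :=
  Units.ext (by rw [Units.val_mul, ac_val]; exact mm_mul s t)

theorem mG_S (t : Tau) (u : U) : mG t * glAct2 (Fin 3) F (sA t.i t.j) (Matrix.SpecialLinearGroup.toGL (S u)) =
    Matrix.SpecialLinearGroup.toGL (S (t.act u)) * mG t :=
  Units.ext (by rw [Units.val_mul, ac_val, ← map_inv, ← map_inv]; exact mm_sm t u)

/-- the normaliser of `U` in `ΓL₃(4).2` modulo scalars -/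
def κ : B →* Gam := MonoidHom.mk' (fun b => ⟨Matrix.SpecialLinearGroup.toGL (S b.u) * mG b.t, sA b.t.i b.t.j⟩)
  fun a b => SemidirectProduct.ext (by
    show Matrix.SpecialLinearGroup.toGL (S (a.u * a.t.act b.u)) * mG (a.t * b.t) = _ * _ * glAct2 _ _ (sA _ _) (_ * _)
    rw [map_mul, map_mul, map_mul, mG_mul, mul_assoc, mul_assoc, ← mul_assoc (mG a.t), mG_S, mul_assoc])
    (sA_mul _ _ _ _)

/-- the normaliser of `U` in `Aut (L₃(4))` -/
noncomputable def β : B →* MulAut PX := (psiL (Fin 3) F).comp κ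

theorem mG_one : mG 1 = 1 := Units.ext (by decide +kernel : mm 1 = 1)

theorem β_inl (u : U) : β (B.inl u) = MulAut.conj (ψ0 u) := by
  rw [ψ0_apply, ← KSG.psiL_toGL]
  exact congrArg (psiL _ _) (SemidirectProduct.ext ((congrArg (_ * ·) mG_one).trans (mul_one _)) rfl)

theorem simple : IsSimpleGroup PX := S0249.result 3 le_rfl

theorem conj_inj : Function.Injective (MulAut.conj : PX → MulAut PX) := by
  have := simple
  rcases (MulAut.conj : PX →* MulAut PX).normal_ker.eq_bot_or_eq_top with e | e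
  · exact (MonoidHom.ker_eq_bot_iff _).1 e
  · have h : MulAut.conj (ψ0 ⟨1, 0, 0⟩) (ψ0 ⟨0, 1, 0⟩) = ψ0 ⟨0, 1, 0⟩ := by
      rw [MonoidHom.mem_ker.1 (e.ge (mem_top _))]; rfl
    rw [MulAut.conj_apply, ← map_inv, ← map_mul, ← map_mul] at h
    exact absurd (ψ0_inj h) (by decide)

theorem conj_aut {X : Type*} [Group X] (φ : MulAut X) (x : X) : φ * MulAut.conj x * φ⁻¹ = MulAut.conj (φ x) := by
  ext y; simp

theorem β_act (b : B) (u : U) : β b (ψ0 u) = ψ0 (b.on u) :=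
  conj_inj (by rw [← conj_aut, ← β_inl, ← β_inl, ← B.conj_inl, map_mul, map_mul, map_inv])

theorem β_inj : Function.Injective β := (injective_iff_map_eq_one β).2 fun b hb => by
  have h := B.cenU b (ψ0_inj (by rw [← β_act, hb]; rfl)) (ψ0_inj (by rw [← β_act, hb]; rfl))
    (ψ0_inj (by rw [← β_act, hb]; rfl)) (ψ0_inj (by rw [← β_act, hb]; rfl))
  rw [h, β_inl, ← map_one MulAut.conj, ← map_one ψ0] at hb
  rw [h, ψ0_inj (conj_inj hb), map_one]

theorem ex_surj : ∀ c : F, c ≠ 0 → (∃ a, ex a = c) ∧ ∃ a, ex (-a) = c := by decide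

theorem upper {g : Mx} (h0 : g.det ≠ 0) (h : ∀ u, ∃ u', g * sm u = sm u' * g) :
    ∃ (c : F) (u : U) (a b : Fin 3), c ≠ 0 ∧ g = c • (sm u * mm ⟨a, b, false, false⟩) := by
  have h1 : g 2 0 = 0 := by
    obtain ⟨u, e⟩ := h ⟨0, 0, 1⟩
    simpa [sm, Matrix.mul_apply, Fin.sum_univ_three] using congrFun (congrFun e 2) 2
  have h2 : g 2 1 = 0 := by
    obtain ⟨u, e⟩ := h ⟨0, 1, 0⟩
    simpa [sm, Matrix.mul_apply, Fin.sum_univ_three] using congrFun (congrFun e 2) 2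
  have h3 : g 1 0 = 0 := by
    obtain ⟨u, e⟩ := h ⟨1, 0, 0⟩
    simpa [sm, Matrix.mul_apply, Fin.sum_univ_three, h2] using congrFun (congrFun e 1) 1
  rw [det_fin_three, h1, h2, h3] at h0
  simp only [mul_zero, zero_mul, sub_zero, add_zero, ne_eq, mul_eq_zero, not_or] at h0
  obtain ⟨⟨k0, k1⟩, k2⟩ := h0
  obtain ⟨a, ha⟩ := (ex_surj _ (div_ne_zero k0 k1)).1
  obtain ⟨b, hb⟩ := (ex_surj _ (div_ne_zero k2 k1)).2
  refine ⟨g 1 1, ⟨g 0 1 / g 1 1, g 1 2 / g 2 2, g 0 2 / g 2 2⟩, a, b, k1, ?_⟩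
  ext i j
  fin_cases i <;> fin_cases j <;>
    simp [sm, mm, ha, hb, Matrix.mul_apply, Fin.sum_univ_three, h1, h2, h3] <;> field_simp

theorem β_surj (φ : MulAut PX) (h : ∀ u, ∃ u', φ (ψ0 u) = ψ0 u') : φ ∈ β.range := by
  obtain ⟨x, rfl⟩ := KSG.psiL_surjective (ι := Fin 3) (F := F) (by simp) φ
  obtain ⟨i, j, hij⟩ := sA_surj x.right
  set b0 : B := ⟨1, ⟨0, 0, i, j⟩⟩
  refine (β.range.mul_mem_cancel_right (inv_mem ⟨b0, rfl⟩)).1 ?_
  obtain ⟨g, hg⟩ : ∃ g, x * (κ b0)⁻¹ = SemidirectProduct.inl g :=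
    ⟨(x * (κ b0)⁻¹).left, SemidirectProduct.ext rfl (by
      rw [SemidirectProduct.mul_right, SemidirectProduct.inv_right, ← hij]; exact mul_inv_cancel _)⟩
  have e : psiL (Fin 3) F x * (β b0)⁻¹ = psiL (Fin 3) F (SemidirectProduct.inl g) := by
    rw [← hg, map_mul, map_inv]; rfl
  obtain ⟨c, u, a, b, hc, hm⟩ := upper (g := g.1) (by simpa using g.det_ne_zero) fun u => by
    obtain ⟨u', hu⟩ := h (b0⁻¹.on u)
    obtain ⟨s, hs⟩ := KSG.exists_sl (g := g * Matrix.SpecialLinearGroup.toGL (S u) * g⁻¹)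
      (by rw [KSG.det_conj_gl]; exact (S u).2)
    have h1 := (KSG.eq_psiL_iff (SemidirectProduct.inl g) _).1 rfl (S u) s (by simpa using hs)
    rw [← β_act, map_inv, ← MulAut.mul_apply, e, ψ0_apply, h1] at hu
    have h2 : s ^ 4 = 1 := Matrix.SpecialLinearGroup.toGL_injective (by
      rw [map_pow, hs, conj_pow, ← map_pow, S_pow]; simp)
    rw [lift_eq h2 (S_pow u') hu, eq_mul_inv_iff_mul_eq] at hs
    exact ⟨u', (congrArg Units.val hs).symm⟩
  refine ⟨⟨u, ⟨a, b, false, false⟩⟩, ?_⟩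
  have : g = GeneralLinearGroup.scalar (Fin 3) (Units.mk0 c hc) *
      (Matrix.SpecialLinearGroup.toGL (S u) * mG ⟨a, b, false, false⟩) := Units.ext (by
    rw [hm, Units.val_mul, GeneralLinearGroup.coe_scalar, scalar_apply, ← smul_eq_diagonal_mul]; rfl)
  rw [e, ← KSG.iotaL_apply, this, map_mul, KSG.iotaL_scalar (by simp), one_mul]
  rfl

theorem exists_nu : ∃ ν : MulAut PX → Bool × Bool,
    (∀ a b, ν (a * b) = (xor (ν a).1 (ν b).1, xor (ν a).2 (ν b).2)) ∧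
    (∀ x, ν (MulAut.conj x) = (false, false)) ∧ ∀ b, ν (β b) = (b.t.i, b.t.j) := by
  obtain ⟨π, h1, -, h2⟩ := KSG.exists_projL3 (ι := Fin 3) (F := F) (by simp)
  have key : ∀ i j, (decide ((sA i j).1 F.w ≠ F.w), decide ((sA i j).2 ≠ 1)) = (i, j) := by decide
  refine ⟨fun φ => (decide ((π φ).1 F.w ≠ F.w), decide ((π φ).2 ≠ 1)), fun a b => ?_, fun x => ?_,
    fun b => ?_⟩
  · obtain ⟨i, j, e⟩ := sA_surj (π a)
    obtain ⟨i', j', e'⟩ := sA_surj (π b)
    show (decide ((π (a * b)).1 F.w ≠ F.w), decide ((π (a * b)).2 ≠ 1)) =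
      (xor (decide ((π a).1 F.w ≠ F.w), decide ((π a).2 ≠ 1)).1 (decide ((π b).1 F.w ≠ F.w), decide ((π b).2 ≠ 1)).1,
        xor (decide ((π a).1 F.w ≠ F.w), decide ((π a).2 ≠ 1)).2 (decide ((π b).1 F.w ≠ F.w), decide ((π b).2 ≠ 1)).2)
    rw [map_mul, ← e, ← e', ← sA_mul, key, key, key]
  · have : π (MulAut.conj x) = sA false false := h2.ge (KSG.inn_le_range_iotaL ⟨x, rfl⟩)
    simp only [this, key]
  · have : π (β b) = sA b.t.i b.t.j := h1 _
    simp only [this, key]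

def hS : SLx := ⟨mm Tau.h, by decide +kernel⟩
def n1S : SLx := ⟨!![1, 0, 0; 0, 0, 1; 0, 1, 0], by decide +kernel⟩
def n2S : SLx := ⟨!![0, 1, 0; 1, 0, 0; 0, 0, 1], by decide +kernel⟩
def h0 : PX := QuotientGroup.mk hS
def n10 : PX := QuotientGroup.mk n1S
def n20 : PX := QuotientGroup.mk n2S

theorem β_h : β ⟨1, Tau.h⟩ = MulAut.conj h0 := by
  rw [h0, ← KSG.psiL_toGL]
  exact congrArg (psiL _ _) (SemidirectProduct.ext (by
    show Matrix.SpecialLinearGroup.toGL (S 1) * _ = _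
    rw [map_one, map_one, one_mul]; exact Units.ext rfl) rfl)

theorem h0_pow : h0 ^ 3 = 1 :=
  congrArg QuotientGroup.mk (Subtype.ext (by decide +kernel : mm Tau.h ^ 3 = 1) : hS ^ 3 = 1)

theorem n1_sq : n10 * n10 = 1 :=
  congrArg QuotientGroup.mk (Subtype.ext (by decide +kernel : n1S.1 * n1S.1 = 1) : n1S * n1S = 1)

theorem n2_sq : n20 * n20 = 1 :=
  congrArg QuotientGroup.mk (Subtype.ext (by decide +kernel : n2S.1 * n2S.1 = 1) : n2S * n2S = 1)

theorem n1_h : n10 * h0 * n10⁻¹ = h0⁻¹ := by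
  have : h0 * (n10 * h0) = n10 :=
    mk_eq.2 (by decide +kernel : ∃ r : F, n1S.1 = r • (hS.1 * (n1S.1 * hS.1)))
  rw [mul_inv_eq_iff_eq_mul, eq_inv_mul_iff_mul_eq, this]

theorem n2_h : n20 * h0 * n20⁻¹ = h0⁻¹ := by
  have : h0 * (n20 * h0) = n20 :=
    mk_eq.2 (by decide +kernel : ∃ r : F, n2S.1 = r • (hS.1 * (n2S.1 * hS.1)))
  rw [mul_inv_eq_iff_eq_mul, eq_inv_mul_iff_mul_eq, this]

theorem n1_act (x z : F) : n10 * ψ0 ⟨x, 0, z⟩ * n10⁻¹ = ψ0 ⟨z, 0, x⟩ :=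
  mul_inv_eq_iff_eq_mul.2 (congrArg QuotientGroup.mk (Subtype.ext
    ((by decide +kernel : ∀ x z, n1S.1 * sm ⟨x, 0, z⟩ = sm ⟨z, 0, x⟩ * n1S.1) x z) :
    n1S * S ⟨x, 0, z⟩ = S ⟨z, 0, x⟩ * n1S))

theorem n2_act (y z : F) : n20 * ψ0 ⟨0, y, z⟩ * n20⁻¹ = ψ0 ⟨0, z, y⟩ :=
  mul_inv_eq_iff_eq_mul.2 (congrArg QuotientGroup.mk (Subtype.ext
    ((by decide +kernel : ∀ y z, n2S.1 * sm ⟨0, y, z⟩ = sm ⟨0, z, y⟩ * n2S.1) y z) :
    n2S * S ⟨0, y, z⟩ = S ⟨0, z, y⟩ * n2S))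

theorem fa0 (a : PX) (c : Commute a (ψ0 ⟨0, 0, 1⟩)) : a ∈ ψ0.range := by
  obtain ⟨s, rfl⟩ := QuotientGroup.mk_surjective a
  have h1 : s * S ⟨0, 0, 1⟩ * s⁻¹ = S ⟨0, 0, 1⟩ :=
    lift_eq (by rw [conj_pow, S_pow]; simp) (S_pow _) (cj_of_comm c)
  rw [mul_inv_eq_iff_eq_mul] at h1
  have e : s.1 * sm ⟨0, 0, 1⟩ = sm ⟨0, 0, 1⟩ * s.1 := congrArg Subtype.val h1
  have k1 : s.1 2 0 = 0 := by simpa [sm, Matrix.mul_apply, Fin.sum_univ_three] using congrFun (congrFun e 2) 2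
  have k2 : s.1 2 1 = 0 := by simpa [sm, Matrix.mul_apply, Fin.sum_univ_three] using congrFun (congrFun e 0) 1
  have k3 : s.1 1 0 = 0 := by simpa [sm, Matrix.mul_apply, Fin.sum_univ_three] using congrFun (congrFun e 1) 2
  have k4 : s.1 2 2 = s.1 0 0 := by
    have := congrFun (congrFun e 0) 2
    simp [sm, Matrix.mul_apply, Fin.sum_univ_three] at this
    linear_combination -this
  have h0 := s.2
  rw [det_fin_three, k1, k2, k3, k4] at h0
  simp only [mul_zero, zero_mul, sub_zero, add_zero] at h0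
  obtain ⟨k5, k6⟩ := (by decide : ∀ a b : F, a * b * a = 1 → b = a ∧ a ≠ 0) _ _ h0
  refine ⟨⟨s.1 0 1 / s.1 0 0, s.1 1 2 / s.1 0 0, s.1 0 2 / s.1 0 0⟩, mk_eq.2 ⟨s.1 0 0, ?_⟩⟩
  show s.1 = _ • sm _
  ext i j
  fin_cases i <;> fin_cases j <;> simp [sm, k1, k2, k3, k4, k5] <;> field_simp

theorem card0 : Nat.card PX = 20160 := by
  have : 3 * (3 * Nat.card PX) = 181440 := S0243.result F.card 3 (by norm_num)
  omega

theorem index0 : ψ0.range.index = 315 := by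
  have h := ψ0.range.card_mul_index
  rw [card0, ← Nat.card_congr (MonoidHom.ofInjective ψ0_inj).toEquiv, U.card] at h
  omega

theorem gen0 (X : Subgroup PX) (h : ψ0.range ≤ X) (h1 : n10 ∈ X) (h2 : n20 ∈ X) : X = ⊤ := by
  have := Class.SL_eq_top_of_transvection_mem (X.comap (QuotientGroup.mk' _)) fun i j hij c => by
    obtain ⟨u, W, hW, e⟩ := (by decide +kernel : ∀ (i j : Fin 3) (c : F), i ≠ j → ∃ u : U,
      ∃ W ∈ [1, n1S, n2S, n1S * n2S, n2S * n1S, n1S * n2S * n1S],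
        (1 + single i j c) * W.1 = W.1 * sm u) i j c hij
    have hW' : W ∈ X.comap (QuotientGroup.mk' _) := by
      have k1 : n1S ∈ X.comap (QuotientGroup.mk' _) := h1
      have k2 : n2S ∈ X.comap (QuotientGroup.mk' _) := h2
      simp only [List.mem_cons, List.not_mem_nil, or_false] at hW
      rcases hW with rfl | rfl | rfl | rfl | rfl | rfl
      exacts [one_mem _, k1, k2, mul_mem k1 k2, mul_mem k2 k1, mul_mem (mul_mem k1 k2) k1]
    have e' : Matrix.SpecialLinearGroup.transvection hij c * W = W * S u := Subtype.ext e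
    rw [eq_mul_inv_of_mul_eq e']
    exact mul_mem (mul_mem hW' (h ⟨u, rfl⟩)) (inv_mem hW')
  rw [eq_top_iff]
  intro x _
  obtain ⟨s, rfl⟩ := QuotientGroup.mk_surjective x
  exact this.ge (mem_top s)

end Cfsg.Agent.L4S.CA
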