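import Cfsg.Agent.L4S.Basic

/-! Model facts for the pair analysis. -/

set_option autoImplicit false
set_option synthInstance.maxSize 4000
set_option maxRecDepth 100000

namespace Cfsg.Agent.L4S

open Subgroup

namespace B

theorem inner : ∀ b : B, b * b = 1 → b.t.i = false → b.t.j = false → b = inl b.u ∧ b.u * b.u = 1 := by
  decide +kernel

theorem gf : ∀ b : B, b * b = 1 → b.t.i = true → b.t.j = true → ∀ u, u * u = 1 → u ≠ 1 → b.on u = u →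
    ∀ v, v * v = 1 → v ≠ 1 → b.on v = v → v = u := by decide +kernel

theorem out3 : ∀ b : B, b * b = 1 → (b.t.i || b.t.j) = true → ∀ u, u * u = 1 → u ≠ 1 → b.on u = u →
    ∀ v, v * v = 1 → v ≠ 1 → v ≠ u → b.on v = v → u * v = v * u → ∀ w, w * w = 1 → b.on w = w →
    u * w = w * u → v * w = w * v → w = 1 ∨ w = u ∨ w = v ∨ w = u * v := by decide +kernel

theorem cenV2 : ∀ b : B, b.on ⟨0, 1, 0⟩ = ⟨0, 1, 0⟩ → b.on ⟨0, F.w, 0⟩ = ⟨0, F.w, 0⟩ → b.on ⟨0, 0, 1⟩ = ⟨0, 0, 1⟩ →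
    b = inl ⟨0, b.u.y, b.u.z⟩ := by decide +kernel

theorem outer : ∀ b : B, b * b = 1 → (b.t.i || b.t.j) = true → ∃ c, c ≠ 0 ∧ b.on ⟨0, 0, c⟩ = ⟨0, 0, c⟩ ∧
    (∃ u, b.on u * u⁻¹ = ⟨0, 0, c⟩) ∧ ((∃ y, b.on y = y ∧ y * y = ⟨0, 0, c⟩) ∨
      b.on ⟨0, 0, F.w * c⟩ = ⟨0, 0, F.w * c⟩ ∧
        ∃ v, b * (inl v * ⟨1, Tau.h⟩ * (inl v)⁻¹) * b⁻¹ = inl v * ⟨1, Tau.h⟩ * (inl v)⁻¹) := by
  decide +kernel

end B

instance decAllFF (p : F × F → Prop) [DecidablePred p] : Decidable (∀ u, p u) :=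
  decidable_of_iff (∀ x y, p (x, y)) Prod.forall.symm

instance decExFF (p : F × F → Prop) [DecidablePred p] : Decidable (∃ u, p u) :=
  decidable_of_iff (∃ x y, p (x, y)) Prod.exists.symm

/-- the additive map `F → Bool` with given values on `1, ω` -/
def lb (a b : Bool) : F → Bool
  | .o => false | .i => a | .w => b | .v => xor a b

theorem eq_lb {ι : F × F → Bool} (h : ∀ p q, ι (p + q) = xor (ι p) (ι q)) : ∃ a b c d,
    ι = fun p => xor (lb a b p.1) (lb c d p.2) := by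
  have h0 : ι 0 = false := by simpa using h 0 0
  refine ⟨ι (1, 0), ι (F.w, 0), ι (0, 1), ι (0, F.w), funext fun ⟨p, q⟩ => ?_⟩
  rw [show (p, q) = (p, 0) + (0, q) by simp, h]
  congr 1
  · cases p
    exacts [h0, rfl, rfl, h (1, 0) (F.w, 0)]
  · cases q
    exacts [h0, rfl, rfl, h (0, 1) (0, F.w)]

theorem lin2 {ι κ : F × F → Bool} (h : ∀ p q, ι (p + q) = xor (ι p) (ι q))
    (k : ∀ p q, κ (p + q) = xor (κ p) (κ q)) : (∀ p, ι p = false ∧ κ p = false) ∨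
    (∃ s, ι s = true ∧ κ s = true ∧ ∃ p, p ≠ 0 ∧ (ι p = false ∧ κ p = false) ∧
      ∃ q, q ≠ 0 ∧ q ≠ p ∧ ι q = false ∧ κ q = false) ∨
    ∃ s, (ι s || κ s) = true ∧ ∃ p, p ≠ 0 ∧ (ι p = false ∧ κ p = false) ∧
      ∃ q, q ≠ 0 ∧ q ≠ p ∧ (ι q = false ∧ κ q = false) ∧
      ∃ r, r ≠ 0 ∧ r ≠ p ∧ r ≠ q ∧ r ≠ p + q ∧ ι r = false ∧ κ r = false := by
  obtain ⟨a, b, c, d, rfl⟩ := eq_lb h
  obtain ⟨a', b', c', d', rfl⟩ := eq_lb k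
  clear h k
  revert a b c d a' b' c' d'
  decide +kernel

namespace U

theorem iv : ∀ u : U, u * u = 1 → u.x = 0 ∨ u.y = 0 := by decide
theorem iv2 : ∀ u v : U, u * v = v * u → u.x ≠ 0 → u.y = 0 → v.y = 0 := by decide +kernel

end U

namespace B

theorem on_of_comm {b : B} {u : U} (c : b * inl u = inl u * b) : b.on u = u :=
  inl_inj (by rw [← conj_inl, c, mul_inv_cancel_right])

theorem comm_of_on {b : B} {u : U} (c : b.on u = u) : b * inl u = inl u * b := by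
  rw [← mul_inv_eq_iff_eq_mul, conj_inl, c]

/-- the subgroups `2⁴` of the model -/
theorem rank4 {φ : F × F → B} (ha : ∀ p q, φ (p + q) = φ p * φ q) (hi : ∀ p, φ p = 1 → p = 0) :
    ((∀ p, ∃ x z, φ p = inl ⟨x, 0, z⟩) ∧ ∀ x z, ∃ p, φ p = inl ⟨x, 0, z⟩) ∨
    ((∀ p, ∃ y z, φ p = inl ⟨0, y, z⟩) ∧ ∀ y z, ∃ p, φ p = inl ⟨0, y, z⟩) := by
  have pp : ∀ p : F × F, p + p = 0 := by decide
  have h0 : φ 0 = 1 := by simpa using ha 0 0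
  have sq p : φ p * φ p = 1 := by rw [← ha, pp, h0]
  have cm p q : φ p * φ q = φ q * φ p := by rw [← ha, add_comm, ha]
  have inj : Function.Injective φ := fun p q e => by
    have := hi (p + q) (by rw [ha, e, sq])
    rw [← add_zero p, ← pp q, ← add_assoc, this, zero_add]
  have n0 {p} (h : (φ p).t.i = false ∧ (φ p).t.j = false) := inner _ (sq p) h.1 h.2
  have fx {p} (h : (φ p).t.i = false ∧ (φ p).t.j = false) s : (φ s).on (φ p).u = (φ p).u :=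
    on_of_comm (by rw [← (n0 h).1, cm])
  have ne {p q} (h : (φ p).t.i = false ∧ (φ p).t.j = false) (k : (φ q).t.i = false ∧ (φ q).t.j = false)
      (n : p ≠ q) : (φ p).u ≠ (φ q).u := fun e => n (inj (by rw [(n0 h).1, e, ← (n0 k).1]))
  have n1 {p} (h : (φ p).t.i = false ∧ (φ p).t.j = false) (n : p ≠ 0) : (φ p).u ≠ 1 :=
    fun e => n (hi p (by rw [(n0 h).1, e, map_one]))
  have cu {p q} (h : (φ p).t.i = false ∧ (φ p).t.j = false) (k : (φ q).t.i = false ∧ (φ q).t.j = false) :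
      (φ p).u * (φ q).u = (φ q).u * (φ p).u :=
    inl_inj (by rw [map_mul, map_mul, ← (n0 h).1, ← (n0 k).1, cm])
  rcases lin2 (ι := fun p => (φ p).t.i) (κ := fun p => (φ p).t.j) (fun p q => by rw [ha]; rfl)
    (fun p q => by rw [ha]; rfl) with h | ⟨s, s1, s2, p, p0, h, q, q0, n, k⟩ |
      ⟨s, s1, p, p0, h, q, q0, n, k, r, r0, rp, rq, rs, l⟩
  · have fin {f : F × F → F × F} {g : F × F → U} (e : ∀ p, φ p = inl (g (f p))) x :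
        ∃ p, φ p = inl (g x) := by
      obtain ⟨p, rfl⟩ := Finite.surjective_of_injective (f := f) (fun p q c => inj (by rw [e, c, ← e])) x
      exact ⟨p, e p⟩
    by_cases c : ∃ s, (φ s).u.x ≠ 0
    · obtain ⟨s, c⟩ := c
      have e p : φ p = inl ⟨(φ p).u.x, 0, (φ p).u.z⟩ := by
        rw [← U.iv2 _ _ (cu (h s) (h p)) c ((U.iv _ (n0 (h s)).2).resolve_left c)]; exact (n0 (h p)).1
      exact Or.inl ⟨fun p => ⟨_, _, e p⟩, fun x z =>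
        fin (f := fun p => ((φ p).u.x, (φ p).u.z)) (g := fun p => ⟨p.1, 0, p.2⟩) e (x, z)⟩
    · push Not at c
      have e p : φ p = inl ⟨0, (φ p).u.y, (φ p).u.z⟩ := by rw [← c p]; exact (n0 (h p)).1
      exact Or.inr ⟨fun p => ⟨_, _, e p⟩, fun x z =>
        fin (f := fun p => ((φ p).u.y, (φ p).u.z)) (g := fun p => ⟨0, p.1, p.2⟩) e (x, z)⟩
  · exact absurd (gf _ (sq s) s1 s2 _ (n0 h).2 (n1 h p0) (fx h s) _ (n0 k).2 (n1 k q0) (fx k s)) (ne k h n)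
  · rcases out3 _ (sq s) s1 _ (n0 h).2 (n1 h p0) (fx h s) _ (n0 k).2 (n1 k q0) (ne k h n) (fx k s) (cu h k) _
      (n0 l).2 (fx l s) (cu h l) (cu k l) with e | e | e | e
    exacts [absurd e (n1 l r0), absurd e (ne l h rp), absurd e (ne l k rq),
      absurd (inj (by rw [ha, (n0 l).1, e, map_mul, ← (n0 h).1, ← (n0 k).1])) rs]

theorem rank4_cen {φ : F × F → B} (ha : ∀ p q, φ (p + q) = φ p * φ q) (hi : ∀ p, φ p = 1 → p = 0) {m : B}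
    (c : ∀ p, m * φ p = φ p * m) : ∃ p, φ p = m := by
  rcases rank4 ha hi with ⟨-, h⟩ | ⟨-, h⟩
  · have k x z : m.on ⟨x, 0, z⟩ = ⟨x, 0, z⟩ := let ⟨p, e⟩ := h x z; on_of_comm (e ▸ c p)
    exact cenV1 m (k _ _) (k _ _) (k _ _) ▸ h _ _
  · have k x z : m.on ⟨0, x, z⟩ = ⟨0, x, z⟩ := let ⟨p, e⟩ := h x z; on_of_comm (e ▸ c p)
    exact cenV2 m (k _ _) (k _ _) (k _ _) ▸ h _ _

end B

/-- conjugation by `h` -/
def hh (u : U) : U := ⟨F.v * u.x, F.v * u.y, F.w * u.z⟩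

namespace U

theorem pow4 : ∀ u : U, u * u * (u * u) = 1 := by decide
theorem split : ∀ u : U, u = ⟨u.x, 0, 0⟩ * ⟨0, u.y, u.z + u.x * u.y⟩ := by decide
theorem zc : ∀ (u : U) c, Commute u ⟨0, 0, c⟩ := by unfold Commute SemiconjBy; decide +kernel
theorem zadd : ∀ c d : F, (⟨0, 0, c + d⟩ : U) = ⟨0, 0, c⟩ * ⟨0, 0, d⟩ := by decide
theorem zsq : ∀ c : F, (⟨0, 0, c⟩ * ⟨0, 0, c⟩ : U) = 1 := by decide
theorem zne : ∀ c : F, c ≠ 0 → (⟨0, 0, c⟩ : U) ≠ 1 := by decide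
theorem sqz : ∀ u : U, ∃ c, u * u = ⟨0, 0, c⟩ := by decide
theorem small : ∀ u : U, u = 1 ∨ u = ⟨0, 0, 1⟩ ∨ u = ⟨0, 0, F.w⟩ ∨ u * ⟨0, 0, 1⟩ = ⟨0, 0, F.w⟩ ∨
    ∃ v, v * u * v⁻¹ * u⁻¹ = ⟨0, 0, F.w⟩ := by decide +kernel
theorem fpf : ∀ u : U, ∃ c, u = hh (u⁻¹ * hh u) * ⟨0, 0, c⟩ := by decide +kernel
theorem line : ∀ (u : U) q, q ≠ 0 → ∃ c, u = ⟨q * u.x, q * u.y, 0⟩ * ⟨0, 0, c⟩ ∨
    u = hh ⟨q * u.x, q * u.y, 0⟩ * ⟨0, 0, c⟩ ∨ u = hh (hh ⟨q * u.x, q * u.y, 0⟩) * ⟨0, 0, c⟩ := by decide +kernel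
theorem lineadd : ∀ x y p q : F, ∃ c, (⟨(p + q) * x, (p + q) * y, 0⟩ : U)⁻¹ *
    (⟨p * x, p * y, 0⟩ * ⟨q * x, q * y, 0⟩) = ⟨0, 0, c⟩ := by decide +kernel
theorem off : ∀ x y : F, ∃ u : U, ∀ q c, (⟨q * x, q * y, 0⟩ : U)⁻¹ * u ≠ ⟨0, 0, c⟩ := by decide +kernel
theorem cmz : ∀ u v : U, ∃ c, (u * v)⁻¹ * (v * u) = ⟨0, 0, c⟩ := by decide +kernel
theorem cls : ∀ u : U, u * u = 1 → u ≠ 1 → ∃ v c, c ≠ 0 ∧
    (u = ⟨0, 0, c⟩ ∨ v * u * v⁻¹ = ⟨c, 0, 0⟩ ∨ v * u * v⁻¹ = ⟨0, c, 0⟩) := by decide +kernel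
theorem clz : ∀ c : F, c ≠ 0 → c = 1 ∨ hh ⟨0, 0, c⟩ = ⟨0, 0, 1⟩ ∨ hh (hh ⟨0, 0, c⟩) = ⟨0, 0, 1⟩ := by decide

theorem pgrp : IsPGroup 2 U := IsPGroup.of_card (n := 6) card

end U

end Cfsg.Agent.L4S
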