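import Cfsg.Agent.L4S.Defs

/-! Standard subgroups `L₃(4)`: basic consequences of the configuration. -/

set_option autoImplicit false
set_option synthInstance.maxSize 4000
set_option maxRecDepth 100000

namespace Cfsg.Agent.L4S

open Subgroup
open F (fr)

variable {G : Type*} [Group G] {A : Subgroup G} {ψ : U →* G} {α : G → B} {ν : G → Bool × Bool} {h n1 n2 : G}

/-- the conjugate subgroup `g A g⁻¹` -/
abbrev cj (g : G) (A : Subgroup G) : Subgroup G := A.map (MulAut.conj g).toMonoidHom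

theorem mem_cj {g x : G} : x ∈ cj g A ↔ g⁻¹ * x * g ∈ A :=
  ⟨by rintro ⟨y, hy, rfl⟩; simpa [mul_assoc] using hy, fun h => ⟨_, h, by simp [mul_assoc]⟩⟩

theorem cj_mem_cj {g x : G} : g * x * g⁻¹ ∈ cj g A ↔ x ∈ A := by rw [mem_cj]; simp [mul_assoc]

theorem mem_cen {x : G} : x ∈ centralizer (A : Set G) ↔ ∀ a ∈ A, Commute x a :=
  ⟨fun h a ha => (h a ha).symm, fun h a ha => (h a ha).symm⟩

theorem cen_cj {g x : G} : x ∈ centralizer (cj g A : Set G) ↔ g⁻¹ * x * g ∈ centralizer (A : Set G) := by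
  simp only [mem_cen]
  refine ⟨fun h a ha => (comm_cj' (h _ (cj_mem_cj.2 ha)).symm).symm, fun h a ha => ?_⟩
  simpa [mul_assoc] using comm_cj (h _ (mem_cj.1 ha)) g

theorem nor_cj {g x : G} : x ∈ normalizer (cj g A : Set G) ↔ g⁻¹ * x * g ∈ normalizer (A : Set G) := by
  simp only [mem_normalizer_iff, mem_cj]
  refine ⟨fun h a => ?_, fun h a => ?_⟩
  · simpa [mul_assoc] using h (g * a * g⁻¹)
  · simpa [mul_assoc] using h (g⁻¹ * a * g)

theorem nor_cjA {m a : G} (hm : m ∈ normalizer (A : Set G)) (ha : a ∈ A) : m * a * m⁻¹ ∈ A :=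
  (mem_normalizer_iff.1 hm a).1 ha

theorem nor_cjK {m k : G} (hm : m ∈ normalizer (A : Set G)) (hk : k ∈ centralizer (A : Set G)) :
    m * k * m⁻¹ ∈ centralizer (A : Set G) :=
  mem_cen.2 fun a ha => comm_cj'' (mem_cen.1 hk _ (by simpa using nor_cjA (inv_mem hm) ha))

theorem cen_le_nor : centralizer (A : Set G) ≤ normalizer (A : Set G) := fun k hk =>
  mem_normalizer_iff.2 fun a => ⟨fun ha => by rwa [cj_of_comm (mem_cen.1 hk a ha)], fun ha => by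
    have := cj_of_comm (mem_cen.1 hk _ ha).inv_left
    rw [show a = k * a * k⁻¹ by rw [← this]; group]; exact ha⟩

theorem range_cj (g : G) : ((MulAut.conj g).toMonoidHom.comp ψ).range = cj g ψ.range := by
  rw [MonoidHom.range_comp]

theorem range_θ : (ψ.comp θ).range = ψ.range :=
  le_antisymm (by rintro _ ⟨x, rfl⟩; exact ⟨_, rfl⟩) (by rintro _ ⟨x, rfl⟩; exact ⟨θ x, congrArg ψ (θ_θ x)⟩)

theorem nor_of_act {m : G} (h : ∀ u, ∃ u', m * ψ u * m⁻¹ = ψ u') : m ∈ normalizer (ψ.range : Set G) :=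
  have : Finite (ψ.range : Set G) := Set.finite_range ψ
  mem_normalizer_fintype (by rintro _ ⟨x, rfl⟩; obtain ⟨u, e⟩ := h x; exact ⟨_, e.symm⟩)

theorem act_of_nor {m : G} (hm : m ∈ normalizer (ψ.range : Set G)) (u : U) : ∃ u', m * ψ u * m⁻¹ = ψ u' := by
  obtain ⟨u', e⟩ := nor_cjA hm ⟨u, rfl⟩
  exact ⟨u', e.symm⟩

theorem IsD.cj {d : G} (hd : IsD A d) (g : G) : IsD A (g * d * g⁻¹) := by
  obtain ⟨h1, h2, x, h3⟩ := hd
  refine ⟨by rw [← cj_mul' g, h1]; simp, fun e => h2 (by simpa using e), x * g⁻¹, by simpa [mul_assoc] using h3⟩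
where cj_mul' (g : G) : g * (d * d) * g⁻¹ = g * d * g⁻¹ * (g * d * g⁻¹) := by group

theorem IsD.of_cj {d g : G} (hd : IsD A (g * d * g⁻¹)) : IsD A d := by simpa [mul_assoc] using hd.cj g⁻¹

theorem isD_cj {d g : G} : IsD (cj g A) d ↔ IsD A d := by
  refine and_congr_right fun _ => and_congr_right fun _ => ⟨fun ⟨x, e⟩ => ⟨g⁻¹ * x, ?_⟩, fun ⟨x, e⟩ => ⟨g * x, ?_⟩⟩
  · simpa [mul_assoc] using cen_cj.1 e
  · exact cen_cj.2 (by simpa [mul_assoc] using e)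

theorem isD_of_mem {d : G} (h1 : d * d = 1) (h2 : d ≠ 1) (hd : d ∈ centralizer (A : Set G)) : IsD A d :=
  ⟨h1, h2, 1, by simpa using hd⟩

namespace B

theorem cenU : ∀ b : B, b.on ⟨1, 0, 0⟩ = ⟨1, 0, 0⟩ → b.on ⟨F.w, 0, 0⟩ = ⟨F.w, 0, 0⟩ → b.on ⟨0, 1, 0⟩ = ⟨0, 1, 0⟩ →
    b.on ⟨0, F.w, 0⟩ = ⟨0, F.w, 0⟩ → b = inl ⟨0, 0, b.u.z⟩ := by decide +kernel

theorem cenV1 : ∀ b : B, b.on ⟨1, 0, 0⟩ = ⟨1, 0, 0⟩ → b.on ⟨F.w, 0, 0⟩ = ⟨F.w, 0, 0⟩ → b.on ⟨0, 0, 1⟩ = ⟨0, 0, 1⟩ →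
    b = inl ⟨b.u.x, 0, b.u.z⟩ := by decide +kernel

/-- the graph automorphism as an element of the model -/
def γ : B := ⟨1, Tau.γ⟩

theorem γ_inl : ∀ u, γ * inl (θ u) * γ⁻¹ = inl u := by decide +kernel

theorem γ_t : ∀ t : Tau, (Tau.γ * t * Tau.γ⁻¹).i = t.i ∧ (Tau.γ * t * Tau.γ⁻¹).j = t.j := by decide +kernel

theorem inl_inj : Function.Injective inl := fun _ _ e => congrArg B.u e

theorem on_mul (a b : B) (u : U) : (a * b).on u = a.on (b.on u) :=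
  inl_inj (by simp only [← conj_inl, cj_mul])

theorem on_inl (a u : U) : (inl a).on u = a * u * a⁻¹ := by simp only [on, inl_apply, Tau.one_act]

theorem on_one (u : U) : (1 : B).on u = u := by simpa using on_inl 1 u

end B

namespace Cfg

variable (H : Cfg A ψ α ν h n1 n2)
include H

theorem ne {u : U} (hu : u ≠ 1) : ψ u ≠ 1 := fun e => hu (H.inj (e.trans ψ.map_one.symm))

/-- `A` has trivial centre -/
theorem cKA {a : G} (ha : a ∈ A) (hk : a ∈ centralizer (A : Set G)) : a = 1 := by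
  have := H.simple
  rcases (inferInstance : (center A).Normal).eq_bot_or_eq_top with e | e
  · exact congrArg Subtype.val (e.le (mem_center_iff.2 fun b => Subtype.ext (hk b b.2) :
      (⟨a, ha⟩ : A) ∈ center A))
  · have := congrArg Subtype.val (mem_center_iff.1 (e.ge (mem_top (⟨_, H.mem ⟨1, 0, 0⟩⟩ : A))) ⟨_, H.mem ⟨0, 1, 0⟩⟩)
    exact absurd (H.inj ((map_mul ψ _ _).trans (this.trans (map_mul ψ _ _).symm))) (by decide)

theorem memK {u : U} (hk : ψ u ∈ centralizer (A : Set G)) : u = 1 :=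
  H.inj ((H.cKA (H.mem u) hk).trans ψ.map_one.symm)

theorem psiN (u : U) : ψ u ∈ normalizer (A : Set G) ⊓ normalizer (ψ.range : Set G) :=
  ⟨le_normalizer (H.mem u), le_normalizer ⟨u, rfl⟩⟩

theorem KN {k : G} (hk : k ∈ centralizer (A : Set G)) :
    k ∈ normalizer (A : Set G) ⊓ normalizer (ψ.range : Set G) :=
  ⟨cen_le_nor hk, nor_of_act fun u => ⟨u, cj_of_comm (mem_cen.1 hk _ (H.mem u))⟩⟩

theorem hNN : h ∈ normalizer (A : Set G) ⊓ normalizer (ψ.range : Set G) := ⟨le_normalizer H.hA, H.hN⟩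

theorem aK {k : G} (hk : k ∈ centralizer (A : Set G)) : α k = 1 := (H.aker k (H.KN hk)).2 hk

theorem aone : α 1 = 1 := H.aK (one_mem _)

theorem ainv {m : G} (hm : m ∈ normalizer (A : Set G) ⊓ normalizer (ψ.range : Set G)) : α m⁻¹ = (α m)⁻¹ :=
  eq_inv_of_mul_eq_one_left (by rw [← H.amul _ (inv_mem hm) _ hm, inv_mul_cancel, H.aone])

theorem acj {m x : G} (hm : m ∈ normalizer (A : Set G) ⊓ normalizer (ψ.range : Set G))
    (hx : x ∈ normalizer (A : Set G) ⊓ normalizer (ψ.range : Set G)) : α (m * x * m⁻¹) = α m * α x * (α m)⁻¹ := by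
  rw [H.amul _ (mul_mem hm hx) _ (inv_mem hm), H.amul _ hm _ hx, H.ainv hm]

/-- `α` as a homomorphism -/
def αh : ↥(normalizer (A : Set G) ⊓ normalizer (ψ.range : Set G)) →* B :=
  MonoidHom.mk' (fun m => α m) fun a b => H.amul _ a.2 _ b.2

theorem apow {m : G} (hm : m ∈ normalizer (A : Set G) ⊓ normalizer (ψ.range : Set G)) (n : ℕ) :
    α (m ^ n) = α m ^ n := map_pow H.αh ⟨m, hm⟩ n

/-- equal action means equal modulo `C(A)` -/
theorem of_aeq {m x : G} (hm : m ∈ normalizer (A : Set G) ⊓ normalizer (ψ.range : Set G))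
    (hx : x ∈ normalizer (A : Set G) ⊓ normalizer (ψ.range : Set G)) (e : α m = α x) :
    x⁻¹ * m ∈ centralizer (A : Set G) :=
  (H.aker _ (mul_mem (inv_mem hx) hm)).1 (by rw [H.amul _ (inv_mem hx) _ hm, H.ainv hx, e, inv_mul_cancel])

/-- the action of `N(A) ∩ N(U)` on `U` -/
theorem act {m : G} (hm : m ∈ normalizer (A : Set G) ⊓ normalizer (ψ.range : Set G)) (u : U) :
    m * ψ u * m⁻¹ = ψ ((α m).on u) := by
  have h1 := H.of_aeq (mul_mem (mul_mem hm (H.psiN u)) (inv_mem hm)) (H.psiN ((α m).on u))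
    (by rw [H.acj hm (H.psiN u), H.apsi, H.apsi, B.conj_inl])
  exact (inv_mul_eq_one.1 (H.cKA (mul_mem (inv_mem (H.mem _)) (nor_cjA hm.1 (H.mem u))) h1)).symm

theorem hact (x y z : F) : h * ψ ⟨x, y, z⟩ * h⁻¹ = ψ ⟨F.v * x, F.v * y, F.w * z⟩ := by
  rw [H.act H.hNN, H.ah]; congr 1; revert x y z; decide +kernel

/-- `C_{N(A)}(z)` normalises `U` -/
theorem nor_of_z {m : G} (hm : m ∈ normalizer (A : Set G)) (c : Commute m (ψ ⟨0, 0, 1⟩)) :
    m ∈ normalizer (ψ.range : Set G) :=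
  nor_of_act fun u => by
    obtain ⟨u', e⟩ := H.fa _ (nor_cjA hm (H.mem u)) (comm_cj'' (by
      rw [show m⁻¹ * ψ ⟨0, 0, 1⟩ * m = ψ ⟨0, 0, 1⟩ by simpa using cj_of_comm c.inv_left]
      exact Commute.map (show u * _ = _ * u by revert u; decide +kernel) ψ))
    exact ⟨u', e.symm⟩

theorem on_eq {m : G} (hm : m ∈ normalizer (A : Set G) ⊓ normalizer (ψ.range : Set G)) {u : U}
    (c : Commute m (ψ u)) : (α m).on u = u := H.inj (by rw [← H.act hm, cj_of_comm c])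

/-- `C_{N(A)}(V₁) = V₁ C(A)` -/
theorem cenV1 {m : G} (hm : m ∈ normalizer (A : Set G)) (c : ∀ x z, Commute m (ψ ⟨x, 0, z⟩)) :
    ∃ x z, (ψ ⟨x, 0, z⟩)⁻¹ * m ∈ centralizer (A : Set G) :=
  have hm' : m ∈ normalizer (A : Set G) ⊓ normalizer (ψ.range : Set G) := ⟨hm, H.nor_of_z hm (c _ _)⟩
  ⟨_, _, H.of_aeq hm' (H.psiN _) ((B.cenV1 _ (H.on_eq hm' (c _ _)) (H.on_eq hm' (c _ _))
    (H.on_eq hm' (c _ _))).trans (H.apsi _).symm)⟩

/-- `C_{N(A)}(U) = Z C(A)` -/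
theorem cenU {m : G} (hm : m ∈ normalizer (A : Set G)) (c : ∀ u, Commute m (ψ u)) :
    ∃ z, (ψ ⟨0, 0, z⟩)⁻¹ * m ∈ centralizer (A : Set G) :=
  have hm' : m ∈ normalizer (A : Set G) ⊓ normalizer (ψ.range : Set G) := ⟨hm, H.nor_of_z hm (c _)⟩
  ⟨_, H.of_aeq hm' (H.psiN _) ((B.cenU _ (H.on_eq hm' (c _)) (H.on_eq hm' (c _))
    (H.on_eq hm' (c _)) (H.on_eq hm' (c _))).trans (H.apsi _).symm)⟩

/-- an element commuting with an involution of `C(A)` normalises `A` -/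
theorem nor_of_comm {t x : G} (ht : t ∈ centralizer (A : Set G)) (h1 : t * t = 1) (h2 : t ≠ 1)
    (c : Commute x t) : x ∈ normalizer (A : Set G) :=
  H.te t ht h1 h2 x (by rwa [cj_of_comm c])

/-- the conjugate configuration -/
theorem conj (g : G) : Cfg (cj g A) ((MulAut.conj g).toMonoidHom.comp ψ) (fun x => α (g⁻¹ * x * g))
    (fun x => ν (g⁻¹ * x * g)) (g * h * g⁻¹) (g * n1 * g⁻¹) (g * n2 * g⁻¹) := by
  have e1 : ∀ a b : G, g⁻¹ * (a * b) * g = g⁻¹ * a * g * (g⁻¹ * b * g) := fun a b => by group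
  have e2 : ∀ a : G, g⁻¹ * (g * a * g⁻¹) * g = a := fun a => by group
  have e3 : ∀ u, ((MulAut.conj g).toMonoidHom.comp ψ) u = g * ψ u * g⁻¹ := fun u => rfl
  have e4 : ∀ a b : G, g * a * g⁻¹ * (g * b * g⁻¹) * (g * a * g⁻¹)⁻¹ = g * (a * b * a⁻¹) * g⁻¹ :=
    fun a b => by group
  have e5 : ∀ a : G, g * a * g⁻¹ * (g * a * g⁻¹) = g * (a * a) * g⁻¹ := fun a => by group
  have nn : ∀ {a}, a ∈ normalizer (cj g A : Set G) ⊓
      normalizer (((MulAut.conj g).toMonoidHom.comp ψ).range : Set G) →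
      g⁻¹ * a * g ∈ normalizer (A : Set G) ⊓ normalizer (ψ.range : Set G) := fun ha =>
    ⟨nor_cj.1 ha.1, nor_cj.1 (range_cj (ψ := ψ) g ▸ ha.2)⟩
  refine ⟨(MulAut.conj g).injective.comp H.inj, fun u => cj_mem_cj.2 (H.mem u),
    fun a ha b hb => by rw [e1, H.amul _ (nn ha) _ (nn hb)], fun a ha => (H.aker _ (nn ha)).trans cen_cj.symm,
    fun u => by rw [e3, e2, H.apsi], fun a ha b hb => by rw [e1, H.numul _ (nor_cj.1 ha) _ (nor_cj.1 hb)],
    fun a ha => H.nuA _ (mem_cj.1 ha), fun a ha => H.nua _ (nn ha), cj_mem_cj.2 H.hA,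
    by rw [range_cj, nor_cj, e2]; exact H.hN, by rw [e2, H.ah], by rw [conj_pow, H.h3]; simp,
    cj_mem_cj.2 H.n1A, by rw [e5, H.n1sq]; simp, by rw [e4, H.n1h]; group,
    fun x z => by rw [e3, e3, e4, H.n1act], cj_mem_cj.2 H.n2A, by rw [e5, H.n2sq]; simp,
    by rw [e4, H.n2h]; group, fun x z => by rw [e3, e3, e4, H.n2act], fun a ha c => ?_, fun P hP hN => ?_, ?_,
    fun X a b c => ?_, fun t ht h1 h2 x hx => ?_, fun x hx => H.nc (g⁻¹ * x * g) fun a ha => ?_, ?_⟩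
  · rw [range_cj, mem_cj]
    exact H.fa _ (mem_cj.1 ha) (comm_cj' c.symm).symm
  · obtain ⟨a, ha, e⟩ := H.syl (cj g⁻¹ P) (hP.map _) fun x hx => by
      simpa [mul_assoc] using nor_cj.1 (hN (mem_cj.1 hx))
    refine ⟨_, cj_mem_cj.2 ha, fun x hx => ?_⟩
    rw [range_cj, nor_cj]
    simpa [mul_assoc] using e _ ((cj_mem_cj (g := g⁻¹)).2 hx)
  · have := H.simple
    exact ((MulAut.conj g).subgroupMap A).symm.isSimpleGroup
  · intro x hx
    have := H.gen (cj g⁻¹ X) (by rintro _ ⟨u, rfl⟩; exact mem_cj.2 (by simpa using a ⟨u, rfl⟩))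
      (mem_cj.2 (by simpa using b)) (mem_cj.2 (by simpa using c)) (mem_cj.1 hx)
    simpa [mul_assoc] using mem_cj.1 this
  · exact nor_cj.2 (H.te _ (cen_cj.1 ht) (by rw [← e1, h1]; simp) (fun e => h2 (by rw [← mul_inv_cancel_left g t, ← mul_inv_cancel_right (g * _) g, mul_assoc g, e]; simp)) _
      (by simpa [mul_assoc] using cen_cj.1 hx))
  · simpa [mul_assoc] using cen_cj.1 (hx _ (cj_mem_cj.2 ha))
  · obtain ⟨t, ht, h1, h2⟩ := H.ex
    exact ⟨g * t * g⁻¹, cen_cj.2 (by rwa [e2]), by rw [e5, h1]; simp, fun e => h2 (by simpa using e)⟩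

/-- the dual configuration -/
theorem dual : Cfg A (ψ.comp θ) (fun x => B.γ * α x * B.γ⁻¹) ν h n2 n1 := by
  have e : ∀ x y z, (ψ.comp θ) ⟨x, y, z⟩ = ψ ⟨y, x, z + x * y⟩ := fun x y z => congrArg ψ (θ_apply x y z)
  refine ⟨H.inj.comp fun a b e => by rw [← θ_θ a, e, θ_θ], fun u => H.mem _, ?_, ?_,
    fun u => (congrArg (B.γ * · * B.γ⁻¹) (H.apsi _)).trans (B.γ_inl u), H.numul, H.nuA, ?_, H.hA, by rw [range_θ]; exact H.hN,
    by rw [H.ah]; decide +kernel, H.h3, H.n2A, H.n2sq, H.n2h, fun x z => by simpa [e] using H.n2act x z,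
    H.n1A, H.n1sq, H.n1h, fun x z => by simpa [e] using H.n1act x z,
    fun a ha c => by rw [range_θ]; exact H.fa a ha (by simpa [e] using c), by rw [range_θ]; exact H.syl, H.simple,
    fun X a b c => H.gen X (by rwa [range_θ] at a) c b, H.te, H.nc, H.ex⟩ <;> rw [range_θ]
  · intro a ha b hb; rw [H.amul a ha b hb]; group
  · intro a ha; rw [← H.aker a ha]; simp
  · intro a ha; rw [H.nua a ha]; exact Prod.ext (B.γ_t _).1.symm (B.γ_t _).2.symm

/-- `C_{N(A)}(V₂) = V₂ C(A)` -/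
theorem cenV2 {m : G} (hm : m ∈ normalizer (A : Set G)) (c : ∀ y z, Commute m (ψ ⟨0, y, z⟩)) :
    ∃ y z, (ψ ⟨0, y, z⟩)⁻¹ * m ∈ centralizer (A : Set G) := by
  have e : ∀ x z, (ψ.comp θ) ⟨x, 0, z⟩ = ψ ⟨0, x, z⟩ := fun x z => congrArg ψ ((θ_apply x 0 z).trans (by simp))
  simpa only [e] using H.dual.cenV1 hm (by simpa only [e] using c)

end Cfg

variable {b : Bool} {r : F → G} {g : G} {D : Subgroup G} {s : F → G} {κ1 κ2 : F}

theorem St1.dual (H : St1 A ψ α ν h n1 n2 b r g) :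
    St1 A (ψ.comp θ) (fun x => B.γ * α x * B.γ⁻¹) ν h n2 n1 b r g :=
  have e : ∀ z, (ψ.comp θ) ⟨0, 0, z⟩ = ψ ⟨0, 0, z⟩ := fun z => congrArg ψ ((θ_apply 0 0 z).trans (by simp))
  ⟨H.toCfg.dual, H.radd, H.rK, H.rne, H.rcen, H.rsyl, H.da, H.gM, by rw [range_θ]; exact H.gN, by simpa only [e] using H.gr,
    by simpa only [e] using H.gr', H.ck⟩

theorem St2.dual (H : St2 A ψ α ν h n1 n2 b r g D s κ1 κ2) :
    St2 A (ψ.comp θ) (fun x => B.γ * α x * B.γ⁻¹) ν h n2 n1 b r g D s κ2 κ1 :=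
  have e : ∀ x z, (ψ.comp θ) ⟨x, 0, z⟩ = ψ ⟨0, x, z⟩ := fun x z => congrArg ψ ((θ_apply x 0 z).trans (by simp))
  have e' : ∀ y z, (ψ.comp θ) ⟨0, y, z⟩ = ψ ⟨y, 0, z⟩ := fun y z => congrArg ψ ((θ_apply 0 y z).trans (by simp))
  ⟨H.toSt1.dual, H.memD, H.cD, H.sadd, fun q u => H.sU q _, H.sD, by simpa only [e] using H.rs, H.hs,
    by simpa only [e] using H.as2, by simpa only [e, e'] using H.ya2, by simpa only [e'] using H.as1,
    by simpa only [e, e'] using H.ya1⟩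

theorem sp_zero : Sp b 0 := Or.inr (Or.inl rfl)
theorem sp_one : Sp b 1 := Or.inr (Or.inr rfl)
theorem Sp.add {p q : F} (hp : Sp b p) (hq : Sp b q) : Sp b (p + q) := by revert b p q; decide

theorem St1.r0 (H : St1 A ψ α ν h n1 n2 b r g) : r 0 = 1 := by simpa using H.radd 0 0 sp_zero sp_zero

theorem St1.rsq (H : St1 A ψ α ν h n1 n2 b r g) {p : F} (hp : Sp b p) : r p * r p = 1 := by
  rw [← H.radd p p hp hp, F.add_self, H.r0]

theorem St1.rD (H : St1 A ψ α ν h n1 n2 b r g) {p : F} (hp : Sp b p) (h0 : p ≠ 0) : IsD A (r p) :=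
  isD_of_mem (H.rsq hp) (H.rne p hp h0) (H.rK p hp)

end Cfsg.Agent.L4S
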