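import Mathlib
import Cfsg.Prelude.Def_Local

/-! Standard subgroups `L₃(4)`: models and configurations. -/

set_option autoImplicit false
set_option synthInstance.maxSize 4000
set_option maxRecDepth 100000

namespace Cfsg.Agent.L4S

open Subgroup

/-- the field with four elements `0, 1, ω, ω²` -/
inductive F | o | i | w | v deriving DecidableEq

namespace F

def add : F → F → F
  | o, a => a
  | i, o => i | i, i => o | i, w => v | i, v => w
  | w, o => w | w, i => v | w, w => o | w, v => i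
  | v, o => v | v, i => w | v, w => i | v, v => o

def mul : F → F → F
  | o, _ => o
  | i, a => a
  | w, o => o | w, i => w | w, w => v | w, v => i
  | v, o => o | v, i => v | v, w => i | v, v => w

/-- the Frobenius map, also the inverse -/
def fr : F → F
  | o => o | i => i | w => v | v => w

instance decAll (p : F → Prop) [DecidablePred p] : Decidable (∀ x, p x) :=
  decidable_of_iff (p o ∧ p i ∧ p w ∧ p v)
    ⟨fun h x => by cases x; exacts [h.1, h.2.1, h.2.2.1, h.2.2.2], fun h => ⟨h _, h _, h _, h _⟩⟩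

instance decEx (p : F → Prop) [DecidablePred p] : Decidable (∃ x, p x) :=
  decidable_of_iff (p o ∨ p i ∨ p w ∨ p v) ⟨fun h => by rcases h with h | h | h | h <;> exact ⟨_, h⟩,
    fun ⟨x, h⟩ => by cases x <;> simp [h]⟩

instance : Fintype F := ⟨{o, i, w, v}, by decide⟩
instance : Zero F := ⟨o⟩
instance : One F := ⟨i⟩
instance : Add F := ⟨add⟩
instance : Mul F := ⟨mul⟩
instance : Neg F := ⟨id⟩
instance : Inv F := ⟨fr⟩

instance : Field F := Field.ofMinimalAxioms F (by decide) (by decide) (by decide) (by decide) (by decide)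
  (by decide) (by decide) (by decide) (by decide) (by decide)

theorem card : Fintype.card F = 4 := rfl
@[simp] theorem add_self : ∀ a : F, a + a = 0 := by decide
theorem fr_eq : ∀ a : F, fr a = a * a := by decide
theorem fr_add : ∀ a b : F, fr (a + b) = fr a + fr b := by decide
theorem fr_mul : ∀ a b : F, fr (a * b) = fr a * fr b := by decide
theorem fr_fr : ∀ a : F, fr (fr a) = a := by decide
theorem two : (2 : F) = 0 := by decide

end F

open F (fr)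

/-- the Sylow 2-subgroup of `L₃(4)`: the matrices `1 + x E₁₂ + y E₂₃ + z E₁₃` -/
@[ext] structure U where
  x : F
  y : F
  z : F
  deriving DecidableEq

namespace U

instance decAll (p : U → Prop) [DecidablePred p] : Decidable (∀ u, p u) :=
  decidable_of_iff (∀ x y z, p ⟨x, y, z⟩) ⟨fun h u => h u.x u.y u.z, fun h _ _ _ => h _⟩

instance decEx (p : U → Prop) [DecidablePred p] : Decidable (∃ u, p u) :=
  decidable_of_iff (∃ x y z, p ⟨x, y, z⟩) ⟨fun ⟨_, _, _, h⟩ => ⟨_, h⟩, fun ⟨u, h⟩ => ⟨u.x, u.y, u.z, h⟩⟩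

instance : Mul U := ⟨fun a b => ⟨a.x + b.x, a.y + b.y, a.z + b.z + a.x * b.y⟩⟩
instance : One U := ⟨⟨0, 0, 0⟩⟩
instance : Inv U := ⟨fun a => ⟨a.x, a.y, a.z + a.x * a.y⟩⟩

theorem mul_def (a b : U) : a * b = ⟨a.x + b.x, a.y + b.y, a.z + b.z + a.x * b.y⟩ := rfl
theorem one_def : (1 : U) = ⟨0, 0, 0⟩ := rfl
theorem inv_def (a : U) : a⁻¹ = ⟨a.x, a.y, a.z + a.x * a.y⟩ := rfl

instance : Group U := Group.ofLeftAxioms (fun a b c => by simp only [mul_def, U.mk.injEq]; refine ⟨?_, ?_, ?_⟩ <;> ring)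
  (by decide) (by decide)

instance : Fintype U := Fintype.ofEquiv (F × F × F)
  ⟨fun p => ⟨p.1, p.2.1, p.2.2⟩, fun u => (u.x, u.y, u.z), fun _ => rfl, fun _ => rfl⟩

theorem card : Nat.card U = 64 := by rw [Nat.card_eq_fintype_card]; rfl

end U

/-- `ω ^ a` -/
def ex : Fin 3 → F
  | ⟨0, _⟩ => F.i
  | ⟨1, _⟩ => F.w
  | _ => F.v

/-- `diag (ω ^ a, ω ^ b) * φ ^ i * γ ^ j`: torus, field and graph automorphisms of `U` -/
@[ext] structure Tau where
  a : Fin 3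
  b : Fin 3
  i : Bool
  j : Bool
  deriving DecidableEq

namespace Tau

instance decAll (p : Tau → Prop) [DecidablePred p] : Decidable (∀ u, p u) :=
  decidable_of_iff (∀ a b i j, p ⟨a, b, i, j⟩) ⟨fun h u => h u.a u.b u.i u.j, fun h _ _ _ _ => h _⟩

instance decEx (p : Tau → Prop) [DecidablePred p] : Decidable (∃ u, p u) :=
  decidable_of_iff (∃ a b i j, p ⟨a, b, i, j⟩)
    ⟨fun ⟨_, _, _, _, h⟩ => ⟨_, h⟩, fun ⟨u, h⟩ => ⟨u.a, u.b, u.i, u.j, h⟩⟩

def sg (i : Bool) (a : Fin 3) : Fin 3 := cond i (-a) a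

instance : Mul Tau := ⟨fun s t => ⟨s.a + sg s.i (cond s.j t.b t.a), s.b + sg s.i (cond s.j t.a t.b),
  xor s.i t.i, xor s.j t.j⟩⟩
instance : One Tau := ⟨⟨0, 0, false, false⟩⟩
instance : Inv Tau := ⟨fun s => ⟨-sg s.i (cond s.j s.b s.a), -sg s.i (cond s.j s.a s.b), s.i, s.j⟩⟩

def act (t : Tau) (u : U) : U :=
  let u1 : U := cond t.j ⟨u.y, u.x, u.z + u.x * u.y⟩ u
  let u2 : U := cond t.i ⟨fr u1.x, fr u1.y, fr u1.z⟩ u1
  ⟨ex t.a * u2.x, ex t.b * u2.y, ex t.a * ex t.b * u2.z⟩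

theorem mul_def (s t : Tau) : s * t = ⟨s.a + sg s.i (cond s.j t.b t.a), s.b + sg s.i (cond s.j t.a t.b),
  xor s.i t.i, xor s.j t.j⟩ := rfl

theorem ex_add : ∀ a b, ex (a + b) = ex a * ex b := by decide
theorem ex_neg : ∀ a, ex (-a) = fr (ex a) := by decide

theorem act_mul (t : Tau) (u v : U) : t.act (u * v) = t.act u * t.act v := by
  obtain ⟨a, b, i, j⟩ := t
  cases i <;> cases j <;> simp only [act, U.mul_def, cond_true, cond_false, F.fr_add, F.fr_mul, U.mk.injEq] <;>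
    refine ⟨by ring, by ring, ?_⟩
  · ring
  · linear_combination (ex a * ex b * u.x * v.y) * F.two
  · ring
  · linear_combination (ex a * ex b * fr u.x * fr v.y) * F.two

theorem mul_act (s t : Tau) (u : U) : (s * t).act u = s.act (t.act u) := by
  obtain ⟨a, b, i, j⟩ := s
  obtain ⟨a', b', i', j'⟩ := t
  cases i <;> cases j <;> cases i' <;> cases j' <;>
    simp only [act, mul_def, sg, cond_true, cond_false, F.fr_add, F.fr_mul, F.fr_fr, U.mk.injEq, ex_add, ex_neg,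
      Bool.xor_self, Bool.xor_false, Bool.xor_true, Bool.not_false] <;>
    refine ⟨by ring, by ring, ?_⟩ <;> first
      | ring1
      | linear_combination (-(ex a * ex b * ex a' * ex b' * u.x * u.y)) * F.two
      | linear_combination (-(ex a * ex b * ex a' * ex b' * fr u.x * fr u.y)) * F.two
      | linear_combination (-(ex a * ex b * fr (ex a') * fr (ex b') * u.x * u.y)) * F.two
      | linear_combination (-(ex a * ex b * fr (ex a') * fr (ex b') * fr u.x * fr u.y)) * F.two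

theorem one_act : ∀ u : U, (1 : Tau).act u = u := by decide +kernel
theorem act_one : ∀ t : Tau, t.act 1 = 1 := by decide +kernel

theorem act_inj0 : ∀ s t : Tau, s.act ⟨1, 0, 0⟩ = t.act ⟨1, 0, 0⟩ → s.act ⟨F.w, 0, 0⟩ = t.act ⟨F.w, 0, 0⟩ →
    s.act ⟨0, 1, 0⟩ = t.act ⟨0, 1, 0⟩ → s = t := by decide +kernel

theorem act_inj {s t : Tau} (h : ∀ u, s.act u = t.act u) : s = t := act_inj0 s t (h _) (h _) (h _)

instance : Group Tau := Group.ofLeftAxioms (fun a b c => act_inj fun u => by simp only [mul_act])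
  (by decide +kernel) (by decide +kernel)

/-- the action of the torus element `h = diag (1, ω, ω²)` -/
def h : Tau := ⟨2, 2, false, false⟩
/-- the graph automorphism -/
def γ : Tau := ⟨0, 0, false, true⟩

end Tau

/-- the normaliser of `U` in `Aut (L₃(4))` -/
@[ext] structure B where
  u : U
  t : Tau
  deriving DecidableEq

namespace B

instance decAll (p : B → Prop) [DecidablePred p] : Decidable (∀ u, p u) :=
  decidable_of_iff (∀ t u, p ⟨u, t⟩) ⟨fun h u => h u.t u.u, fun h _ _ => h _⟩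

instance decEx (p : B → Prop) [DecidablePred p] : Decidable (∃ u, p u) :=
  decidable_of_iff (∃ t u, p ⟨u, t⟩) ⟨fun ⟨_, _, h⟩ => ⟨_, h⟩, fun ⟨u, h⟩ => ⟨u.t, u.u, h⟩⟩

instance : Mul B := ⟨fun a b => ⟨a.u * a.t.act b.u, a.t * b.t⟩⟩
instance : One B := ⟨⟨1, 1⟩⟩
instance : Inv B := ⟨fun a => ⟨a.t⁻¹.act a.u⁻¹, a.t⁻¹⟩⟩

theorem mul_def (a b : B) : a * b = ⟨a.u * a.t.act b.u, a.t * b.t⟩ := rfl
theorem one_def : (1 : B) = ⟨1, 1⟩ := rfl
theorem inv_def (a : B) : a⁻¹ = ⟨a.t⁻¹.act a.u⁻¹, a.t⁻¹⟩ := rfl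

instance : Group B := Group.ofLeftAxioms
  (fun a b c => by simp only [mul_def, Tau.act_mul, Tau.mul_act, mul_assoc])
  (fun a => by simp only [mul_def, one_def, Tau.one_act, one_mul])
  (fun a => by simp only [mul_def, inv_def, one_def, ← Tau.act_mul, inv_mul_cancel, Tau.act_one])

def inl : U →* B := MonoidHom.mk' (fun u => ⟨u, 1⟩) fun a b => by simp only [mul_def, Tau.one_act, one_mul]

theorem inl_apply (u : U) : inl u = ⟨u, 1⟩ := rfl

/-- the action on `U` -/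
def on (b : B) (u : U) : U := b.u * b.t.act u * b.u⁻¹

theorem conj_inl (b : B) (u : U) : b * inl u * b⁻¹ = inl (b.on u) := by
  simp only [mul_def, inv_def, inl_apply, on, mul_one, ← Tau.mul_act, mul_inv_cancel, Tau.one_act]

end B

/-- the graph automorphism -/
def θ : U →* U := MonoidHom.mk' Tau.γ.act (Tau.act_mul _)

theorem θ_apply (x y z : F) : θ ⟨x, y, z⟩ = ⟨y, x, z + x * y⟩ := by revert x y z; decide

theorem θ_θ : ∀ u, θ (θ u) = u := by decide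

variable {G : Type*} [Group G]

theorem cj_mul (a b x : G) : a * b * x * (a * b)⁻¹ = a * (b * x * b⁻¹) * a⁻¹ := by group
theorem cj_of_comm {a x : G} (h : Commute a x) : a * x * a⁻¹ = x := by rw [h.eq, mul_inv_cancel_right]
theorem comm_of_cj {a x : G} (h : a * x * a⁻¹ = x) : Commute a x := mul_inv_eq_iff_eq_mul.1 h
theorem comm_cj {a x : G} (h : Commute a x) (g : G) : Commute (g * a * g⁻¹) (g * x * g⁻¹) :=
  h.map (MulAut.conj g)
theorem comm_cj' {a x g : G} (h : Commute (g * a * g⁻¹) x) : Commute a (g⁻¹ * x * g) := by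
  simpa [mul_assoc] using comm_cj h g⁻¹
theorem comm_cj'' {a x g : G} (h : Commute a (g⁻¹ * x * g)) : Commute (g * a * g⁻¹) x := by
  simpa [mul_assoc] using comm_cj h g

/-- `A ≅ L₃(4)` is standard, `ψ` parametrises a Sylow 2-subgroup, `α` is the action of its normaliser in `N(A)`,
`ν` is the map of `N(A)` to the abelianised outer automorphism group -/
structure Cfg (A : Subgroup G) (ψ : U →* G) (α : G → B) (ν : G → Bool × Bool) (h n1 n2 : G) : Prop where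
  inj : Function.Injective ψ
  mem : ∀ u, ψ u ∈ A
  amul : ∀ a ∈ normalizer (A : Set G) ⊓ normalizer (ψ.range : Set G),
    ∀ b ∈ normalizer (A : Set G) ⊓ normalizer (ψ.range : Set G), α (a * b) = α a * α b
  aker : ∀ a ∈ normalizer (A : Set G) ⊓ normalizer (ψ.range : Set G), α a = 1 ↔ a ∈ centralizer (A : Set G)
  apsi : ∀ u, α (ψ u) = B.inl u
  numul : ∀ a ∈ normalizer (A : Set G), ∀ b ∈ normalizer (A : Set G),
    ν (a * b) = (xor (ν a).1 (ν b).1, xor (ν a).2 (ν b).2)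
  nuA : ∀ a ∈ A, ν a = (false, false)
  nua : ∀ a ∈ normalizer (A : Set G) ⊓ normalizer (ψ.range : Set G), ν a = ((α a).t.i, (α a).t.j)
  hA : h ∈ A
  hN : h ∈ normalizer (ψ.range : Set G)
  ah : α h = ⟨1, Tau.h⟩
  h3 : h ^ 3 = 1
  n1A : n1 ∈ A
  n1sq : n1 * n1 = 1
  n1h : n1 * h * n1⁻¹ = h⁻¹
  n1act : ∀ x z, n1 * ψ ⟨x, 0, z⟩ * n1⁻¹ = ψ ⟨z, 0, x⟩
  n2A : n2 ∈ A
  n2sq : n2 * n2 = 1
  n2h : n2 * h * n2⁻¹ = h⁻¹
  n2act : ∀ y z, n2 * ψ ⟨0, y, z⟩ * n2⁻¹ = ψ ⟨0, z, y⟩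
  fa : ∀ a ∈ A, Commute a (ψ ⟨0, 0, 1⟩) → a ∈ ψ.range
  syl : ∀ P : Subgroup G, IsPGroup 2 P → P ≤ normalizer (A : Set G) →
    ∃ a ∈ A, ∀ x ∈ P, a * x * a⁻¹ ∈ normalizer (ψ.range : Set G)
  simple : IsSimpleGroup A
  gen : ∀ X : Subgroup G, ψ.range ≤ X → n1 ∈ X → n2 ∈ X → A ≤ X
  te : ∀ t ∈ centralizer (A : Set G), t * t = 1 → t ≠ 1 → ∀ g, g * t * g⁻¹ ∈ centralizer (A : Set G) →
    g ∈ normalizer (A : Set G)
  nc : ∀ g, (∀ a ∈ A, g * a * g⁻¹ ∈ centralizer (A : Set G)) → False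
  ex : ∃ t ∈ centralizer (A : Set G), t * t = 1 ∧ t ≠ 1

/-- involutions conjugate into `C(A)` -/
def IsD (A : Subgroup G) (d : G) : Prop := d * d = 1 ∧ d ≠ 1 ∧ ∃ g, g * d * g⁻¹ ∈ centralizer (A : Set G)

/-- the parameters of a Sylow 2-subgroup of `C(A)`: all of `F`, or the prime field -/
abbrev Sp (b : Bool) (p : F) : Prop := b = true ∨ p = 0 ∨ p = 1

/-- `R = {r p}` is a Sylow 2-subgroup of `C(A)` and `g` moves it to the graph `{r p * ψ (0, 0, p)}` -/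
structure St1 (A : Subgroup G) (ψ : U →* G) (α : G → B) (ν : G → Bool × Bool) (h n1 n2 : G) (b : Bool)
    (r : F → G) (g : G) : Prop extends Cfg A ψ α ν h n1 n2 where
  radd : ∀ p q, Sp b p → Sp b q → r (p + q) = r p * r q
  rK : ∀ p, Sp b p → r p ∈ centralizer (A : Set G)
  rne : ∀ p, Sp b p → p ≠ 0 → r p ≠ 1
  rcen : ∀ k ∈ centralizer (A : Set G), (∃ n, k ^ 2 ^ n = 1) → (∀ p, Sp b p → Commute k (r p)) →
    ∃ p, Sp b p ∧ k = r p
  rsyl : ∀ P : Subgroup G, IsPGroup 2 P → P ≤ centralizer (A : Set G) →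
    ∃ k ∈ centralizer (A : Set G), ∀ x ∈ P, ∃ p, Sp b p ∧ k * x * k⁻¹ = r p
  da : ∀ a ∈ A, ¬ IsD A a
  gM : g ∉ normalizer (A : Set G)
  gN : g ∈ normalizer (ψ.range : Set G)
  gr : ∀ p, Sp b p → ∃ q, Sp b q ∧ g * r q * g⁻¹ = r p * ψ ⟨0, 0, p⟩
  gr' : ∀ q, Sp b q → ∃ p, Sp b p ∧ g * r q * g⁻¹ = r p * ψ ⟨0, 0, p⟩
  ck : ∀ k ∈ centralizer (A : Set G), ∀ p, Sp b p → p ≠ 0 → Commute k (r p) →
    ∃ q, Sp b q ∧ g⁻¹ * (r q * k) * g ∈ centralizer (A : Set G)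

/-- the elements `s q` translate `R` inside `R Z`; `n1 * s m * n1⁻¹` and `s q` translate it inside `R V₁` -/
structure St2 (A : Subgroup G) (ψ : U →* G) (α : G → B) (ν : G → Bool × Bool) (h n1 n2 : G) (b : Bool)
    (r : F → G) (g : G) (D : Subgroup G) (s : F → G) (κ1 κ2 : F) : Prop
    extends St1 A ψ α ν h n1 n2 b r g where
  memD : ∀ d, d ∈ D ↔ d ∈ centralizer (A : Set G) ∧ (∀ p, Sp b p → Commute d (r p)) ∧ Odd (orderOf d)
  cD : ∀ k ∈ centralizer (A : Set G), (∀ p, Sp b p → Commute k (r p)) → ∃ p, Sp b p ∧ r p * k ∈ D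
  sadd : ∀ p q, s (p + q) = s p * s q
  sU : ∀ q u, Commute (s q) (ψ u)
  sD : ∀ q, ∀ d ∈ D, Commute (s q) d
  rs : ∀ p q, Sp b p → r p * s q * (r p)⁻¹ = s q * ψ ⟨0, 0, p * q⟩
  hs : ∀ q, h * s q * h⁻¹ = s (F.w * q)
  as1 : ∀ m q, n1 * s m * n1⁻¹ * s q * (n1 * s m * n1⁻¹)⁻¹ = s q * ψ ⟨κ1 * m * m * q, 0, κ1 * m * q * q⟩
  ya1 : ∀ y m, Sp b (κ1 * y * m * m) ∧ ∃ x z, ψ ⟨0, y, 0⟩ * (n1 * s m * n1⁻¹) * (ψ ⟨0, y, 0⟩)⁻¹ =
    n1 * s m * n1⁻¹ * s (y * m) * r (κ1 * y * m * m) * ψ ⟨x, 0, z⟩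
  as2 : ∀ m q, n2 * s m * n2⁻¹ * s q * (n2 * s m * n2⁻¹)⁻¹ = s q * ψ ⟨0, κ2 * m * m * q, κ2 * m * q * q⟩
  ya2 : ∀ x m, Sp b (κ2 * x * m * m) ∧ ∃ y z, ψ ⟨x, 0, 0⟩ * (n2 * s m * n2⁻¹) * (ψ ⟨x, 0, 0⟩)⁻¹ =
    n2 * s m * n2⁻¹ * s (x * m) * r (κ2 * x * m * m) * ψ ⟨0, y, z⟩

end Cfsg.Agent.L4S
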