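import Cfsg.Agent.L4S.EDefs

/-! The Suzuki case: the subgroup `P = 2^{2+8}` and its normaliser. -/

set_option autoImplicit false
set_option synthInstance.maxSize 4000
set_option maxRecDepth 100000

namespace Cfsg.Agent.L4S

open Subgroup PP
open F (fr)

variable {G : Type*} [Group G] {A : Subgroup G} {ψ : U →* G} {α : G → B} {ν : G → Bool × Bool} {h n1 n2 : G}
  {r : F → G} {g : G} {D : Subgroup G} {s : F → G}

local notation "𝐊" => centralizer (A : Set G)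
local notation "𝐌" => normalizer (A : Set G)
local notation "𝐂" => centralizer (D : Set G)

theorem spt (p : F) : Sp true p := Or.inl rfl

theorem one_of_odd {d : G} (hd : Odd (orderOf d)) {n : ℕ} (e : d ^ 2 ^ n = 1) : d = 1 :=
  orderOf_eq_one_iff.1 (Nat.Coprime.eq_one_of_dvd ((Nat.coprime_two_right.2 hd).pow_right n)
    (orderOf_dvd_of_pow_eq_one e))

theorem mem_of_sq {X : Subgroup G} {d : G} (hd : Odd (orderOf d)) (e : d * d ∈ X) : d ∈ X := by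
  obtain ⟨k, hk⟩ := hd
  have : d = (d * d) ^ (k + 1) := by
    rw [← pow_two, ← pow_mul, show 2 * (k + 1) = orderOf d + 1 by omega, pow_succ, pow_orderOf_eq_one, one_mul]
  exact this ▸ pow_mem e _

theorem inv_eq_self {x : G} (e : x * x = 1) : x⁻¹ = x := inv_eq_of_mul_eq_one_right e

theorem U.zcomm : ∀ (c : F) (v : U), (⟨0, 0, c⟩ : U) * v = v * ⟨0, 0, c⟩ := by decide +kernel

theorem B.ofU : ∀ b : B, (b.on ⟨1, 0, 0⟩).x = 1 → (b.on ⟨F.w, 0, 0⟩).x = F.w → (b.on ⟨0, 1, 0⟩).y = 1 →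
    b = B.inl b.u := by decide +kernel

theorem a5_gen : ∀ π : Equiv.Perm (Fin 5), Equiv.Perm.sign π = 1 → ∃ a b c d, π =
    pa a * (Equiv.swap 0 1 * pa b * Equiv.swap 0 1) * (pa c * (Equiv.swap 0 1 * pa d * Equiv.swap 0 1)) := by
  decide +kernel

theorem bf_surj : ∀ u : PP, u ≠ zz u.z → ∀ c, ∃ v, bf v u = c := fun u hu c => by
  obtain ⟨i, e⟩ := not_forall.1 (mt (tt_eq_zero u) hu)
  refine ⟨⟨c / tt i u * (sv i).x, c / tt i u * (sv i).y, c / tt i u * (sv i).p, c / tt i u * (sv i).q, 0⟩, ?_⟩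
  refine Eq.trans ?_ (div_mul_cancel₀ c e)
  generalize c / tt i u = k
  simp only [tt, bf]; ring

theorem bf_zero (a b : PP) (e : a * b = b * a) : bf a b = 0 := by
  have := conj_eq a b
  rw [e, mul_inv_cancel_right, left_eq_mul] at this
  exact congrArg PP.z this

theorem inv_cls0 : ∀ x y p q : F, x * y + p * q = 0 → (x = 0 ∧ y = 0 ∧ p = 0 ∧ q = 0) ∨ (∃ j c, x = c * (sv j).x ∧
    y = c * (sv j).y ∧ p = c * (sv j).p ∧ q = c * (sv j).q) ∨ ∃ π : Equiv.Perm (Fin 5), Equiv.Perm.sign π = 1 ∧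
      ∀ i, tt (π i) ⟨x, y, p, q, 0⟩ = tt i (rr 1) := by decide +kernel

theorem inv_cls (u : PP) (e : u * u = 1) : u = zz u.z ∨ (∃ j c, ∀ v, bf v u = c * tt j v) ∨
    ∃ π : Equiv.Perm (Fin 5), Equiv.Perm.sign π = 1 ∧ (∀ i, tt (π i) u = tt i (rr 1)) ∧ u ≠ zz u.z := by
  by_cases hu : u = zz u.z
  · exact Or.inl hu
  rcases inv_cls0 u.x u.y u.p u.q (congrArg PP.z ((sq_eq u).symm.trans e)) with ⟨a, b, c, d⟩ | ⟨j, c, a⟩ | ⟨π, a, b⟩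
  · exact (hu (PP.ext a b c d rfl)).elim
  · exact Or.inr (Or.inl ⟨j, c, fun v => by simp only [tt, bf, a]; ring⟩)
  · exact Or.inr (Or.inr ⟨π, a, b, hu⟩)

/-- the normalised configuration -/
abbrev S3 (A : Subgroup G) (ψ : U →* G) (α : G → B) (ν : G → Bool × Bool) (h n1 n2 : G) (r : F → G) (g : G)
  (D : Subgroup G) (s : F → G) : Prop := St2 A ψ α ν h n1 n2 true r g D s 1 1

namespace S3

variable (H : S3 A ψ α ν h n1 n2 r g D s)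
include H

theorem cf : Cfg A ψ α ν h n1 n2 := H.toSt1.toCfg
theorem ra (p q : F) : r (p + q) = r p * r q := H.radd p q (spt p) (spt q)
theorem rk (p : F) : r p ∈ 𝐊 := H.rK p (spt p)
theorem r2 (p : F) : r p * r p = 1 := H.toSt1.rsq (spt p)
theorem s0 : s 0 = 1 := by simpa using H.sadd 0 0
theorem s2 (q : F) : s q * s q = 1 := by rw [← H.sadd, F.add_self, H.s0]
theorem rA (p : F) {a : G} (ha : a ∈ A) : Commute (r p) a := mem_cen.1 (H.rk p) a ha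
theorem rU (p : F) (u : U) : Commute (r p) (ψ u) := H.rA p (H.mem u)
theorem rr' (p q : F) : Commute (r p) (r q) := by rw [Commute, SemiconjBy, ← H.ra, add_comm, H.ra]
theorem dK {d : G} (hd : d ∈ D) : d ∈ 𝐊 := ((H.memD d).1 hd).1
theorem dodd {d : G} (hd : d ∈ D) : Odd (orderOf d) := ((H.memD d).1 hd).2.2
theorem AC {a : G} (ha : a ∈ A) : a ∈ 𝐂 := mem_cen.2 fun _ hd => (mem_cen.1 (H.dK hd) a ha).symm
theorem rC (p : F) : r p ∈ 𝐂 := mem_cen.2 fun d hd => (((H.memD d).1 hd).2.1 p (spt p)).symm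
theorem sC (q : F) : s q ∈ 𝐂 := mem_cen.2 (H.sD q)

theorem sr (p q : F) : s q * r p = ψ ⟨0, 0, q * p⟩ * r p * s q := by
  have e := H.rs p q (spt p)
  rw [← (H.rU p _).eq, mul_assoc, ← (H.sU q _).eq, mul_comm q, ← e, inv_eq_self (H.r2 p), ← mul_assoc, ← mul_assoc,
    H.r2, one_mul]

theorem srs (p q : F) : s q * r p * (s q)⁻¹ = r p * ψ ⟨0, 0, q * p⟩ := by
  rw [H.sr, mul_inv_cancel_right, (H.rU p _).eq]

theorem nf : (∀ p u x, r p * (ψ u * x) = ψ u * (r p * x)) ∧ (∀ p u, r p * ψ u = ψ u * r p) ∧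
    (∀ q u x, s q * (ψ u * x) = ψ u * (s q * x)) ∧ (∀ q u, s q * ψ u = ψ u * s q) ∧
    (∀ p q x, s q * (r p * x) = ψ ⟨0, 0, q * p⟩ * (r p * (s q * x))) ∧
    (∀ p q, s q * r p = ψ ⟨0, 0, q * p⟩ * (r p * s q)) ∧
    (∀ u v x, ψ u * (ψ v * x) = ψ (u * v) * x) ∧ (∀ u v, ψ u * ψ v = ψ (u * v)) ∧
    (∀ p q x, r p * (r q * x) = r (p + q) * x) ∧ (∀ p q, r p * r q = r (p + q)) ∧
    (∀ p q x, s p * (s q * x) = s (p + q) * x) ∧ ∀ p q, s p * s q = s (p + q) :=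
  ⟨fun p u => (H.rU p u).left_comm, fun p u => H.rU p u, fun p u => (H.sU p u).left_comm, fun p u => H.sU p u,
    fun p q x => by rw [← mul_assoc, H.sr]; simp only [mul_assoc], fun p q => by rw [H.sr, mul_assoc],
    fun u v x => by rw [map_mul, mul_assoc], fun u v => (map_mul ψ u v).symm, fun p q x => by rw [H.ra, mul_assoc],
    fun p q => (H.ra p q).symm, fun p q x => by rw [H.sadd, mul_assoc], fun p q => (H.sadd p q).symm⟩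

omit H in
/-- the embedding of `2^{2+8}` -/
def ρ (H : S3 A ψ α ν h n1 n2 r g D s) : PP →* G :=
  MonoidHom.mk' (fun u => ψ ⟨u.x, u.y, u.z⟩ * r u.p * s u.q) fun a b => by
    simp only [PP.mul_def, mul_assoc, H.nf, U.mul_def, add_zero, mul_zero, add_assoc]
    congr 3; ring

theorem ρ_eq (x y p q z : F) : H.ρ ⟨x, y, p, q, z⟩ = ψ ⟨x, y, z⟩ * r p * s q := rfl
theorem ρU (x y z : F) : H.ρ ⟨x, y, 0, 0, z⟩ = ψ ⟨x, y, z⟩ := by simp [ρ_eq, H.s0, H.toSt1.r0]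
theorem ρz (c : F) : H.ρ (zz c) = ψ ⟨0, 0, c⟩ := H.ρU 0 0 c
theorem ρr (p : F) : H.ρ (rr p) = r p := by simp [rr, ρ_eq, H.s0, ← U.one_def]
theorem ρs (q : F) : H.ρ ⟨0, 0, 0, q, 0⟩ = s q := by simp [ρ_eq, H.toSt1.r0, ← U.one_def]

theorem rinj : Function.Injective H.ρ := (injective_iff_map_eq_one _).2 fun u e => by
  have k : ∀ c, H.ρ (zz c) = 1 → c = 0 := fun c e =>
    congrArg U.z (H.inj ((H.ρz c).symm.trans (e.trans ψ.map_one.symm)))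
  have := tt_eq_zero u fun i => k _ (by
    have := congrArg H.ρ (conj_eq u (sv i))
    simpa [e, tt] using this)
  rw [this, k u.z (this ▸ e)]; rfl

theorem ρC (u : PP) : H.ρ u ∈ 𝐂 := mul_mem (mul_mem (H.AC (H.mem _)) (H.rC _)) (H.sC _)

theorem in2 {u : PP} {d : G} (hd : d ∈ D) (e : H.ρ u * d * (H.ρ u * d) = 1) : d = 1 := by
  have : (H.ρ u * d) ^ 2 ^ 2 = 1 := by rw [pow_two 2, pow_mul, pow_two (H.ρ u * d), e, one_pow]
  rw [(mem_cen.1 (H.ρC u) d hd).mul_pow, ← map_pow, (by decide +kernel : ∀ u : PP, u ^ 2 ^ 2 = 1), map_one,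
    one_mul] at this
  exact one_of_odd (H.dodd hd) this

theorem norM {p : F} (hp : p ≠ 0) {x : G} (c : Commute x (r p)) : x ∈ 𝐌 :=
  H.cf.nor_of_comm (H.rk p) (H.r2 p) (H.rne p (spt p) hp) c

theorem a2 (m : F) : n1 * s m * n1⁻¹ * (n1 * s m * n1⁻¹) = 1 := by rw [conj_mul, H.s2]; simp

theorem am (m : F) {x z : F} : Commute (n1 * s m * n1⁻¹) (ψ ⟨x, 0, z⟩) := by
  rw [← H.n1act]; exact comm_cj (H.sU _ _) n1

theorem ar (m p : F) : n1 * s m * n1⁻¹ * r p * (n1 * s m * n1⁻¹)⁻¹ = r p * ψ ⟨m * p, 0, 0⟩ := by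
  rw [← cj_of_comm (H.rA p H.n1A).symm, ← H.n1act, conj_mul, conj_mul, ← H.srs]; group

/-- `C_K(r p) = R × D` -/
theorem KR [Finite G] {p : F} (hp : p ≠ 0) {k : G} (hk : k ∈ 𝐊) (c : Commute k (r p)) : ∃ q, r q * k ∈ D := by
  let O : Set G := {k | k ∈ 𝐊 ∧ Commute k (r p) ∧ Odd (orderOf k)}
  have sO : ∀ q, ∀ k ∈ O, s q * k * (s q)⁻¹ ∈ O := fun q k ⟨hk, c, o⟩ => by
    have o' : Odd (orderOf (s q * k * (s q)⁻¹)) := by rwa [← (SemiconjBy.conj_mk (s q) k).orderOf_eq]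
    have c' : Commute (s q * k * (s q)⁻¹) (r p) := comm_cj'' (by
      rw [inv_eq_self (H.s2 q), ← congrArg (_ * ·) (inv_eq_self (H.s2 q)), H.srs]
      exact c.mul_right (mem_cen.1 hk _ (H.mem _)))
    obtain ⟨z, e⟩ := H.cf.cenU (H.norM hp c') fun u =>
      ((H.sU q u).mul_left (mem_cen.1 hk _ (H.mem u))).mul_left (H.sU q u).inv_left
    refine ⟨mem_of_sq o' ?_, c', o'⟩
    rw [← mul_inv_cancel_left (ψ ⟨0, 0, z⟩) (s q * k * _), (mem_cen.1 e _ (H.mem _)).mul_mul_mul_comm,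
      ← map_mul, (by decide : ∀ z, (⟨0, 0, z⟩ : U) * ⟨0, 0, z⟩ = 1), map_one, one_mul]
    exact mul_mem e e
  have AO : ∀ a ∈ A, a ∈ centralizer O := fun a ha k hk => mem_cen.1 hk.1 a ha
  have key : ∀ y m, s (y * m) * r (1 * y * m * m) ∈ centralizer O := fun y m => by
    obtain ⟨-, x, z, e⟩ := H.ya1 y m
    have a1 : (n1 * s m * n1⁻¹)⁻¹ * ψ ⟨0, y, 0⟩ * (n1 * s m * n1⁻¹) ∈ centralizer O := fun k hk => by
      refine (comm_cj' (g := n1 * s m * n1⁻¹) (mem_cen.1 ?_ _ (H.mem _))).eq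
      rw [cj_mul, cj_mul, cj_of_comm (mem_cen.1 hk.1 _ H.n1A).symm.inv_left]
      exact nor_cjK (le_normalizer H.n1A) (sO m k hk).1
    have a2 := mul_mem (mul_mem a1 (AO _ (inv_mem (H.mem ⟨0, y, 0⟩)))) (AO _ (inv_mem (H.mem ⟨x, 0, z⟩)))
    rwa [mul_assoc _ (ψ _), mul_assoc _ (_ * _) (ψ _)⁻¹, e, mul_assoc, mul_inv_cancel_right, mul_assoc (_ * _),
      inv_mul_cancel_left] at a2
  have k1 := mul_mem (inv_mem (key 1 1)) (key F.v F.w)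
  have k2 := mul_mem (inv_mem (key 1 1)) (key F.w F.v)
  rw [show F.v * F.w = 1 * 1 from rfl, mul_inv_rev, mul_assoc, inv_mul_cancel_left, inv_eq_self (H.r2 _),
    ← H.ra] at k1
  rw [show F.w * F.v = 1 * 1 from rfl, mul_inv_rev, mul_assoc, inv_mul_cancel_left, inv_eq_self (H.r2 _),
    ← H.ra] at k2
  have k3 : ∀ q, r q ∈ centralizer O := fun q => by
    cases q
    exacts [H.toSt1.r0.symm ▸ one_mem _, (H.ra F.w F.v).symm ▸ mul_mem k2 k1, k2, k1]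
  obtain ⟨q, -, e⟩ := H.ck k hk p (spt p) hp c
  have e' := mul_mem (H.rk q) hk
  have o : Odd (orderOf (r q * k)) := by
    by_contra o
    have := Fact.mk Nat.prime_two
    obtain ⟨⟨t, ht⟩, o⟩ := exists_prime_orderOf_dvd_card' (G := zpowers (r q * k)) 2
      (by rwa [Nat.card_zpowers, ← even_iff_two_dvd, ← Nat.not_odd_iff_even])
    rw [← orderOf_coe] at o
    exact H.gM (by simpa using inv_mem (H.te t (zpowers_le.2 e' ht) (by rw [← pow_two, ← o, pow_orderOf_eq_one])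
      (fun e => absurd ((orderOf_eq_one_iff.2 e).symm.trans o) (by decide)) g⁻¹
      (by simpa using cen_cj.1 (zpowers_le.2 (cen_cj.2 e) ht))))
  exact ⟨q, (H.memD _).2 ⟨e', fun q' _ => k3 q' _ ⟨e', (H.rr' q p).mul_left c, o⟩, o⟩⟩

theorem KR' [Finite G] {p : F} (hp : p ≠ 0) {k : G} (hk : k ∈ 𝐊) (c : Commute k (r p)) (e : k * k = 1) :
    ∃ q, k = r q := by
  obtain ⟨q, e'⟩ := H.KR hp hk c
  refine ⟨q, ?_⟩
  rw [eq_comm, ← inv_mul_eq_one, inv_eq_self (H.r2 q)]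
  exact H.in2 (u := rr q) e' (by rwa [H.ρr, ← mul_assoc (r q), H.r2, one_mul])

theorem zact {n : G} (hn : n ∈ normalizer (ψ.range : Set G)) (c : F) :
    ∃ c', n * ψ ⟨0, 0, c⟩ * n⁻¹ = ψ ⟨0, 0, c'⟩ := by
  obtain ⟨u, e⟩ := act_of_nor hn ⟨0, 0, c⟩
  have k : ∀ v, u * v = v * u := fun v => H.inj (by
    obtain ⟨v', e'⟩ := act_of_nor (inv_mem hn) v
    rw [inv_inv] at e'
    rw [map_mul, map_mul, ← e]
    exact (comm_cj'' (e' ▸ Commute.map (U.zcomm c v') ψ)).eq)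
  exact ⟨u.z, e.trans (congrArg ψ ((by decide +kernel : ∀ u : U, u * ⟨1, 0, 0⟩ = ⟨1, 0, 0⟩ * u →
    u * ⟨0, 1, 0⟩ = ⟨0, 1, 0⟩ * u → u = ⟨0, 0, u.z⟩) u (k _) (k _)))⟩

/-- elements centralising `U` and fixing `r 1 Z` -/
theorem PX [Finite G] {x : G} {c : F} (cu : ∀ u, Commute x (ψ u)) (e : x * r 1 * x⁻¹ = r 1 * ψ ⟨0, 0, c⟩) :
    ∃ u, ∃ d ∈ D, x = H.ρ u * d := by
  have c1 : Commute ((s c)⁻¹ * x) (r 1) := comm_of_cj (by rw [cj_mul, e, ← mul_one c, ← H.srs, mul_one]; group)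
  obtain ⟨z, e1⟩ := H.cf.cenU (H.norM one_ne_zero c1) fun u => (H.sU c u).inv_left.mul_left (cu u)
  obtain ⟨q, e2⟩ := H.KR one_ne_zero e1 ((H.rU 1 _).symm.inv_left.mul_left c1)
  refine ⟨⟨0, 0, 0, c, 0⟩ * (zz z * (rr q)⁻¹), _, e2, ?_⟩
  rw [map_mul, map_mul, map_inv, H.ρs, H.ρz, H.ρr]; group

theorem nor_gen {n : G} (h1 : ∀ u, n * ψ u * n⁻¹ ∈ H.ρ.range) (h2 : ∀ p, n * r p * n⁻¹ ∈ H.ρ.range)
    (h3 : ∀ q, n * s q * n⁻¹ ∈ H.ρ.range) : n ∈ normalizer (H.ρ.range : Set G) :=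
  have : Finite (H.ρ.range : Set G) := Set.finite_range _
  mem_normalizer_fintype (by
    rintro _ ⟨u, rfl⟩
    rw [ρ_eq, ← conj_mul, ← conj_mul]
    exact mul_mem (mul_mem (h1 _) (h2 _)) (h3 _))

/-- `N(U) ∩ N(R) ≤ N(P)` -/
theorem NP [Finite G] {n : G} (hn : n ∈ normalizer (ψ.range : Set G)) (h1 : ∀ p, ∃ p', n * r p * n⁻¹ = r p')
    (h2 : ∃ p, n⁻¹ * r 1 * n = r p) : n ∈ normalizer (H.ρ.range : Set G) := by
  refine H.nor_gen (fun u => ?_) (fun p => (h1 p).elim fun p' e => ⟨_, (H.ρr p').trans e.symm⟩) fun q => ?_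
  · obtain ⟨u', e⟩ := act_of_nor hn u
    exact ⟨_, (H.ρU u'.x u'.y u'.z).trans e.symm⟩
  obtain ⟨p, e⟩ := h2
  obtain ⟨c, e'⟩ := H.zact hn (q * p)
  obtain ⟨u, d, hd, e1⟩ := H.PX (x := n * s q * n⁻¹) (c := c) (fun u => by
    obtain ⟨v, e'⟩ := act_of_nor (inv_mem hn) u
    rw [inv_inv] at e'
    exact comm_cj'' (e' ▸ H.sU q v)) (by
    rw [← e', ← mul_inv_cancel_left n (r 1), ← mul_inv_cancel_right (n⁻¹ * r 1) n, e, ← mul_assoc n, conj_mul,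
      conj_mul, ← H.srs]; group)
  rw [H.in2 hd (by rw [← e1, conj_mul, H.s2]; simp), mul_one] at e1
  exact ⟨u, e1.symm⟩

theorem NP2 [Finite G] {n : G} {p p' c c' : F} (hp : p ≠ 0) (hc : c ≠ 0) (e : n * r p * n⁻¹ = r p')
    (e' : n * ψ ⟨0, 0, c⟩ * n⁻¹ = ψ ⟨0, 0, c'⟩) :
    n ∈ 𝐌 ⊓ normalizer (ψ.range : Set G) ∧ n ∈ normalizer (H.ρ.range : Set G) := by
  have hp' : p' ≠ 0 := by rintro rfl; exact H.rne p (spt p) hp (by simpa [H.toSt1.r0] using e)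
  have hc' : c' ≠ 0 := by rintro rfl; exact H.cf.ne (u := ⟨0, 0, c⟩) (fun e => hc (congrArg U.z e)) (by
    simpa [← U.one_def] using e')
  have m := H.te _ (H.rk p) (H.r2 p) (H.rne p (spt p) hp) n (e ▸ H.rk p')
  have k : ∀ c, c ≠ 0 → ∃ k ∈ A ⊓ normalizer (ψ.range : Set G), k * ψ ⟨0, 0, 1⟩ * k⁻¹ = ψ ⟨0, 0, c⟩ := fun c hc => by
    have hh : h ∈ A ⊓ normalizer (ψ.range : Set G) := ⟨H.hA, H.hN⟩
    cases c
    exacts [absurd rfl hc, ⟨1, one_mem _, by simp; rfl⟩, ⟨h, hh, H.cf.hact 0 0 1⟩,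
      ⟨h * h, mul_mem hh hh, by rw [cj_mul, H.cf.hact, H.cf.hact]; rfl⟩]
  obtain ⟨k1, a1, b1⟩ := k c hc
  obtain ⟨k2, a2, b2⟩ := k c' hc'
  have n1 : n ∈ normalizer (ψ.range : Set G) := by
    have := H.cf.nor_of_z (mul_mem (mul_mem (inv_mem (le_normalizer a2.1)) m) (le_normalizer a1.1))
      (comm_of_cj (by rw [cj_mul, cj_mul, b1, e', ← b2]; group))
    exact (mul_mem_cancel_left (inv_mem (mem_inf.1 a2).2)).1 ((mul_mem_cancel_right (mem_inf.1 a1).2).1 this)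
  refine ⟨⟨m, n1⟩, H.NP n1 (fun q => H.KR' hp' (nor_cjK m (H.rk q)) (e ▸ comm_cj (H.rr' q p) n)
    (by rw [conj_mul, H.r2]; simp)) (H.KR' hp (by simpa using nor_cjK (inv_mem m) (H.rk 1))
      (comm_cj' (e ▸ H.rr' p' 1)).symm (by simpa [mul_assoc] using congrArg (n⁻¹ * · * n) (H.r2 1)))⟩

omit H in
theorem tt0 : ∀ u : PP, tt 0 u = u.y := by decide +kernel

omit H in
theorem tt1 : ∀ u : PP, tt 1 u = u.x := by decide +kernel

omit H in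
theorem eq_of_tt {u v : PP} (e : ∀ i, tt i u = tt i v) : u = v * zz (v⁻¹ * u).z := by
  rw [← tt_eq_zero (v⁻¹ * u) fun i => by rw [tt_mul, e]; exact F.add_self _, mul_inv_cancel_left]

theorem mvU {n : G} {π σ} (m : Mv H.ρ n π σ) (u : PP) {v : PP} (e : ∀ i, tt (π i) v = fs σ (tt i u)) :
    ∃ c, n * H.ρ u * n⁻¹ = H.ρ v * ψ ⟨0, 0, c⟩ := by
  obtain ⟨u', e1, e2⟩ := m.2 u
  refine ⟨_, e1.trans ((congrArg H.ρ (eq_of_tt (u := u') (v := v) fun i => ?_)).trans (by rw [map_mul, H.ρz]))⟩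
  obtain ⟨i, rfl⟩ := π.surjective i
  rw [e, e2]

theorem ofU [Finite G] {n : G} {π} (m : Mv H.ρ n π false) (h0 : π 0 = 0) (h1 : π 1 = 1)
    (hn : n ∈ 𝐌 ⊓ normalizer (ψ.range : Set G)) : ∃ u, (ψ u)⁻¹ * n ∈ 𝐊 := by
  have k : ∀ x y, ((α n).on ⟨x, y, 0⟩).x = x ∧ ((α n).on ⟨x, y, 0⟩).y = y := fun x y => by
    obtain ⟨u', e1, e2⟩ := m.2 ⟨x, y, 0, 0, 0⟩
    rw [H.ρU, H.cf.act hn, ← H.ρU] at e1
    have a := e2 0
    have b := e2 1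
    rw [← H.rinj e1] at a b
    rw [h0, tt0, tt0] at a
    rw [h1, tt1, tt1] at b
    exact ⟨b, a⟩
  exact ⟨_, H.cf.of_aeq hn (H.cf.psiN _) ((B.ofU _ (k _ _).1 (k _ _).1 (k _ _).2).trans (H.apsi _).symm)⟩

theorem ker [Finite G] {n : G} (m : Mv H.ρ n 1 false) : ∃ u, ∃ d ∈ D, n = H.ρ u * d := by
  obtain ⟨c, e⟩ := H.mvU m (rr 1) (v := rr 1) fun _ => rfl
  rw [H.ρr] at e
  have m' := (mv_inn H.ρ ⟨0, 0, 0, c, 0⟩⁻¹).mul m
  rw [map_inv, H.ρs] at m'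
  have c1 : Commute ((s c)⁻¹ * n) (r 1) := comm_of_cj (by rw [cj_mul, e, ← mul_one c, ← H.srs, mul_one]; group)
  obtain ⟨u, e1⟩ := H.ofU m' rfl rfl (H.NP2 one_ne_zero one_ne_zero (cj_of_comm c1) (H.ρz 1 ▸ cj_of_comm m'.comm)).1
  obtain ⟨q, e2⟩ := H.KR one_ne_zero e1 ((H.rU 1 _).symm.inv_left.mul_left c1)
  refine ⟨⟨0, 0, 0, c, 0⟩ * (⟨u.x, u.y, 0, 0, u.z⟩ * (rr q)⁻¹), _, e2, ?_⟩
  rw [map_mul, map_mul, map_inv, H.ρs, H.ρU, H.ρr]; group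

theorem mv_gen {n : G} {π σ} (h0 : ∀ c, n * ψ ⟨0, 0, c⟩ * n⁻¹ = ψ ⟨0, 0, fs σ c⟩)
    (h1 : ∀ c, ∀ u ∈ [(⟨c, 0, 0, 0, 0⟩ : PP), ⟨0, c, 0, 0, 0⟩, ⟨0, 0, c, 0, 0⟩, ⟨0, 0, 0, c, 0⟩],
      ∃ u', n * H.ρ u * n⁻¹ = H.ρ u' ∧ ∀ i, tt (π i) u' = fs σ (tt i u)) : Mv H.ρ n π σ := by
  refine ⟨fun c => by rw [H.ρz, H.ρz, h0], fun u => ?_⟩
  have m : ∀ {u v}, (∃ u', n * H.ρ u * n⁻¹ = H.ρ u' ∧ ∀ i, tt (π i) u' = fs σ (tt i u)) →
      (∃ u', n * H.ρ v * n⁻¹ = H.ρ u' ∧ ∀ i, tt (π i) u' = fs σ (tt i v)) →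
      ∃ u', n * H.ρ (u * v) * n⁻¹ = H.ρ u' ∧ ∀ i, tt (π i) u' = fs σ (tt i (u * v)) :=
    fun ⟨u', a, b⟩ ⟨v', c, d⟩ => ⟨u' * v', by rw [map_mul, map_mul, ← a, ← c, conj_mul], fun i => by
      rw [tt_mul, tt_mul, b, d]; cases σ; exacts [rfl, (F.fr_add _ _).symm]⟩
  have e : u = zz u.z * (⟨0, u.y, 0, 0, 0⟩ * (⟨u.x, 0, 0, 0, 0⟩ * (⟨0, 0, u.p, 0, 0⟩ * ⟨0, 0, 0, u.q, 0⟩))) := by
    simp [zz, PP.mul_def]
  rw [e]
  exact m ⟨zz (fs σ u.z), by rw [H.ρz, H.ρz, h0], fun i => by cases σ <;> simp [tt, bf, zz, fs]; rfl⟩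
    (m (h1 u.y _ (by simp)) (m (h1 u.x _ (by simp)) (m (h1 u.p _ (by simp)) (h1 u.q _ (by simp)))))

theorem amv (m : F) : Mv H.ρ (n1 * s m * n1⁻¹) (pa m) false := by
  refine H.mv_gen (fun c => cj_of_comm (H.am m)) fun c u hu => ?_
  simp only [List.mem_cons, List.not_mem_nil, or_false] at hu
  rcases hu with rfl | rfl | rfl | rfl
  · exact ⟨_, cj_of_comm (H.ρU c 0 0 ▸ H.am m), by revert c m; decide +kernel⟩
  · obtain ⟨-, x, z, e⟩ := H.ya1 c m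
    have e1 : n1 * s m * n1⁻¹ * H.ρ ⟨0, c, 0, 0, 0⟩ * (n1 * s m * n1⁻¹)⁻¹ = H.ρ (⟨0, 0, 0, c * m, 0⟩ *
        (rr (1 * c * m * m) * (⟨x, 0, 0, 0, z⟩ * ⟨0, c, 0, 0, 0⟩))) := by
      rw [map_mul, map_mul, map_mul, H.ρs, H.ρr, H.ρU, H.ρU, inv_eq_self (H.a2 m), ← mul_left_inj (ψ ⟨0, c, 0⟩)⁻¹,
        mul_assoc, mul_assoc, ← mul_assoc (ψ _), e, ← mul_assoc, ← mul_assoc, ← mul_assoc, H.a2]
      group
    refine ⟨_, e1, ?_⟩
    have e2 := H.rinj ((map_mul H.ρ _ _).trans ((congrArg₂ (· * ·) e1 e1).symm.trans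
      (by rw [conj_mul, ← map_mul, sq_eq]; simp [zz, ← PP.one_def] : _ = H.ρ 1)))
    by_cases hc : c = 0
    · subst hc
      have e3 := H.rinj (e1.symm.trans (by simp [← PP.one_def] : _ = H.ρ 1))
      clear e e1 e2; revert m x z; decide +kernel
    · clear e e1; revert c m x z; decide +kernel
  · exact ⟨rr c * ⟨m * c, 0, 0, 0, 0⟩, by rw [map_mul, H.ρU, H.ρr, ← H.ar, ← H.ρr c]; rfl,
      by revert c m; decide +kernel⟩
  · exact ⟨⟨0, 0, 0, c, 0⟩ * ⟨1 * m * m * c, 0, 0, 0, 1 * m * c * c⟩, by rw [map_mul, H.ρU, H.ρs, H.as1],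
      by revert c m; decide +kernel⟩

theorem aC (m : F) : n1 * s m * n1⁻¹ ∈ 𝐂 := mul_mem (mul_mem (H.AC H.n1A) (H.sC m)) (H.AC (inv_mem H.n1A))

theorem dl : S3 A (ψ.comp θ) (fun x => B.γ * α x * B.γ⁻¹) ν h n2 n1 r g D s := H.dual

theorem ρ_dl (u : PP) : H.dl.ρ u = H.ρ ⟨u.y, u.x, u.p, u.q, u.z + u.x * u.y⟩ :=
  congrArg (fun v => ψ v * r u.p * s u.q) (θ_apply _ _ _)

theorem range_dl : H.dl.ρ.range = H.ρ.range := le_antisymm (by rintro _ ⟨u, rfl⟩; exact ⟨_, (H.ρ_dl u).symm⟩)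
  (by rintro _ ⟨u, rfl⟩; exact ⟨⟨u.y, u.x, u.p, u.q, u.z + u.x * u.y⟩, (H.ρ_dl _).trans
    (congrArg H.ρ (by revert u; decide +kernel))⟩)

theorem mv_dl {n : G} {π σ} (m : Mv H.dl.ρ n π σ) : Mv H.ρ n (Equiv.swap 0 1 * π * Equiv.swap 0 1) σ := by
  have e : ∀ i (u : PP), tt i ⟨u.y, u.x, u.p, u.q, u.z + u.x * u.y⟩ = tt (Equiv.swap 0 1 i) u := by decide +kernel
  refine ⟨fun c => by simpa [H.ρ_dl, zz] using m.1 c, fun u => ?_⟩
  obtain ⟨u', e1, e2⟩ := m.2 ⟨u.y, u.x, u.p, u.q, u.z + u.x * u.y⟩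
  rw [H.ρ_dl, H.ρ_dl] at e1
  refine ⟨_, (congrArg (n * H.ρ · * n⁻¹) (by clear e1 e2; revert u; decide +kernel)).trans e1, fun i => ?_⟩
  rw [e, Equiv.Perm.mul_apply, Equiv.Perm.mul_apply, Equiv.swap_apply_self, e2, e, Equiv.swap_apply_self]

theorem a5 (π : Equiv.Perm (Fin 5)) (hπ : Equiv.Perm.sign π = 1) : ∃ n ∈ 𝐂, Mv H.ρ n π false := by
  obtain ⟨a, b, c, d, rfl⟩ := a5_gen π hπ
  exact ⟨_, mul_mem (mul_mem (H.aC a) (H.dl.aC b)) (mul_mem (H.aC c) (H.dl.aC d)),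
    ((H.amv a).mul (H.mv_dl (H.dl.amv b))).mul ((H.amv c).mul (H.mv_dl (H.dl.amv d)))⟩

theorem cjz {u : PP} (hu : u ≠ zz u.z) (c : F) : ∃ v, H.ρ v * H.ρ u * (H.ρ v)⁻¹ = H.ρ u * ψ ⟨0, 0, c⟩ := by
  obtain ⟨v, e⟩ := bf_surj u hu c
  exact ⟨v, by rw [← map_inv, ← map_mul, ← map_mul, conj_eq, e, map_mul, H.ρz]⟩

theorem mv_to {π : Equiv.Perm (Fin 5)} (hπ : Equiv.Perm.sign π = 1) {u v : PP} (hv : v ≠ zz v.z)
    (e : ∀ i, tt (π i) v = tt i u) : ∃ n ∈ 𝐂, Mv H.ρ n π false ∧ n * H.ρ u * n⁻¹ = H.ρ v := by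
  obtain ⟨n, hn, m⟩ := H.a5 π hπ
  obtain ⟨c, e1⟩ := H.mvU m u e
  obtain ⟨w, e2⟩ := H.cjz hv c
  exact ⟨_, mul_mem (inv_mem (H.ρC w)) hn, by simpa using (mv_inn H.ρ w⁻¹).mul m,
    by rw [cj_mul, e1, ← e2]; group⟩

theorem rD {p : F} (hp : p ≠ 0) : IsD A (H.ρ (rr p)) := H.ρr p ▸ H.toSt1.rD (spt p) hp

theorem mv {n : G} (hn : n ∈ normalizer (H.ρ.range : Set G)) (c : Commute n (H.ρ (zz 1))) :
    ∃ π σ, Mv H.ρ n π σ := by
  choose τ hτ using fun u => nor_cjA hn ⟨u, rfl⟩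
  have inj : Function.Injective τ := fun a b e => H.rinj (by
    have := (hτ a).symm.trans (e ▸ hτ b); rwa [mul_left_inj, mul_right_inj] at this)
  have mul : ∀ a b, τ (a * b) = τ a * τ b := fun a b => H.rinj (by simp only [map_mul, hτ, conj_mul])
  have zc : ∀ c, τ (zz c) = zz (τ (zz c)).z := fun c => tt_eq_zero _ fun i => by
    obtain ⟨v, e⟩ := Finite.surjective_of_injective inj (sv i)
    refine bf_zero _ _ ?_
    rw [← e, ← mul, ← mul, zz_comm]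
  have z1 : τ (zz 1) = zz 1 := H.rinj ((hτ _).trans (cj_of_comm c))
  obtain ⟨σ, hσ⟩ : ∃ σ, ∀ c, τ (zz c) = zz (fs σ c) := by
    have a : τ (zz 0) = zz 0 := H.rinj ((hτ _).trans (by simp [zz, ← PP.one_def]))
    have b : τ (zz F.v) = τ (zz F.w) * zz 1 := z1 ▸ mul (zz F.w) (zz 1)
    have a1 : τ (zz F.w) ≠ zz 0 := fun e => absurd (inj (e.trans a.symm)) (by decide)
    have a2 : τ (zz F.w) ≠ zz 1 := fun e => absurd (inj (e.trans z1.symm)) (by decide)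
    rw [zc] at a1 a2
    rcases (by decide : ∀ c, zz c ≠ zz 0 → zz c ≠ zz 1 → c = F.w ∨ c = F.v) _ a1 a2 with e | e
    · exact ⟨false, fun c => by cases c; exacts [a, z1, by rw [zc, e]; rfl, by rw [b, zc, e]; rfl]⟩
    · exact ⟨true, fun c => by cases c; exacts [a, z1, by rw [zc, e]; rfl, by rw [b, zc, e]; rfl]⟩
  have hb : ∀ a b, bf (τ a) (τ b) = fs σ (bf a b) := fun a b => by
    have e := congrArg τ ((mul_inv_eq_iff_eq_mul.1 (conj_eq a b)))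
    rw [mul, mul, mul, hσ, ← mul_inv_eq_iff_eq_mul, conj_eq, mul_left_cancel_iff] at e
    exact congrArg PP.z e
  have k : ∀ i, ∃ j c, ∀ u, bf u (τ (sv i)) = c * tt j u := fun i => by
    have s1 : τ (sv i) * τ (sv i) = 1 := by
      rw [← mul, (by decide : ∀ i, sv i * sv i = zz 0), hσ]; cases σ <;> rfl
    rcases inv_cls _ s1 with e | e | ⟨π, hπ, e, e'⟩
    · exact ⟨0, 0, fun u => by rw [e]; simp [bf, zz]⟩
    · exact e
    obtain ⟨n1, -, -, e1⟩ := H.mv_to hπ e' e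
    obtain ⟨π', hπ', e''⟩ := (by decide +kernel : ∀ i, ∃ π : Equiv.Perm (Fin 5), Equiv.Perm.sign π = 1 ∧
      ∀ j, tt (π j) (sv i) = tt j ⟨1, 0, 0, 0, 0⟩) i
    obtain ⟨n2, -, -, e2⟩ := H.mv_to hπ' ((by decide : ∀ i, sv i ≠ zz (sv i).z) i) e''
    refine absurd (IsD.of_cj (g := n * n2) ?_) (H.da _ (H.ρU 1 0 0 ▸ H.mem _))
    rw [cj_mul, e2, ← hτ, ← e1]
    exact (H.rD one_ne_zero).cj _
  choose π l e using k
  have e1 : ∀ i j, i ≠ j → l j * tt (π j) (τ (sv i)) = 1 := fun i j n => by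
    rw [← e, hb, (by decide : ∀ i j, i ≠ j → bf (sv i) (sv j) = 1) i j n]; cases σ <;> rfl
  have e2 : ∀ i j, tt j (τ (sv i)) = l i * tt (π i) (sv j) := fun i j => by
    rw [← e, tt]; simp only [bf]; ring
  simp only [e2] at e1
  have e3 : ∀ i j, i ≠ j → π i ≠ π j ∧ l j * l i = 1 := fun i j n =>
    (by decide : ∀ a b i j, a * (b * tt i (sv j)) = 1 → i ≠ j ∧ a * b = 1) _ _ _ _ (e1 i j n)
  have e4 : ∀ i, l i = 1 := fun i => by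
    obtain ⟨j, k, a, b, c⟩ := (by decide : ∀ i : Fin 5, ∃ j k, i ≠ j ∧ i ≠ k ∧ j ≠ k) i
    exact (by decide : ∀ a b c : F, b * a = 1 → c * a = 1 → c * b = 1 → a = 1) _ _ _
      (e3 _ _ a).2 (e3 _ _ b).2 (e3 _ _ c).2
  refine ⟨Equiv.ofBijective π (Finite.injective_iff_bijective.1 fun i j e => by_contra fun n => (e3 i j n).1 e), σ,
    fun c => by rw [← hτ, hσ], fun u => ⟨τ u, (hτ u).symm, fun i => ?_⟩⟩
  rw [Equiv.ofBijective_apply, tt, tt, ← hb, e, e4, one_mul, tt]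

end S3

end Cfsg.Agent.L4S
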