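import Cfsg.Agent.L4S.E1a

/-! The Suzuki case: the subgroup `W = 2^{4+6}` and its normaliser. -/

set_option autoImplicit false
set_option synthInstance.maxSize 4000
set_option maxRecDepth 100000

namespace Cfsg.Agent.L4S

open Subgroup PP
open F (fr)

variable {G : Type*} [Group G] {A : Subgroup G} {ψ : U →* G} {α : G → B} {ν : G → Bool × Bool} {h n1 n2 : G}
  {r : F → G} {g : G} {D : Subgroup G} {s : F → G}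

local notation "𝐊" => centralizer (A : Set G)
local notation "𝐌" => normalizer (A : Set G)
local notation "𝐂" => centralizer (D : Set G)

theorem exists_tau {M : Type*} [Group M] {f : M →* G} (hf : Function.Injective f) {n : G}
    (hn : n ∈ normalizer (f.range : Set G)) : ∃ τ : M →* M, ∀ u, n * f u * n⁻¹ = f (τ u) := by
  choose τ hτ using fun u => nor_cjA hn ⟨u, rfl⟩
  exact ⟨MonoidHom.mk' τ fun a b => hf (by simp only [map_mul, hτ, conj_mul]), fun u => (hτ u).symm⟩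

theorem nz_of {v : PP} {j : Fin 5} (e : tt j v ≠ 0) : v ≠ zz v.z := fun e' => e (by rw [e']; simp [tt, bf, zz])

namespace WW

def cx (a b : WW) : F := a.m * b.p + b.m * a.p + a.m * a.m * b.q + b.m * b.m * a.q
def cz (a b : WW) : F := a.q * b.p + b.q * a.p + a.m * b.q * b.q + b.m * a.q * a.q
def vv (x z : F) : WW := ⟨0, 0, 0, x, z⟩

theorem conj_eq (a b : WW) : a * b * a⁻¹ = b * vv (cx a b) (cz a b) := by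
  simp only [mul_def, inv_def, vv, cx, cz, WW.mk.injEq]
  refine ⟨?_, ?_, ?_, ?_, ?_⟩
  · linear_combination a.p * F.two
  · linear_combination a.q * F.two
  · linear_combination a.m * F.two
  · linear_combination (a.x + a.m * a.p + a.m * a.m * a.q + a.m * b.m * a.q) * F.two
  · linear_combination (a.z + a.q * a.p + a.m * a.q * a.q) * F.two

theorem sq_eq (a : WW) : a * a = vv (a.m * a.p + a.m * a.m * a.q) (a.q * a.p + a.m * a.q * a.q) := by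
  simp only [mul_def, vv, WW.mk.injEq, F.add_self, true_and]; constructor <;> ring

theorem vv_comm (x z : F) (w : WW) : vv x z * w = w * vv x z := by simp [vv, mul_def, add_comm]

theorem vv_inj {x z x' z' : F} (e : vv x z = vv x' z') : x = x' ∧ z = z' := ⟨congrArg WW.x e, congrArg WW.z e⟩

theorem c_of {a b : WW} {x z : F} (e : a * b * a⁻¹ = b * vv x z) : cx a b = x ∧ cz a b = z :=
  vv_inj (mul_left_cancel ((conj_eq a b).symm.trans e))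

theorem cen : ∀ w : WW, cz w ⟨1, 0, 0, 0, 0⟩ = 0 → cx w ⟨1, 0, 0, 0, 0⟩ = 0 → cz w ⟨0, 1, 0, 0, 0⟩ = 0 →
    w = vv w.x w.z := by decide +kernel

theorem cen' {w : WW} (e : ∀ v, w * v = v * w) : w = vv w.x w.z :=
  have k : ∀ v, cx w v = 0 ∧ cz w v = 0 := fun v => c_of (by rw [e, mul_inv_cancel_right]; exact (mul_one v).symm)
  cen w (k _).2 (k _).1 (k _).2

theorem duad : ∀ p q m : F, m * p + m * m * q = 0 ∧ q * p + m * q * q = 0 →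
    ∀ p1 q1 m1 : F, m1 * p1 + m1 * m1 * q1 = 0 ∧ q1 * p1 + m1 * q1 * q1 = 0 → cx ⟨p, q, m, 0, 0⟩ ⟨p1, q1, m1, 0, 0⟩ = 0 →
    ∀ p2 q2 m2 : F, m2 * p2 + m2 * m2 * q2 = 0 ∧ q2 * p2 + m2 * q2 * q2 = 0 → cx ⟨p, q, m, 0, 0⟩ ⟨p2, q2, m2, 0, 0⟩ = 0 →
    cx ⟨p1, q1, m1, 0, 0⟩ ⟨p2, q2, m2, 0, 0⟩ = 0 ∧ cz ⟨p1, q1, m1, 0, 0⟩ ⟨p2, q2, m2, 0, 0⟩ = 0 →
    cz ⟨p, q, m, 0, 0⟩ ⟨p1, q1, m1, 0, 0⟩ ≠ 0 → cz ⟨p, q, m, 0, 0⟩ ⟨p2, q2, m2, 0, 0⟩ ≠ 0 →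
    cz ⟨p, q, m, 0, 0⟩ ⟨p1, q1, m1, 0, 0⟩ ≠ cz ⟨p, q, m, 0, 0⟩ ⟨p2, q2, m2, 0, 0⟩ →
    m = 0 ∧ ∀ x, ∃ π : Equiv.Perm (Fin 5), Equiv.Perm.sign π = 1 ∧
      ∀ i, tt (π i) ⟨x, 0, p, q, 0⟩ = tt i (rr 1) := by decide +kernel

theorem sqz : ∀ p q m : F, m * p + m * m * q = 0 → q * p + m * q * q = 1 → m = 0 ∧ q = p * p ∧ p ≠ 0 := by decide

theorem lam : ∀ x z : F, x = 0 ∨ x = 1 → ∃ w, cx ⟨1, 1, 0, 0, 0⟩ w = x ∧ cz ⟨1, 1, 0, 0, 0⟩ w = z := by decide +kernel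

end WW

open WW (vv cx cz)

namespace S3

variable (H : S3 A ψ α ν h n1 n2 r g D s)
include H

theorem aρ (m x p q z : F) : n1 * s m * n1⁻¹ * H.ρ ⟨x, 0, p, q, z⟩ * (n1 * s m * n1⁻¹)⁻¹ =
    H.ρ ⟨x + m * p + m * m * q, 0, p, q, z + m * q * q⟩ := by
  rw [ρ_eq, ← conj_mul, ← conj_mul, cj_of_comm (H.am m), H.ar, H.as1, ρ_eq]
  simp only [mul_assoc, H.nf, U.mul_def, add_zero, mul_zero, one_mul, add_assoc]

omit H in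
/-- the embedding of `2^{4+6}` -/
def ω (H : S3 A ψ α ν h n1 n2 r g D s) : WW →* G :=
  MonoidHom.mk' (fun w => H.ρ ⟨w.x, 0, w.p, w.q, w.z⟩ * (n1 * s w.m * n1⁻¹)) fun a b => by
    rw [mul_assoc (H.ρ _), ← mul_assoc _ (H.ρ _), ← inv_mul_cancel_right (_ * H.ρ _) (n1 * s a.m * n1⁻¹), H.aρ,
      mul_assoc (H.ρ _) (_ * _) (_ * _), conj_mul, ← H.sadd,
      ← mul_assoc (H.ρ ⟨a.x, _, _, _, _⟩), ← map_mul]
    simp only [PP.mul_def, WW.mul_def, add_zero, mul_zero]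
    congr 3 <;> ring

theorem ω_eq (p q m x z : F) : H.ω ⟨p, q, m, x, z⟩ = H.ρ ⟨x, 0, p, q, z⟩ * (n1 * s m * n1⁻¹) := rfl
theorem rw (x p q z : F) : H.ρ ⟨x, 0, p, q, z⟩ = H.ω ⟨p, q, 0, x, z⟩ := by simp [ω_eq, H.s0]
theorem ωv (x z : F) : H.ω (vv x z) = ψ ⟨x, 0, z⟩ := (H.rw _ _ _ _).symm.trans (H.ρU _ _ _)
theorem ωr (p : F) : H.ω ⟨p, 0, 0, 0, 0⟩ = r p := (H.rw _ _ _ _).symm.trans (H.ρr _)
theorem ωs (q : F) : H.ω ⟨0, q, 0, 0, 0⟩ = s q := (H.rw _ _ _ _).symm.trans (H.ρs _)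
theorem ωa (m : F) : H.ω ⟨0, 0, m, 0, 0⟩ = n1 * s m * n1⁻¹ := by simp [ω_eq, ← PP.one_def]
theorem ωC (w : WW) : H.ω w ∈ 𝐂 := mul_mem (H.ρC _) (H.aC _)
theorem ωV (w : WW) (x z : F) : Commute (H.ω w) (ψ ⟨x, 0, z⟩) :=
  H.ωv x z ▸ Commute.map (WW.vv_comm x z w).symm H.ω

theorem winj : Function.Injective H.ω := (injective_iff_map_eq_one _).2 fun w e => by
  have k : ∀ x z, H.ω (vv x z) = 1 → x = 0 ∧ z = 0 := fun x z e =>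
    have := H.inj ((H.ωv x z).symm.trans (e.trans ψ.map_one.symm))
    ⟨congrArg U.x this, congrArg U.z this⟩
  have k' : ∀ v, cx w v = 0 ∧ cz w v = 0 := fun v => k _ _ (by simpa [e] using congrArg H.ω (WW.conj_eq w v))
  have := WW.cen w (k' _).2 (k' _).1 (k' _).2
  have e' := k w.x w.z (this ▸ e)
  rw [this, e'.1, e'.2]; rfl

theorem in2W {w : WW} {d : G} (hd : d ∈ D) (e : H.ω w * d * (H.ω w * d) = 1) : d = 1 := by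
  have : (H.ω w * d) ^ 2 ^ 2 = 1 := by rw [pow_two 2, pow_mul, pow_two (H.ω w * d), e, one_pow]
  rw [(mem_cen.1 (H.ωC w) d hd).mul_pow, ← map_pow, (by decide +kernel : ∀ u : WW, u ^ 2 ^ 2 = 1), map_one,
    one_mul] at this
  exact one_of_odd (H.dodd hd) this

theorem tauV {n : G} (hn : n ∈ normalizer (H.ω.range : Set G)) (x z : F) :
    ∃ x' z', n * ψ ⟨x, 0, z⟩ * n⁻¹ = ψ ⟨x', 0, z'⟩ := by
  obtain ⟨w, e⟩ := nor_cjA hn ⟨vv x z, rfl⟩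
  rw [H.ωv] at e
  refine ⟨w.x, w.z, e.symm.trans ((congrArg H.ω (WW.cen' fun v => H.winj ?_)).trans (H.ωv _ _))⟩
  obtain ⟨v', e'⟩ := nor_cjA (inv_mem hn) ⟨v, rfl⟩
  rw [inv_inv] at e'
  rw [map_mul, map_mul, e]
  exact (comm_cj'' (e' ▸ (H.ωV v' x z).symm)).eq

variable [Finite G]

theorem WX {x : G} {c e : F} (cv : ∀ c e, Commute x (ψ ⟨c, 0, e⟩)) (e1 : x * r 1 * x⁻¹ = r 1 * ψ ⟨c, 0, e⟩)
    (x2 : x * x = 1) : x ∈ H.ω.range := by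
  have c1 : Commute ((H.ω ⟨0, e, c, 0, 0⟩)⁻¹ * x) (r 1) := comm_of_cj (by
    have := congrArg H.ω (WW.conj_eq ⟨0, e, c, 0, 0⟩ ⟨1, 0, 0, 0, 0⟩)
    simp only [map_mul, map_inv, H.ωr, H.ωv, cx, cz, mul_one, mul_zero, zero_mul, add_zero] at this
    rw [cj_mul, e1, ← this]; group)
  obtain ⟨x', z', e2⟩ := H.cf.cenV1 (H.norM one_ne_zero c1) fun a b => (H.ωV _ a b).inv_left.mul_left (cv a b)
  obtain ⟨q, e3⟩ := H.KR one_ne_zero e2 ((H.rU 1 _).symm.inv_left.mul_left c1)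
  have e4 : x = H.ω (⟨0, e, c, 0, 0⟩ * (vv x' z' * (⟨q, 0, 0, 0, 0⟩ : WW)⁻¹)) *
      (r q * ((ψ ⟨x', 0, z'⟩)⁻¹ * ((H.ω ⟨0, e, c, 0, 0⟩)⁻¹ * x))) := by
    rw [map_mul, map_mul, map_inv, H.ωv, H.ωr]; group
  rw [H.in2W e3 (e4 ▸ x2), mul_one] at e4
  exact ⟨_, e4.symm⟩

/-- conjugating another copy of `W` into `W` -/
theorem cjW {A' ψ' α' ν' h' n1' n2' r' g' D' s'} (H' : S3 A' ψ' α' ν' h' n1' n2' r' g' D' s') {n : G}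
    (h1 : ∀ x z, ∃ x' z', n * ψ' ⟨x, 0, z⟩ * n⁻¹ = ψ ⟨x', 0, z'⟩)
    (h2 : ∀ x z, ∃ x' z', n⁻¹ * ψ ⟨x, 0, z⟩ * n = ψ' ⟨x', 0, z'⟩) (h3 : n⁻¹ * r 1 * n ∈ H'.ω.range) :
    cj n H'.ω.range = H.ω.range := by
  obtain ⟨w0, e0⟩ := h3
  have k : ∀ w, w * w = 1 → n * H'.ω w * n⁻¹ ∈ H.ω.range := fun w e => by
    obtain ⟨x, z, e1⟩ := h1 (cx w w0) (cz w w0)
    refine H.WX (c := x) (e := z) (fun a b => ?_) ?_ (by rw [conj_mul, ← map_mul, e]; simp)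
    · obtain ⟨a', b', e'⟩ := h2 a b
      exact comm_cj'' (e' ▸ H'.ωV w a' b')
    · have := congrArg H'.ω (WW.conj_eq w w0)
      rw [map_mul, map_mul, map_inv, map_mul, e0, H'.ωv] at this
      rw [← e1, ← mul_inv_cancel_left n (r 1), ← mul_inv_cancel_right (n⁻¹ * r 1) n, ← mul_assoc n, conj_mul,
        conj_mul, ← this]; group
  refine eq_of_le_of_card_ge ?_ ?_
  · rintro _ ⟨_, ⟨w, rfl⟩, rfl⟩
    have : w = ⟨w.p, 0, 0, 0, 0⟩ * ⟨0, w.q, 0, 0, 0⟩ * ⟨0, 0, w.m, 0, 0⟩ * vv w.x w.z := by simp [WW.mul_def, vv]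
    rw [this, map_mul, map_mul, map_mul, map_mul, map_mul, map_mul]
    refine mul_mem (mul_mem (mul_mem (k _ ?_) (k _ ?_)) (k _ ?_)) (k _ ?_) <;> simp [WW.sq_eq, vv, WW.one_def]
  · rw [card_map_of_injective (MulAut.conj n).injective, ← Nat.card_congr (MonoidHom.ofInjective H.winj).toEquiv,
      ← Nat.card_congr (MonoidHom.ofInjective H'.winj).toEquiv]

theorem NW0 {n : G} (h1 : ∀ x z, ∃ x' z', n * ψ ⟨x, 0, z⟩ * n⁻¹ = ψ ⟨x', 0, z'⟩)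
    (h2 : ∀ x z, ∃ x' z', n⁻¹ * ψ ⟨x, 0, z⟩ * n = ψ ⟨x', 0, z'⟩) (h3 : n⁻¹ * r 1 * n ∈ H.ω.range) :
    n ∈ normalizer (H.ω.range : Set G) :=
  mem_normalizer_iff.2 fun x => by rw [← cj_mem_cj (g := n), H.cjW H h1 h2 h3]

theorem n1W : n1 ∈ normalizer (H.ω.range : Set G) :=
  H.NW0 (fun x z => ⟨_, _, H.n1act x z⟩) (fun x z => ⟨z, x, by rw [← H.n1act z x]; group⟩)
    ⟨_, (H.ωr 1).trans (by simpa using (cj_of_comm (H.rA 1 H.n1A).symm.inv_left).symm)⟩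

omit H [Finite G] in
theorem yact (c x z : F) : ψ ⟨0, c, 0⟩ * ψ ⟨x, 0, z⟩ * (ψ ⟨0, c, 0⟩)⁻¹ = ψ ⟨x, 0, z + x * c⟩ := by
  rw [← map_inv, ← map_mul, ← map_mul]; congr 1; revert c x z; decide

theorem yW (c : F) : ψ ⟨0, c, 0⟩ ∈ normalizer (H.ω.range : Set G) :=
  H.NW0 (fun x z => ⟨_, _, yact c x z⟩) (fun x z => ⟨x, z + x * c, by
    rw [← yact, ← map_inv, (by decide : ∀ c, (⟨0, c, 0⟩ : U)⁻¹ = ⟨0, c, 0⟩)]⟩)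
    ⟨_, (H.ωr 1).trans (by simpa using (cj_of_comm (H.rU 1 _).symm.inv_left).symm)⟩

/-- `N(W) ∩ N(Z) ≤ N(P)` -/
theorem NW1 {n : G} (hn : n ∈ normalizer (H.ω.range : Set G)) {c1 c2 : F}
    (e1 : n * ψ ⟨0, 0, 1⟩ * n⁻¹ = ψ ⟨0, 0, c1⟩) (e2 : n * ψ ⟨0, 0, F.w⟩ * n⁻¹ = ψ ⟨0, 0, c2⟩) :
    n ∈ normalizer (H.ρ.range : Set G) := by
  obtain ⟨τ, hτ⟩ := exists_tau H.winj hn
  have inj : Function.Injective τ := fun a b e => H.winj (by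
    have := (hτ a).trans (e ▸ (hτ b).symm); rwa [mul_left_inj, mul_right_inj] at this)
  have k1 : τ (vv 0 1) = vv 0 c1 := H.winj (by rw [← hτ, H.ωv, H.ωv, e1])
  have k2 : τ (vv 0 F.w) = vv 0 c2 := H.winj (by rw [← hτ, H.ωv, H.ωv, e2])
  have sq : ∀ w, w * w = vv 0 0 → _ := fun w e => WW.vv_inj ((WW.sq_eq (τ w)).symm.trans
    (by rw [← map_mul, e]; exact τ.map_one : _ = vv 0 0))
  have cm : ∀ a b x z x' z', a * b * a⁻¹ = b * vv x z → τ (vv x z) = vv x' z' → cx (τ a) (τ b) = x' ∧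
      cz (τ a) (τ b) = z' := fun a b x z x' z' e e' => WW.c_of (by rw [← e', ← map_mul, ← map_mul, ← e]; simp)
  have a1 := cm ⟨1, 0, 0, 0, 0⟩ ⟨0, 1, 0, 0, 0⟩ _ _ _ _ (by decide) k1
  have a2 := cm ⟨1, 0, 0, 0, 0⟩ ⟨0, F.w, 0, 0, 0⟩ _ _ _ _ (by decide) k2
  have ne : ∀ {a b c d}, τ (vv 0 a) = vv 0 c → τ (vv 0 b) = vv 0 d → a ≠ b → c ≠ d := fun e e' n e'' =>
    n (WW.vv_inj (inj (e.trans (e'' ▸ e'.symm)))).2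
  obtain ⟨m0, b⟩ := WW.duad _ _ _ (sq ⟨1, 0, 0, 0, 0⟩ (by decide)) _ _ _ (sq ⟨0, 1, 0, 0, 0⟩ (by decide)) a1.1 _ _ _
    (sq ⟨0, F.w, 0, 0, 0⟩ (by decide)) a2.1 (cm ⟨0, 1, 0, 0, 0⟩ ⟨0, F.w, 0, 0, 0⟩ 0 0 0 0 (by decide) τ.map_one)
    (a1.2.trans_ne (ne k1 τ.map_one (by decide))) (a2.2.trans_ne (ne k2 τ.map_one (by decide)))
    (a1.2.trans_ne ((ne k1 k2 (by decide)).trans_eq a2.2.symm))
  obtain ⟨π, hπ, b⟩ := b (τ ⟨1, 0, 0, 0, 0⟩).x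
  obtain ⟨k, -, m, e⟩ := H.mv_to hπ (u := rr 1) (v := ⟨(τ ⟨1, 0, 0, 0, 0⟩).x, 0, (τ ⟨1, 0, 0, 0, 0⟩).p,
    (τ ⟨1, 0, 0, 0, 0⟩).q, (τ ⟨1, 0, 0, 0, 0⟩).z⟩) (nz_of ((b 2).trans_ne (by decide))) b
  rw [H.rw, WW.ext (x := ⟨_, _, 0, _, _⟩) (y := τ ⟨1, 0, 0, 0, 0⟩) rfl rfl m0.symm rfl rfl, ← hτ, H.ωr, H.ρr] at e
  have := (H.NP2 (n := k⁻¹ * n) (p' := 1) (c' := c1) one_ne_zero one_ne_zero (by rw [cj_mul, ← e]; group) (by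
    rw [cj_mul, e1, ← H.ρz, (m.inv H.rinj).1]; rfl)).2
  exact (mul_mem_cancel_left (inv_mem m.nor)).1 this

theorem exists_y : ∃ y ∈ 𝐂, y ∈ normalizer (H.ω.range : Set G) ∧ y * ψ ⟨0, 0, 1⟩ * y⁻¹ = ψ ⟨0, 0, 1⟩ ∧
    y * ψ ⟨0, 0, F.w⟩ * y⁻¹ = ψ ⟨1, 0, 0⟩ := by
  obtain ⟨k, hk, m, e⟩ := H.mv_to (π := Equiv.swap 0 1 * Equiv.swap 3 4) (by decide) (u := ⟨0, 0, 0, 1, 0⟩)
    (v := rr 1) (by decide) (by decide)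
  have m' := m.inv H.rinj
  have a1 : ∀ x z, ∃ z', k * ψ ⟨0, x, z⟩ * k⁻¹ = ψ ⟨x, 0, z'⟩ := fun x z => by
    obtain ⟨c, e⟩ := H.mvU m ⟨0, x, 0, 0, z⟩ (v := ⟨x, 0, 0, 0, 0⟩) (by clear e; revert x z; decide)
    exact ⟨c, by rw [← H.ρU, e, H.ρU, ← map_mul]; simp [U.mul_def]⟩
  have e0 : ∀ x z, (ψ.comp θ) ⟨x, 0, z⟩ = ψ ⟨0, x, z⟩ := fun x z => congrArg ψ ((θ_apply x 0 z).trans (by simp))
  have a2 := H.cjW H.dl (n := k) (fun x z => ⟨x, by simpa only [e0] using a1 x z⟩) (fun x z => by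
    obtain ⟨c, e⟩ := H.mvU m' ⟨x, 0, 0, 0, z⟩ (v := ⟨0, x, 0, 0, 0⟩) (by clear e; revert x z; decide)
    exact ⟨x, c, by rw [← H.ρU, ← inv_inv k, inv_inv k⁻¹, e, H.ρU, e0, ← map_mul]; simp [U.mul_def]⟩)
    ⟨_, (H.dl.ωs 1).trans (by rw [← H.ρr, ← e, H.ρs]; group)⟩
  have a3 : k * n2 * k⁻¹ ∈ normalizer (H.ω.range : Set G) := by
    rw [← a2, nor_cj]; simpa [mul_assoc] using H.dl.n1W
  choose μ hμ using fun x => a1 x 0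
  obtain ⟨w, hw⟩ := a2.le (cj_mem_cj.2 ⟨_, H.dl.ωa 1⟩)
  have a4 : ∀ q, cx w ⟨0, q, 0, 0, 0⟩ = q ∧ cz w ⟨0, q, 0, 0, 0⟩ = μ q := fun q => WW.c_of (H.winj (by
    obtain ⟨c, e⟩ := H.mvU m (rr q) (v := ⟨0, 0, 0, q, 0⟩) (by clear e; revert q; decide)
    have e1 := congrArg (k * · * k⁻¹) (H.dl.ar 1 q)
    simp only [e0, one_mul, ← conj_mul, ← H.ρr, e, hμ, H.ρs] at e1
    rw [map_mul, map_mul, map_inv, map_mul, H.ωs, H.ωv, ← mul_left_inj (ψ ⟨0, 0, c⟩), mul_assoc _ _ (ψ ⟨0, 0, c⟩),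
      (H.ωV w 0 c).inv_left.eq, mul_assoc (s q), ← map_mul, ← U.zcomm, map_mul, ← mul_assoc (s q), ← e1, hw]
    group))
  have a5 : ∀ c, k * n2 * k⁻¹ * ψ ⟨0, 0, c⟩ * (k * n2 * k⁻¹)⁻¹ = ψ ⟨c, 0, μ c⟩ := fun c => by
    rw [cj_mul, cj_mul, ← H.ρz, m'.1, H.ρz, H.n2act, ← hμ]; rfl
  have a6 : μ F.w + F.w * μ 1 = 1 := by
    rw [← (a4 _).2, ← (a4 _).2]
    exact (by decide +kernel : ∀ w : WW, cx w ⟨0, 1, 0, 0, 0⟩ = 1 →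
      cz w ⟨0, F.w, 0, 0, 0⟩ + F.w * cz w ⟨0, 1, 0, 0, 0⟩ = 1) w (a4 1).1
  refine ⟨ψ ⟨0, F.w, 0⟩ * (n1 * (ψ ⟨0, μ 1, 0⟩ * (k * n2 * k⁻¹))), mul_mem (H.AC (H.mem _)) (mul_mem (H.AC H.n1A)
    (mul_mem (H.AC (H.mem _)) (mul_mem (mul_mem hk (H.AC H.n2A)) (inv_mem hk)))),
    mul_mem (H.yW _) (mul_mem H.n1W (mul_mem (H.yW _) a3)), ?_, ?_⟩ <;> rw [cj_mul, cj_mul, cj_mul, a5, yact, H.n1act, yact]
  · simp
  · rw [a6]; simp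

/-- `Λ = ⟨z, z', x 1⟩` is invariant -/
theorem LA {n : G} (hn : n ∈ normalizer (H.ω.range : Set G)) (c : Commute n (ψ ⟨0, 0, 1⟩)) {x : F} (z : F)
    (hx : x = 0 ∨ x = 1) : ∃ x' z', (x' = 0 ∨ x' = 1) ∧ n * ψ ⟨x, 0, z⟩ * n⁻¹ = ψ ⟨x', 0, z'⟩ := by
  obtain ⟨τ, hτ⟩ := exists_tau H.winj hn
  obtain ⟨w, rfl, rfl⟩ := WW.lam x z hx
  have k1 : τ (vv 0 1) = vv 0 1 := H.winj (by rw [← hτ, H.ωv, cj_of_comm c])
  obtain ⟨a, b⟩ := WW.vv_inj ((WW.sq_eq (τ ⟨1, 1, 0, 0, 0⟩)).symm.trans (by rw [← map_mul]; exact k1))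
  obtain ⟨a, b, -⟩ := WW.sqz _ _ _ a b
  have e := congrArg τ (WW.conj_eq ⟨1, 1, 0, 0, 0⟩ w)
  rw [map_mul, map_mul, map_inv, WW.conj_eq, map_mul, mul_right_inj] at e
  refine ⟨_, _, ?_, (congrArg (n * · * n⁻¹) (H.ωv _ _).symm).trans (by rw [hτ, ← e, H.ωv])⟩
  simp only [cx, a, b]
  exact (by decide : ∀ a b c d : F, 0 * a + b * c + 0 * 0 * d + b * b * (c * c) = 0 ∨
    0 * a + b * c + 0 * 0 * d + b * b * (c * c) = 1) _ _ _ _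

theorem exists_k : ∃ k ∈ normalizer (H.ω.range : Set G), k ∈ 𝐊 ∧ ∀ x p z, ∃ z',
    k * H.ρ ⟨x, 0, p, p * p, z⟩ * k⁻¹ = H.ρ ⟨x, 0, F.w * p, F.w * p * (F.w * p), z'⟩ := by
  obtain ⟨k, -, m, e⟩ := H.mv_to (π := Equiv.swap 2 4 * Equiv.swap 2 3) (by decide) (u := rr 1)
    (v := rr F.w) (by decide) (by decide)
  rw [H.ρr, H.ρr] at e
  obtain ⟨u, e1⟩ := H.ofU m (by decide) (by decide)
    (H.NP2 one_ne_zero one_ne_zero e (H.ρz 1 ▸ cj_of_comm m.comm)).1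
  have m' := (mv_inn H.ρ (⟨u.x, u.y, 0, 0, u.z⟩ : PP)⁻¹).mul m
  rw [map_inv, H.ρU] at m'
  refine ⟨_, H.NW0 (fun x z => ⟨_, _, cj_of_comm (mem_cen.1 e1 _ (H.mem _))⟩)
    (fun x z => ⟨x, z, by simpa using cj_of_comm (mem_cen.1 e1 _ (H.mem _)).inv_left⟩) ?_, e1, fun x p z => ?_⟩
  · obtain ⟨c, e⟩ := H.mvU (m'.inv H.rinj) (rr 1) (v := rr F.v) (by decide)
    rw [inv_inv, H.ρr] at e
    exact e ▸ mul_mem ⟨_, (H.ωr _).trans (H.ρr _).symm⟩ ⟨_, H.ωv _ _⟩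
  · obtain ⟨c, e⟩ := H.mvU m' ⟨x, 0, p, p * p, z⟩ (v := ⟨x, 0, F.w * p, F.w * p * (F.w * p), 0⟩)
      (by clear e e1 m'; revert x p z; decide +kernel)
    exact ⟨c, by rw [e, ← H.ρz, ← map_mul]; simp [zz, PP.mul_def]⟩

omit [Finite G] in
theorem memW {u : PP} (e : H.ρ u ∈ H.ω.range) : u.y = 0 := by
  obtain ⟨w, e⟩ := e
  have := bf_zero u ⟨1, 0, 0, 0, 0⟩ (H.rinj (by rw [map_mul, map_mul, ← e, H.ρU]; exact H.ωV w 1 0))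
  simpa [bf] using this

/-- `Q ∩ W` is invariant -/
theorem NQm {n : G} (hn : n ∈ normalizer (H.ω.range : Set G)) (c : Commute n (ψ ⟨0, 0, 1⟩)) {u : PP} (hu : u ∈ Q0)
    (h0 : u.y = 0) : ∃ u' ∈ Q0, u'.y = 0 ∧ n * H.ρ u * n⁻¹ = H.ρ u' := by
  obtain ⟨x, _, p, _, z⟩ := u
  obtain rfl : _ = 0 := h0
  obtain ⟨hx, rfl⟩ := (by decide +kernel : ∀ x p q z, (⟨x, 0, p, q, z⟩ : PP) ∈ Q0 → (x = 0 ∨ x = 1) ∧ q = p * p) _ _ _ _ hu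
  have q0 : ∀ x p z, x = 0 ∨ x = 1 → (⟨x, 0, p, p * p, z⟩ : PP) ∈ Q0 := by decide +kernel
  by_cases hp : p = 0
  · subst hp
    obtain ⟨x', z', a, e⟩ := H.LA hn c z hx
    exact ⟨_, q0 x' 0 z' a, rfl, by simpa [H.ρU] using e⟩
  obtain ⟨k, kW, kK, hk⟩ := H.exists_k
  have k1 : n⁻¹ * k * n ∈ normalizer (H.ω.range : Set G) := mul_mem (mul_mem (inv_mem hn) kW) hn
  have k2 : ∀ x z, Commute (n⁻¹ * k * n) (ψ ⟨x, 0, z⟩) := fun x z => by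
    obtain ⟨x', z', e⟩ := H.tauV hn x z
    exact (comm_cj' (e ▸ (mem_cen.1 kK _ (H.mem _)).symm)).symm
  obtain ⟨π, σ, m⟩ := H.mv (H.NW1 k1 (cj_of_comm (k2 _ _)) (cj_of_comm (k2 _ _))) (H.ρz 1 ▸ k2 _ _)
  let S : Subgroup G := cj n (Q0.map H.ρ ⊓ H.ω.range)
  have k3 : ∀ x ∈ S, k * x * k⁻¹ ∈ S := fun x hx => by
    obtain ⟨⟨u, hu, e⟩, hw⟩ := mem_cj.1 hx
    obtain ⟨u', e1, e2⟩ := m.2 u
    have e3 : n⁻¹ * (k * x * k⁻¹) * n = n⁻¹ * k * n * (n⁻¹ * x * n) * (n⁻¹ * k * n)⁻¹ := by group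
    refine mem_cj.2 ⟨⟨u', fun i => ?_, by rw [e3, ← e, e1]⟩, e3 ▸ nor_cjA k1 hw⟩
    obtain ⟨i, rfl⟩ := π.surjective i
    rw [e2]
    rcases hu i with a | a <;> rw [a] <;> cases σ <;> decide
  obtain ⟨w, e⟩ := nor_cjA hn ⟨_, (H.rw x p (p * p) z).symm⟩
  obtain ⟨a, b⟩ := WW.vv_inj ((WW.sq_eq w).symm.trans (H.winj (by
    rw [map_mul, e, conj_mul, ← map_mul, H.ωv, ← cj_of_comm c, ← H.ρz, sq_eq,
      (by decide : ∀ x p : F, p ≠ 0 → x * 0 + p * (p * p) = 1) x p hp])))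
  obtain ⟨a', b', -⟩ := WW.sqz _ _ _ a b
  clear a b
  obtain ⟨p', _, _, x', z'⟩ := w
  dsimp only at a' b'
  subst a' b'
  rw [← H.rw] at e
  refine ⟨_, q0 x' p' z' ?_, rfl, e.symm⟩
  have s1 : H.ρ ⟨x', 0, p', p' * p', z'⟩ ∈ S := e ▸ cj_mem_cj.2 ⟨⟨_, hu, rfl⟩, _, (H.rw _ _ _ _).symm⟩
  obtain ⟨z2, e2⟩ := hk x' p' z'
  obtain ⟨z3, e3⟩ := hk x' (F.w * p') z2
  have s2 := e2 ▸ k3 _ s1
  have s4 := mul_mem s1 (mul_mem s2 (e3 ▸ k3 _ s2))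
  obtain ⟨z4, e4⟩ : ∃ z4, (⟨x', 0, p', p' * p', z'⟩ : PP) * (⟨x', 0, F.w * p', F.w * p' * (F.w * p'), z2⟩ *
      ⟨x', 0, F.w * (F.w * p'), F.w * (F.w * p') * (F.w * (F.w * p')), z3⟩) = ⟨x', 0, 0, 0, z4⟩ :=
    ⟨_, PP.ext ((by decide : ∀ x : F, x + (x + x) = x) _) rfl
      ((by decide : ∀ p : F, p + (F.w * p + F.w * (F.w * p)) = 0) _) ((by decide : ∀ p : F, p * p +
        (F.w * p * (F.w * p) + F.w * (F.w * p) * (F.w * (F.w * p))) = 0) _) rfl⟩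
  rw [← map_mul, ← map_mul, e4, H.ρU] at s4
  obtain ⟨x5, z5, e5⟩ := H.tauV (inv_mem hn) x' z4
  obtain ⟨u, hu, e6⟩ := (mem_cj.1 s4).1
  rw [inv_inv] at e5
  obtain rfl : u = ⟨x5, 0, 0, 0, z5⟩ := H.rinj (by rw [e6, e5, H.ρU])
  obtain ⟨x6, z6, a, e7⟩ := H.LA hn c z5 (tt1 _ ▸ hu 1)
  rw [← e5] at e7
  rwa [show x' = x6 from congrArg U.x (H.inj (by simpa [mul_assoc] using e7 : ψ ⟨x', 0, z4⟩ = ψ ⟨x6, 0, z6⟩))]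

end S3

end Cfsg.Agent.L4S
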