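import Cfsg.Agent.L4S.E1b
import Cfsg.Agent.Solv.Coprime3

/-! The Suzuki case: the extraspecial group and the local configuration. -/

set_option autoImplicit false
set_option synthInstance.maxSize 4000
set_option maxRecDepth 100000

namespace Cfsg.Agent.L4S

open Subgroup PP
open F (fr)

variable {G : Type*} [Group G] {A : Subgroup G} {ψ : U →* G} {α : G → B} {ν : G → Bool × Bool} {h n1 n2 : G}
  {r : F → G} {g : G} {D : Subgroup G} {s : F → G}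

local notation "𝐊" => centralizer (A : Set G)
local notation "𝐌" => normalizer (A : Set G)
local notation "𝐂" => centralizer (D : Set G)

theorem B.ofγ : ∀ b : B, (b.on ⟨1, 0, 0⟩).y = 1 → (b.on ⟨F.w, 0, 0⟩).y = F.w → (b.on ⟨0, 1, 0⟩).x = 1 →
    (B.inl b.u)⁻¹ * b * ((B.inl b.u)⁻¹ * b) = 1 := by decide +kernel

namespace S3

variable (H : S3 A ψ α ν h n1 n2 r g D s)

/-- `i` is trivial on `Q ∩ W` modulo `z` -/
def Tr (i : G) : Prop := i ∈ normalizer (H.ω.range : Set G) ∧ Commute i (ψ ⟨0, 0, 1⟩) ∧ i * i = 1 ∧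
  i ∉ H.ω.range ∧ ∀ u ∈ Q0, u.y = 0 → i * H.ρ u * i⁻¹ = H.ρ u ∨ i * H.ρ u * i⁻¹ = H.ρ (u * zz 1)

include H

variable [Finite G]

theorem Tr.cj {i n : G} (t : H.Tr i) (hn : n ∈ normalizer (H.ω.range : Set G)) (c : Commute n (ψ ⟨0, 0, 1⟩)) :
    H.Tr (n * i * n⁻¹) := by
  refine ⟨mul_mem (mul_mem hn t.1) (inv_mem hn), (c.mul_left t.2.1).mul_left c.inv_left,
    by rw [conj_mul, t.2.2.1]; simp, fun e => t.2.2.2.1 ((mem_normalizer_iff.1 hn i).2 e), fun u hu h0 => ?_⟩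
  obtain ⟨u', a, b, e⟩ := H.NQm (inv_mem hn) c.inv_left hu h0
  rw [cj_mul, cj_mul, e]
  refine (t.2.2.2.2 u' a b).imp (fun e' => ?_) fun e' => ?_
  · rw [e', ← e]; group
  · rw [e', map_mul, map_mul, ← e, H.ρz, ← conj_mul, cj_of_comm c]; group

theorem tr_y : H.Tr (H.ρ ⟨0, 1, 0, 0, 0⟩) :=
  ⟨H.ρU 0 1 0 ▸ H.yW 1, (mv_inn H.ρ _).comm.symm.symm.symm.symm |> fun e => H.ρz 1 ▸ e,
    by rw [← map_mul]; exact map_one _, fun e => absurd (H.memW e) (by decide), fun u hu _ => by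
      rw [← map_inv, ← map_mul, ← map_mul, conj_eq]
      rcases hu 1 with e | e <;> rw [tt1] at e <;> simp [bf, e, zz, ← PP.one_def]⟩

theorem Tr.mv {i : G} (t : H.Tr i) : ∃ σ, Mv H.ρ i 1 σ := by
  obtain ⟨c, e⟩ : ∃ c, i * ψ ⟨0, 0, F.w⟩ * i⁻¹ = ψ ⟨0, 0, c⟩ := by
    rcases t.2.2.2.2 (zz F.w) (by decide) rfl with e | e
    exacts [⟨_, H.ρz _ ▸ e⟩, ⟨_, by rwa [zz_mul, H.ρz, H.ρz] at e⟩]
  obtain ⟨π, σ, m⟩ := H.mv (H.NW1 t.1 (cj_of_comm t.2.1) e) (H.ρz 1 ▸ t.2.1)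
  have k : ∀ u ∈ Q0, u.y = 0 → ∀ j, tt (π j) u = tt j u := fun u hu h0 j => by
    obtain ⟨u', e1, e2⟩ := m.2 u
    have : fs σ (tt j u) = tt j u := by rcases hu j with a | a <;> rw [a] <;> cases σ <;> rfl
    rw [← this, ← e2]
    rcases t.2.2.2.2 u hu h0 with a | a <;> rw [← H.rinj (e1.symm.trans a).symm]
    simp [tt, bf, zz, PP.mul_def]
  obtain rfl := (by decide +kernel : ∀ π : Equiv.Perm (Fin 5), (∀ j, tt (π j) (sv 0) = tt j (sv 0)) →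
    (∀ j, tt (π j) ⟨0, 0, 1, 1, 0⟩ = tt j ⟨0, 0, 1, 1, 0⟩) →
    (∀ j, tt (π j) ⟨0, 0, F.w, F.v, 0⟩ = tt j ⟨0, 0, F.w, F.v, 0⟩) → π = 1) π (k _ (by decide) rfl)
    (k _ (by decide) rfl) (k _ (by decide) rfl)
  exact ⟨σ, m⟩

theorem fQ {f i : G} (f2 : f * f = 1) (fm : Mv H.ρ f 1 true) (fc : f ∈ 𝐂) (i2 : i * i = 1) (m : Mv H.ρ i 1 true) :
    i ∈ QQ H.ρ f := by
  obtain ⟨u, d, hd, e⟩ := H.ker (n := f * i) (by simpa using fm.mul m)
  obtain ⟨u', e1, e2⟩ := fm.2 u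
  have e3 : i = f * (H.ρ u * d) := by rw [← e, ← mul_assoc, f2, one_mul]
  have e4 : H.ρ (u' * u) * (d * d) = 1 := by
    rw [← i2, e3, map_mul, ← e1, inv_eq_self f2]
    simp only [mul_assoc]
    rw [(mem_cen.1 fc d hd).symm.left_comm, (mem_cen.1 (H.ρC u) d hd).symm.left_comm]
  have e5 : d * d = 1 := H.in2 (mul_mem hd hd) (by rw [e4, one_mul])
  obtain rfl := one_of_odd (n := 1) (H.dodd hd) (by simpa [pow_two] using e5)
  rw [e3, mul_one]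
  refine mul_mem (mem_sup_right (mem_zpowers f)) (mem_sup_left ⟨u, fun j => ?_, rfl⟩)
  have := congrArg (tt j) (H.rinj (by simpa using e4 : H.ρ (u' * u) = H.ρ 1))
  rw [tt_mul, show tt j u' = _ from e2 j] at this
  exact (by decide : ∀ (j) (c : F), fs true c + c = tt j 1 → c = 0 ∨ c = 1) j _ this

theorem Tr.memQ {f i : G} (t : H.Tr i) (f2 : f * f = 1) (fm : Mv H.ρ f 1 true) (fc : f ∈ 𝐂) : i ∈ QQ H.ρ f := by
  obtain ⟨σ, m⟩ := t.mv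
  cases σ
  swap
  · exact H.fQ f2 fm fc t.2.2.1 m
  obtain ⟨u, d, hd, e⟩ := H.ker m
  rw [H.in2 hd (e ▸ t.2.2.1), mul_one] at e
  subst e
  have k : ∀ v ∈ Q0, v.y = 0 → bf u v = 0 ∨ bf u v = 1 := fun v hv h0 =>
    (t.2.2.2.2 v hv h0).imp (fun e => ?_) fun e => ?_
  · refine mem_sup_left ⟨u, ((by decide +kernel : ∀ u : PP, u * u = 1 → (bf u (sv 0) = 0 ∨ bf u (sv 0) = 1) →
      (bf u ⟨0, 0, 1, 1, 0⟩ = 0 ∨ bf u ⟨0, 0, 1, 1, 0⟩ = 1) →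
      (bf u ⟨0, 0, F.w, F.v, 0⟩ = 0 ∨ bf u ⟨0, 0, F.w, F.v, 0⟩ = 1) → u ∈ Q0 ∨ u = ⟨u.x, 0, u.p, u.q, u.z⟩) u
      (H.rinj (by simpa using t.2.2.1)) (k _ (by decide) rfl) (k _ (by decide) rfl)
      (k _ (by decide) rfl)).resolve_right fun e => t.2.2.2.1 ⟨_, by rw [e, H.rw]⟩, rfl⟩
  all_goals rw [← map_inv, ← map_mul, ← map_mul, conj_eq] at e
  · exact congrArg PP.z (mul_eq_left.1 (H.rinj e))
  · exact congrArg PP.z (mul_left_cancel (H.rinj e))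

theorem out {i : G} (m : Mv H.ρ i (Equiv.swap 0 1) false) (i2 : i * i = 1) (c : ∀ p, Commute i (H.ρ (rr p))) :
    ¬ IsD A i := fun hD => by
  obtain ⟨-, i1, g', hg⟩ := id hD
  obtain ⟨k, -, e⟩ := H.rsyl (zpowers (g' * i * g'⁻¹)) (IsPGroup.of_card (n := 1) (by
    have := Fact.mk Nat.prime_two
    rw [Nat.card_zpowers, orderOf_eq_prime (by rw [pow_two, conj_mul, i2]; simp) (by simpa using i1), pow_one]))
    (zpowers_le.2 hg)
  obtain ⟨p0, -, e⟩ := e _ (mem_zpowers _)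
  rw [← cj_mul] at e
  generalize k * g' = t at e
  have h0 : p0 ≠ 0 := by rintro rfl; exact i1 (by simpa [H.toSt1.r0] using e)
  obtain ⟨p1, h1, h2, h3⟩ := (by decide : ∀ p : F, p ≠ 0 → ∃ q, q ≠ 0 ∧ q + p ≠ 0 ∧
    ∀ x, x ≠ 0 → x ≠ p → x = q ∨ x = q + p) p0 h0
  have ei : i = t⁻¹ * r p0 * t := by rw [← e]; group
  set j := t⁻¹ * r p1 * t with hj
  have ej : j * i = t⁻¹ * r (p1 + p0) * t := by rw [H.ra, ei, hj]; group
  have k1 : ∀ x, Commute x i → Commute j x ∨ x * j * x⁻¹ = j * i := fun x cx => by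
    have c1 : Commute (t * x * t⁻¹) (r p0) := e ▸ comm_cj cx t
    obtain ⟨q, e1⟩ := H.KR' h0 (nor_cjK (H.norM h0 c1) (H.rk p1))
      (cj_of_comm c1 ▸ comm_cj (H.rr' p1 p0) _) (by rw [conj_mul, H.r2]; simp)
    have e2 : x * j * x⁻¹ = t⁻¹ * r q * t := by rw [← e1, hj]; group
    rcases h3 q (by
      rintro rfl; rw [H.toSt1.r0, conj_eq_one_iff] at e1; exact H.rne p1 (spt _) h1 e1) (by
      rintro rfl
      have := (cj_of_comm c1).trans e1.symm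
      rw [mul_left_inj, mul_right_inj] at this
      exact H.rne _ (spt _) h2 (by rw [H.ra, ← this, H.r2])) with rfl | rfl
    exacts [Or.inl (comm_of_cj e2).symm, Or.inr (e2.trans ej.symm)]
  have k2 : ∀ x y, Commute x i → Commute y i → Commute j x ∨ Commute j y ∨ Commute j (x * y) := fun x y a b =>
    (k1 x a).imp_right fun a' => (k1 y b).imp_right fun b' => (comm_of_cj (by
      rw [cj_mul, b', ← conj_mul, a', cj_of_comm a, mul_assoc, i2, mul_one])).symm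
  have zi : ∀ c, Commute (ψ ⟨0, 0, c⟩) i := fun c => (comm_of_cj (H.ρz c ▸ m.1 c)).symm
  obtain ⟨p, hp, cp⟩ : ∃ p, p ≠ 0 ∧ Commute j (r p) := by
    rcases k2 _ _ (H.ρr 1 ▸ c 1).symm (H.ρr F.w ▸ c _).symm with a | a | a
    exacts [⟨_, by decide, a⟩, ⟨_, by decide, a⟩, ⟨1 + F.w, by decide, H.ra _ _ ▸ a⟩]
  obtain ⟨c0, hc, cc⟩ : ∃ c, c ≠ 0 ∧ Commute j (ψ ⟨0, 0, c⟩) := by
    rcases k2 _ _ (zi 1) (zi F.w) with a | a | a
    exacts [⟨_, by decide, a⟩, ⟨_, by decide, a⟩, ⟨F.v, by decide, by rwa [← map_mul] at a⟩]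
  obtain ⟨⟨-, n1⟩, n2⟩ := H.NP2 hp hc (cj_of_comm cp) (cj_of_comm cc)
  have k3 : ∀ c, Commute j (ψ ⟨0, 0, c⟩) := fun c => (k1 _ (zi c)).resolve_right fun a => by
    obtain ⟨c', b⟩ := H.zact (inv_mem n1) c
    refine H.da i ?_ hD
    rw [show i = j⁻¹ * ψ ⟨0, 0, c⟩ * j⁻¹⁻¹ * (ψ ⟨0, 0, c⟩)⁻¹ by rw [inv_inv, mul_assoc, mul_assoc, ← mul_assoc (ψ _), a]; group,
      b]
    exact mul_mem (H.mem _) (inv_mem (H.mem _))
  obtain ⟨π, σ, m'⟩ := H.mv n2 (H.ρz 1 ▸ k3 1)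
  obtain rfl : σ = false := by
    have := H.rinj ((m'.1 F.w).symm.trans (cj_of_comm (H.ρz F.w ▸ k3 _)))
    revert this; cases σ <;> decide
  have fix : ∀ {n π u}, Mv H.ρ n π false → Commute n (H.ρ u) → ∀ l, tt (π l) u = tt l u := fun {n π u} m c l => by
    obtain ⟨u', a, b⟩ := m.2 u
    rw [← H.rinj ((cj_of_comm c).symm.trans a)] at b
    exact b l
  obtain ⟨q, hq, m1, c1⟩ : ∃ q, q ≠ 0 ∧ Mv H.ρ (t⁻¹ * r q * t) 1 false ∧ Commute (t⁻¹ * r q * t) (r p) := by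
    rcases (by decide +kernel : ∀ (π : Equiv.Perm (Fin 5)) p, p ≠ 0 → (∀ l, tt (π l) (rr p) = tt l (rr p)) →
      π = 1 ∨ π * Equiv.swap 0 1 = 1) π p hp (fix m' (H.ρr p ▸ cp)) with rfl | a
    exacts [⟨p1, h1, m', cp⟩, ⟨_, h2, by simpa [a, ej] using m'.mul m, ej ▸ cp.mul_left (H.ρr p ▸ c p)⟩]
  obtain ⟨u, d, hd, e1⟩ := H.ker m1
  have e2 : t⁻¹ * r q * t * (t⁻¹ * r q * t) = 1 := by simpa [mul_assoc] using congrArg (t⁻¹ * · * t) (H.r2 q)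
  rw [H.in2 hd (e1 ▸ e2), mul_one] at e1
  have e3 := fix m (u := u) (by rw [← e1, ei]; simpa using comm_cj (H.rr' p0 q) t⁻¹) 0
  have e4 := bf_zero u (rr p) (H.rinj (by rw [map_mul, map_mul, ← e1, H.ρr]; exact c1))
  rcases (by decide +kernel : ∀ (u : PP) p, p ≠ 0 → u * u = 1 → tt (Equiv.swap 0 1 0) u = tt 0 u →
    bf u (rr p) = 0 → u = zz u.z ∨ ∃ c, u.p ≠ 0 ∧ u = ⟨0, 0, 0, c, 0⟩ * rr u.p * (⟨0, 0, 0, c, 0⟩ : PP)⁻¹) u p hp
    (H.rinj (by rw [map_mul, ← e1, e2, map_one])) e3 e4 with a | ⟨c', a, b⟩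
  · exact H.da (t⁻¹ * r q * t) (by rw [e1, a, H.ρz]; exact H.mem _) (by simpa using (H.toSt1.rD (spt q) hq).cj t⁻¹)
  rw [b, map_mul, map_mul, map_inv, H.ρs, H.ρr] at e1
  have e5 := nor_cjK (inv_mem (H.te _ (H.rk _) (H.r2 _) (H.rne _ (spt _) a) (t * s c')
    (by rw [cj_mul, ← e1]; simpa [mul_assoc] using H.rk q))) (H.rk p0)
  have e6 : Commute i (H.ρ (sv 0)) := by
    have := comm_cj (mem_cen.1 e5 _ (H.mem ⟨1, 0, 0⟩)) (s c')
    rw [cj_of_comm (H.sU _ _), ← H.ρU] at this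
    rw [ei]; convert this using 1; exacts [by group, rfl]
  exact absurd (fix m e6 0) (by decide)

theorem outE {n : G} (m : Mv H.ρ n (Equiv.swap 0 1) false) :
    ∃ i, Mv H.ρ i (Equiv.swap 0 1) false ∧ i * i = 1 ∧ ∀ p, Commute i (H.ρ (rr p)) := by
  obtain ⟨c, e⟩ := H.mvU m (rr 1) (v := rr 1) (by decide)
  obtain ⟨c', e'⟩ := H.mvU m ⟨0, 0, 0, 1, 0⟩ (v := ⟨0, 0, 0, 1, 0⟩) (by decide)
  obtain ⟨v, a1, a2⟩ := (by decide +kernel : ∀ c c', ∃ v : PP, v * rr 1 * v⁻¹ = rr 1 * zz c ∧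
    v * ⟨0, 0, 0, 1, 0⟩ * v⁻¹ = ⟨0, 0, 0, 1, 0⟩ * zz c') c c'
  have m1 := (mv_inn H.ρ v⁻¹).mul m
  have c1 : Commute (H.ρ v⁻¹ * n) (r 1) := comm_of_cj (by
    rw [cj_mul, ← H.ρr, e, ← H.ρz, ← map_mul, ← a1]; simp [mul_assoc])
  have c2 : Commute (H.ρ v⁻¹ * n) (s 1) := comm_of_cj (by
    rw [cj_mul, ← H.ρs, e', ← H.ρz, ← map_mul, ← a2]; simp [mul_assoc])
  rw [one_mul, Bool.xor_self] at m1
  generalize H.ρ v⁻¹ * n = n at m1 c1 c2
  have hn := (H.NP2 one_ne_zero one_ne_zero (cj_of_comm c1) (H.ρz 1 ▸ cj_of_comm m1.comm)).1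
  have k : ∀ x y, ((α n).on ⟨x, y, 0⟩).y = x ∧ ((α n).on ⟨x, y, 0⟩).x = y := fun x y => by
    obtain ⟨u', e1, e2⟩ := m1.2 ⟨x, y, 0, 0, 0⟩
    rw [H.ρU, H.cf.act hn, ← H.ρU] at e1
    have a := e2 0
    have b := e2 1
    rw [← H.rinj e1] at a b
    rw [Equiv.swap_apply_left, tt1, tt0] at a
    rw [Equiv.swap_apply_right, tt1, tt0] at b
    exact ⟨b, a⟩
  have hn' := mul_mem (inv_mem (H.cf.psiN (α n).u)) hn
  have k1 := (H.aker _ (mul_mem hn' hn')).1 (by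
    rw [H.amul _ hn' _ hn', H.amul _ (inv_mem (H.cf.psiN _)) _ hn, H.cf.ainv (H.cf.psiN _), H.apsi]
    exact B.ofγ _ (k _ _).1 (k _ _).1 (k _ _).2)
  have m2 := (mv_inn H.ρ (⟨(α n).u.x, (α n).u.y, 0, 0, (α n).u.z⟩ : PP)⁻¹).mul m1
  rw [one_mul, Bool.xor_self, map_inv, H.ρU] at m2
  replace c1 := (H.rU 1 (α n).u).symm.inv_left.mul_left c1
  replace c2 := (H.sU 1 (α n).u).symm.inv_left.mul_left c2
  generalize (ψ (α n).u)⁻¹ * n = n at hn' k1 m2 c1 c2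
  obtain ⟨q, e1⟩ := H.KR one_ne_zero k1 (c1.mul_left c1)
  obtain rfl : q = 0 := by
    have := (H.sD 1 _ e1).mul_right (c2.mul_left c2).symm.inv_right
    rw [mul_inv_cancel_right, ← H.ρs, ← H.ρr] at this
    simpa [bf, rr] using bf_zero _ _ (H.rinj ((map_mul H.ρ _ _).trans (this.eq.trans (map_mul H.ρ _ _).symm)))
  rw [H.toSt1.r0, one_mul] at e1
  obtain ⟨l, hl⟩ := H.dodd e1
  have c3 : ∀ p, Commute n (H.ρ (rr p)) := fun p => comm_of_cj (by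
    obtain ⟨c, e⟩ := H.mvU m2 (rr p) (v := rr p) (by revert p; decide)
    have := nor_cjK hn'.1 (H.rk p)
    rw [← H.ρr, e, H.ρr, mul_mem_cancel_left (H.rk p)] at this
    rw [e, H.cf.memK this, map_one, mul_one])
  refine ⟨n * (n * n) ^ l, by simpa using m2.mul (mv_of_comm fun u => (mem_cen.1 (H.ρC u) _ (pow_mem e1 l)).symm),
    ?_, fun p => (c3 p).mul_left (((c3 p).mul_left (c3 p)).pow_left l)⟩
  rw [← pow_orderOf_eq_one (n * n), hl, ← pow_two n, ← pow_mul, ← pow_mul, ← pow_succ', ← pow_add]; congr 1; ring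

theorem oddD (O : Subgroup G) (h1 : Odd (Nat.card O)) (h2 : O ≤ centralizer {H.ρ (zz 1)})
    (h3 : H.ρ.range ≤ normalizer (O : Set G)) : O ≤ D := by
  have := Fact.mk Nat.prime_two
  have p2 : IsPGroup 2 H.ρ.range := by
    rintro ⟨_, u, rfl⟩
    exact ⟨2, Subtype.ext (by simpa using congrArg H.ρ ((by decide +kernel : ∀ u : PP, u ^ 2 ^ 2 = 1) u))⟩
  have cop : ∀ {P : Subgroup G}, IsPGroup 2 P → (Nat.card P).Coprime (Nat.card O) := fun hP => by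
    obtain ⟨n, hn⟩ := hP.exists_card_eq
    exact hn ▸ (Nat.coprime_two_left.2 h1).pow_left n
  let R : Multiplicative F →* G := MonoidHom.mk' (fun p => r p.toAdd) fun a b => H.ra _ _
  have a0 : R.range ≤ H.ρ.range := by rintro _ ⟨p, rfl⟩; exact ⟨_, H.ρr _⟩
  refine Solv.le_of_centralizers_le R.range O (fun hc => ?_) (a0.trans h3) (cop (p2.to_le a0)) D ?_
  · have := isCyclic_of_injective _ (MonoidHom.ofInjective (f := R) ((injective_iff_map_eq_one _).2 fun p e =>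
      by_contra fun n => H.rne _ (spt _) n e)).injective
    obtain ⟨t, ht⟩ := this.exists_generator
    have key : ∀ x, x = 1 ∨ x = t := fun x => by
      obtain ⟨n, rfl⟩ := ht x
      have e := zpow_eq_zpow_emod (x := t) (n := 2) n (by rw [zpow_two]; exact F.add_self _)
      rcases Int.emod_two_eq_zero_or_one n with a | a <;> simp [e, a]
    exact absurd (((key (.ofAdd F.i)).resolve_left (by decide)).trans
      ((key (.ofAdd F.w)).resolve_left (by decide)).symm) (by decide)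
  rintro _ ⟨p, rfl⟩ a1 o ho
  have a2 := (H.NP2 (p := p.toAdd) (fun e => a1 (by rw [show p = 1 from e, map_one])) one_ne_zero
    (cj_of_comm (mem_centralizer_singleton_iff.1 ho.2))
    (H.ρz 1 ▸ cj_of_comm (mem_centralizer_singleton_iff.1 (h2 ho.1)))).2
  obtain ⟨u, d, hd, e⟩ := H.ker (mv_of_comm (d := o) fun u => commutatorElement_eq_one_iff_commute.1
    ((disjoint_of_coprime_natCard (cop p2)).le_bot (x := o * H.ρ u * o⁻¹ * (H.ρ u)⁻¹)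
      (mem_inf.2 ⟨mul_mem (nor_cjA a2 ⟨_, rfl⟩) (inv_mem ⟨_, rfl⟩), by
        rw [mul_assoc, mul_assoc, ← mul_assoc (H.ρ u)]
        exact mul_mem ho.1 (nor_cjA (h3 ⟨u, rfl⟩) (O.inv_mem ho.1))⟩)))
  have o1 := h1.of_dvd_nat (orderOf_dvd_natCard O ho.1)
  refine mem_of_sq o1 (mem_of_sq (o1.of_dvd_nat (by rw [← pow_two]; exact orderOf_pow_dvd 2)) ?_)
  rw [show o * o * (o * o) = o ^ 2 ^ 2 by rw [pow_two 2, pow_mul, pow_two, pow_two], e, (mem_cen.1 (H.ρC u) d hd).mul_pow, ← map_pow,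
    (by decide +kernel : ∀ u : PP, u ^ 2 ^ 2 = 1), map_one, one_mul]
  exact pow_mem hd _

theorem st4 : ∃ f y, St4 A H.ρ H.ω D h f y := by
  obtain ⟨y, yc, yW, y1, y2⟩ := H.exists_y
  have t := H.tr_y.cj H yW (comm_of_cj y1)
  have fc : y * H.ρ ⟨0, 1, 0, 0, 0⟩ * y⁻¹ ∈ 𝐂 := mul_mem (mul_mem yc (H.ρC _)) (inv_mem yc)
  have fm : Mv H.ρ (y * H.ρ ⟨0, 1, 0, 0, 0⟩ * y⁻¹) 1 true := by
    obtain ⟨σ, m⟩ := t.mv
    cases σ
    swap
    · exact m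
    obtain ⟨x, z, hx, e⟩ := H.LA (inv_mem yW) (comm_of_cj y1).inv_left (x := 0) F.w (Or.inl rfl)
    have c := comm_cj' (comm_of_cj (m.1 F.w))
    rw [inv_inv] at e
    rw [H.ρz, e, ← H.ρU] at c
    obtain rfl : x = 0 := by
      simpa [bf] using bf_zero _ _ (H.rinj ((map_mul H.ρ _ _).trans (c.eq.trans (map_mul H.ρ _ _).symm)))
    replace e : y * ψ ⟨0, 0, z⟩ * y⁻¹ = ψ ⟨0, 0, F.w⟩ := by rw [← e]; group
    cases z
    · exact absurd (H.inj (e.symm.trans (by simp [← U.one_def] : y * ψ ⟨0, 0, 0⟩ * y⁻¹ = ψ 1))) (by decide)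
    · exact absurd (H.inj (y1.symm.trans e)) (by decide)
    · exact absurd (H.inj (y2.symm.trans e)) (by decide)
    · rw [show (⟨0, 0, F.v⟩ : U) = ⟨0, 0, 1⟩ * ⟨0, 0, F.w⟩ from rfl, map_mul, ← conj_mul, y1, y2, ← map_mul] at e
      exact absurd (H.inj e) (by decide)
  refine ⟨_, y, H.rinj, H.winj, H.rw, fun _ => H.dodd, H.ρC, H.ωC, H.AC H.hA, fc, yc, fun _ => H.mv, fun _ => H.ker,
    H.a5, fun m => H.ωa m ▸ H.amv m, fun c m => ?_, fun u => ?_, t.2.2.1, fm, t.1, rfl, yW,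
    H.ρz 1 ▸ comm_of_cj y1, by rw [H.ρz, H.ρU, y2], ?_, fun n hn a b => H.NW1 hn (H.ρz 1 ▸ cj_of_comm a)
      (H.ρz F.w ▸ cj_of_comm b), fun _ => H.rD, H.da _ (H.ρz 1 ▸ H.mem _), fun c hc => ?_,
    fun c a b => (H.NP2 one_ne_zero one_ne_zero (H.ρr 1 ▸ cj_of_comm a) (H.ρz 1 ▸ cj_of_comm b)).2, fun c a => ?_,
    fun _ => H.out, fun _ => H.outE, H.oddD⟩
  · obtain ⟨-, x, z, e⟩ := H.ya1 c m
    rw [H.ρU, H.ωa, e, ← H.ωa, ← H.ωs, ← H.ωr, ← H.ωv, ← map_mul, ← map_mul, ← map_mul]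
    exact ⟨_, _, congrArg H.ω (WW.ext (by simp [WW.mul_def, WW.vv]) (by simp [WW.mul_def, WW.vv])
      (by simp [WW.mul_def, WW.vv]) rfl rfl)⟩
  · rw [ρ_eq, ρ_eq, ← conj_mul, ← conj_mul, H.cf.hact, H.hs, cj_of_comm (H.rA _ H.hA).symm]
  · refine mem_normalizer_fintype fun x hx => (?_ : QQ _ _ ≤ (QQ _ _).comap (MulAut.conj y).toMonoidHom) hx
    refine sup_le ?_ (zpowers_le.2 ((t.cj H yW (comm_of_cj y1)).memQ H t.2.2.1 fm fc))
    rintro _ ⟨u, hu, rfl⟩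
    have k : ∀ u ∈ Q0, u.y = 0 → y * H.ρ u * y⁻¹ ∈ QQ H.ρ (y * H.ρ ⟨0, 1, 0, 0, 0⟩ * y⁻¹) := fun u hu h0 => by
      obtain ⟨u', a, -, e⟩ := H.NQm yW (comm_of_cj y1) hu h0
      exact mem_sup_left ⟨u', a, e.symm⟩
    rcases hu 0 with e | e <;> rw [tt0] at e
    · exact k u hu e
    · rw [← inv_mul_cancel_right u ⟨0, 1, 0, 0, 0⟩, map_mul, mem_comap, map_mul]
      exact mul_mem (k _ (mul_mem hu (by decide)) (by simp [PP.mul_def, PP.inv_def, e])) (mem_sup_right (mem_zpowers _))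
  · cases c
    exacts [absurd rfl hc, ⟨n1, H.AC H.n1A, by rw [H.ρU, H.n1act, H.ρz]; rfl⟩,
      ⟨h * (h * n1), H.AC (mul_mem H.hA (mul_mem H.hA H.n1A)), by
        rw [cj_mul, cj_mul, H.ρU, H.n1act, H.cf.hact, H.cf.hact, H.ρz]; rfl⟩,
      ⟨h * n1, H.AC (mul_mem H.hA H.n1A), by rw [cj_mul, H.ρU, H.n1act, H.cf.hact, H.ρz]; rfl⟩]
  · rw [H.ρr] at a
    refine mem_normalizer_fintype fun d hd => ?_
    have k := nor_cjK (H.norM one_ne_zero a) (H.dK hd)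
    obtain ⟨q, e⟩ := H.KR one_ne_zero k (cj_of_comm a ▸ comm_cj (mem_cen.1 (H.rC 1) d hd).symm c)
    refine mem_of_sq (by rw [← (SemiconjBy.conj_mk c d).orderOf_eq]; exact H.dodd hd) ?_
    rw [← inv_mul_cancel_left (r q) (c * d * c⁻¹), (mem_cen.1 (H.rC q) _ e).symm.inv_right.mul_mul_mul_comm,
      inv_eq_self (H.r2 q), H.r2, one_mul]
    exact mul_mem e e

end S3

end Cfsg.Agent.L4S
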