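import Cfsg.Agent.L4S.EDefs

/-! Finite facts on the models `PP`, `WW` and on `S₅`. -/

set_option autoImplicit false
set_option maxRecDepth 100000
set_option synthInstance.maxSize 4000

namespace Cfsg.Agent.L4S.E2

open PP Equiv Equiv.Perm
open F (fr)

theorem cj_pa : ∀ π : Perm (Fin 5), sign π = 1 → π * π = 1 →
    ∃ τ : Perm (Fin 5), (∃ m, τ * π * τ⁻¹ = pa m) ∧ sign τ = 1 := by decide +kernel

theorem sing : ∀ x y p q : F, x * y + p * q = 0 → (x = 0 ∧ y = 0 ∧ p = 0 ∧ q = 0) ∨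
    (∃ π : Perm (Fin 5), (∃ c, c ≠ 0 ∧ ∀ j, tt (π j) ⟨c, 0, 0, 0, 0⟩ = tt j ⟨x, y, p, q, 0⟩) ∧ sign π = 1) ∨
    ∃ π : Perm (Fin 5), (∀ j, tt (π j) (rr 1) = tt j ⟨x, y, p, q, 0⟩) ∧ sign π = 1 := by decide +kernel

theorem sing' : ∀ x p q : F, p * q = 0 → p ≠ 0 ∨ q ≠ 0 →
    ∃ π : Perm (Fin 5), (∀ j, tt (π j) (rr 1) = tt j ⟨x, 0, p, q, 0⟩) ∧ sign π = 1 := by decide +kernel

theorem eq_pa : ∀ π : Perm (Fin 5), π 0 = 0 → (∀ p, p ≠ 0 → ∃ x y p' q,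
    (∀ j, tt (π j) ⟨x, y, p', q, 0⟩ = tt j ⟨0, 0, p, p * p, 0⟩) ∧ x * y + (p' + p) * (q + p * p) = 0) →
      ∃ m, π = pa m := by decide +kernel

theorem pa_x : ∀ m x p x' y' p' q' : F, p ≠ 0 →
    (∀ j, tt (pa m j) ⟨x', y', p', q', 0⟩ = fr (tt j ⟨x, 0, p, p * p, 0⟩)) →
      (x' + x) * y' + (p' + p) * (q' + p * p) = 0 := by decide +kernel

theorem pa_y : ∀ m x y p q : F, m ≠ 0 → (∀ j, tt (pa m j) ⟨x, y, p, q, 0⟩ = tt j ⟨x, y, p, q, 0⟩) → y = 0 := by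
  decide +kernel

theorem pa_eq_one : ∀ m, pa m = 1 → m = 0 := by decide

theorem pa_zero : ∀ m, pa m 0 = 0 := by decide

theorem tt_z (i : Fin 5) (x y p q z : F) : tt i ⟨x, y, p, q, z⟩ = tt i ⟨x, y, p, q, 0⟩ := rfl

theorem tt_zz (i : Fin 5) (c : F) : tt i (zz c) = 0 := by simp [tt, bf, zz]

theorem tt_sv : ∀ i j, tt j (sv i) = 0 ↔ j = i := by decide

theorem sv_mem : ∀ i, sv i ∈ Q0 := by decide

theorem zz_mem (c : F) : zz c ∈ Q0 := fun i => Or.inl (tt_zz i c)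

theorem eq_of_tt {u u' : PP} (e : ∀ i, tt i u' = tt i u) : ∃ c, u' = u * zz c :=
  ⟨_, by rw [← tt_eq_zero (u⁻¹ * u') fun i => by rw [tt_mul, e]; exact F.add_self _, mul_inv_cancel_left]⟩

theorem bf_mem : ∀ x y p q x' y' p' q' : F, (⟨x, y, p, q, 0⟩ : PP) ∈ Q0 → (⟨x', y', p', q', 0⟩ : PP) ∈ Q0 →
    x * y' + y * x' + p * q' + q * p' = 0 ∨ x * y' + y * x' + p * q' + q * p' = 1 := by decide +kernel

theorem card_Q0 : Nat.card Q0 = 64 := by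
  rw [Nat.card_eq_fintype_card]; decide +kernel

theorem card_PP : Nat.card PP = 1024 := by rw [Nat.card_eq_fintype_card]; rfl

theorem pow4 (u : PP) : u ^ 4 = 1 := by
  rw [show u ^ 4 = u * u * (u * u) by simp [pow_succ, mul_assoc], sq_eq u, zz_mul, F.add_self]; rfl

theorem cen_of_bf : ∀ x y p q : F, (∀ i, tt i ⟨x, y, p, q, 0⟩ = 0 ∨ tt i ⟨x, y, p, q, 0⟩ = 1) →
    (∀ x' y' p' q' : F, bf ⟨x, y, p, q, 0⟩ ⟨x', y', p', q', 0⟩ = 0 ∨ bf ⟨x, y, p, q, 0⟩ ⟨x', y', p', q', 0⟩ = 1) →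
      x = 0 ∧ y = 0 ∧ p = 0 ∧ q = 0 := by decide +kernel

theorem card_fix1 : ∀ i j : Fin 5, i ≠ j → Fintype.card {u : PP // tt j u = tt i u} ≤ 256 := by decide +kernel

theorem card_fix2 : ∀ i j k l : Fin 5, i ≠ j → k ≠ l → k ≠ i → k ≠ j → l ≠ i → l ≠ j →
    Fintype.card {u : PP // tt j u = tt i u ∧ tt l u = tt k u} ≤ 64 := by decide +kernel

theorem two_pairs : ∀ π : Perm (Fin 5), π * π = 1 → π ≠ 1 → sign π = 1 →
    ∃ i k, i ≠ π i ∧ k ≠ π k ∧ k ≠ i ∧ k ≠ π i ∧ π k ≠ i ∧ π k ≠ π i := by decide +kernel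

/-- commutators in `WW` -/
def cx (a b : WW) : F := a.m * b.p + a.m * a.m * b.q + b.m * a.p + b.m * b.m * a.q
/-- commutators in `WW` -/
def cz (a b : WW) : F := a.q * b.p + a.m * b.q * b.q + b.q * a.p + b.m * a.q * a.q

theorem comm_iff (a b : WW) : a * b = b * a ↔ cx a b = 0 ∧ cz a b = 0 := by
  have : ∀ s t : F, s = t ↔ s + t = 0 := by decide
  simp only [WW.mul_def, WW.mk.injEq, add_comm b.p, add_comm b.q, add_comm b.m, true_and, cx, cz]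
  rw [this, this (a.z + b.z + _ + _)]
  refine and_congr (Eq.congr_left ?_) (Eq.congr_left ?_)
  · linear_combination (a.x + b.x) * F.two
  · linear_combination (a.z + b.z) * F.two

theorem wsq (a : WW) : a * a = ⟨0, 0, 0, a.m * a.p + a.m * a.m * a.q, a.q * a.p + a.m * a.q * a.q⟩ := by
  simp [WW.mul_def]

theorem wsq_z : ∀ p q m : F, m * p + m * m * q = 0 → q * p + m * q * q = 1 → m = 0 ∧ p ≠ 0 ∧ q = p * p := by decide

theorem w_trans : ∀ p q m p' q' m' : F, m ≠ 0 → m' ≠ 0 → m * p + m * m * q = 0 → m' * p' + m' * m' * q' = 0 →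
    ∃ c, cx ⟨p + c * m * m, q + c * m, m, 0, 0⟩ ⟨p', q', m', 0, 0⟩ = 0 ∧
      cz ⟨p + c * m * m, q + c * m, m, 0, 0⟩ ⟨p', q', m', 0, 0⟩ = 0 := by decide +kernel

end Cfsg.Agent.L4S.E2
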