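import Cfsg.Agent.L4S.Basic
import Cfsg.Agent.TT.XS

/-! Standard subgroups `L₃(4)`, the Suzuki case: models `2^{2+8}`, `2^{4+6}` and the local configurations. -/

set_option autoImplicit false
set_option synthInstance.maxSize 4000
set_option maxRecDepth 100000

namespace Cfsg.Agent.L4S

open Subgroup
open F (fr)

/-- the group `2^{2+8}`; it is mapped to `ψ (x, y, z) * r p * s q` -/
@[ext] structure PP where
  x : F
  y : F
  p : F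
  q : F
  z : F
  deriving DecidableEq

namespace PP

instance decAll (P : PP → Prop) [DecidablePred P] : Decidable (∀ u, P u) :=
  decidable_of_iff (∀ x y p q z, P ⟨x, y, p, q, z⟩) ⟨fun h u => h u.x u.y u.p u.q u.z, fun h _ _ _ _ _ => h _⟩

instance decEx (P : PP → Prop) [DecidablePred P] : Decidable (∃ u, P u) :=
  decidable_of_iff (∃ x y p q z, P ⟨x, y, p, q, z⟩)
    ⟨fun ⟨_, _, _, _, _, h⟩ => ⟨_, h⟩, fun ⟨u, h⟩ => ⟨u.x, u.y, u.p, u.q, u.z, h⟩⟩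

instance : Mul PP := ⟨fun a b => ⟨a.x + b.x, a.y + b.y, a.p + b.p, a.q + b.q, a.z + b.z + a.x * b.y + a.q * b.p⟩⟩
instance : One PP := ⟨⟨0, 0, 0, 0, 0⟩⟩
instance : Inv PP := ⟨fun a => ⟨a.x, a.y, a.p, a.q, a.z + a.x * a.y + a.q * a.p⟩⟩

theorem mul_def (a b : PP) :
    a * b = ⟨a.x + b.x, a.y + b.y, a.p + b.p, a.q + b.q, a.z + b.z + a.x * b.y + a.q * b.p⟩ := rfl
theorem one_def : (1 : PP) = ⟨0, 0, 0, 0, 0⟩ := rfl
theorem inv_def (a : PP) : a⁻¹ = ⟨a.x, a.y, a.p, a.q, a.z + a.x * a.y + a.q * a.p⟩ := rfl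

instance : Group PP := Group.ofLeftAxioms
  (fun a b c => by simp only [mul_def, PP.mk.injEq]; refine ⟨?_, ?_, ?_, ?_, ?_⟩ <;> ring)
  (by decide +kernel) (by decide +kernel)

instance : Fintype PP := Fintype.ofEquiv (F × F × F × F × F)
  ⟨fun p => ⟨p.1, p.2.1, p.2.2.1, p.2.2.2.1, p.2.2.2.2⟩, fun u => (u.x, u.y, u.p, u.q, u.z), fun _ => rfl, fun _ => rfl⟩

/-- the centre -/
def zz (c : F) : PP := ⟨0, 0, 0, 0, c⟩
/-- the elements of `R` -/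
def rr (p : F) : PP := ⟨0, 0, p, 0, 0⟩
/-- the commutator form -/
def bf (a b : PP) : F := a.x * b.y + a.y * b.x + a.p * b.q + a.q * b.p

/-- the five singular points whose involutions are not conjugate into `C(A)` -/
def sv : Fin 5 → PP
  | ⟨0, _⟩ => ⟨1, 0, 0, 0, 0⟩
  | ⟨1, _⟩ => ⟨0, 1, 0, 0, 0⟩
  | ⟨2, _⟩ => ⟨1, 1, 1, 1, 0⟩
  | ⟨3, _⟩ => ⟨1, 1, F.w, F.v, 0⟩
  | _ => ⟨1, 1, F.v, F.w, 0⟩

/-- five coordinates, of sum zero, which determine an element modulo the centre -/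
def tt (i : Fin 5) (u : PP) : F := bf u (sv i)

theorem conj_eq (a b : PP) : a * b * a⁻¹ = b * zz (bf a b) := by
  simp only [mul_def, inv_def, zz, bf, PP.mk.injEq]
  refine ⟨?_, ?_, ?_, ?_, ?_⟩
  · linear_combination a.x * F.two
  · linear_combination a.y * F.two
  · linear_combination a.p * F.two
  · linear_combination a.q * F.two
  · linear_combination (a.z + a.x * a.y + a.q * a.p) * F.two

theorem sq_eq (a : PP) : a * a = zz (a.x * a.y + a.p * a.q) := by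
  simp only [mul_def, zz, PP.mk.injEq, F.add_self, true_and]; ring

theorem tt_mul (i : Fin 5) (a b : PP) : tt i (a * b) = tt i a + tt i b := by simp only [tt, bf, mul_def]; ring

theorem tt_eq_zero : ∀ u : PP, (∀ i, tt i u = 0) → u = zz u.z := by decide +kernel

theorem zz_mul (c d : F) : zz c * zz d = zz (c + d) := by simp [zz, mul_def]

theorem zz_comm (c : F) (u : PP) : zz c * u = u * zz c := by simp [zz, mul_def, add_comm]

/-- the centraliser of `zz ω` in the extraspecial group -/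
def Q0 : Subgroup PP where
  carrier := {u | ∀ i, tt i u = 0 ∨ tt i u = 1}
  one_mem' := by decide +kernel
  mul_mem' := fun {a b} ha hb i => by
    rw [tt_mul]; rcases ha i with e | e <;> rcases hb i with e' | e' <;> simp [e, e']
  inv_mem' := fun {a} ha => ha

theorem mem_Q0 {u : PP} : u ∈ Q0 ↔ ∀ i, tt i u = 0 ∨ tt i u = 1 := Iff.rfl

instance (u : PP) : Decidable (u ∈ Q0) := decidable_of_iff _ mem_Q0.symm

end PP

/-- the group `2^{4+6}`; it is mapped to `r p * s q * (n1 * s m * n1⁻¹) * ψ (x, 0, z)` -/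
@[ext] structure WW where
  p : F
  q : F
  m : F
  x : F
  z : F
  deriving DecidableEq

namespace WW

instance decAll (P : WW → Prop) [DecidablePred P] : Decidable (∀ u, P u) :=
  decidable_of_iff (∀ p q m x z, P ⟨p, q, m, x, z⟩) ⟨fun h u => h u.p u.q u.m u.x u.z, fun h _ _ _ _ _ => h _⟩

instance decEx (P : WW → Prop) [DecidablePred P] : Decidable (∃ u, P u) :=
  decidable_of_iff (∃ p q m x z, P ⟨p, q, m, x, z⟩)
    ⟨fun ⟨_, _, _, _, _, h⟩ => ⟨_, h⟩, fun ⟨u, h⟩ => ⟨u.p, u.q, u.m, u.x, u.z, h⟩⟩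

instance : Mul WW := ⟨fun a b => ⟨a.p + b.p, a.q + b.q, a.m + b.m, a.x + b.x + a.m * b.p + a.m * a.m * b.q,
  a.z + b.z + a.q * b.p + a.m * b.q * b.q⟩⟩
instance : One WW := ⟨⟨0, 0, 0, 0, 0⟩⟩
instance : Inv WW := ⟨fun a => ⟨a.p, a.q, a.m, a.x + a.m * a.p + a.m * a.m * a.q, a.z + a.q * a.p + a.m * a.q * a.q⟩⟩

theorem mul_def (a b : WW) : a * b = ⟨a.p + b.p, a.q + b.q, a.m + b.m, a.x + b.x + a.m * b.p + a.m * a.m * b.q,
  a.z + b.z + a.q * b.p + a.m * b.q * b.q⟩ := rfl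
theorem one_def : (1 : WW) = ⟨0, 0, 0, 0, 0⟩ := rfl
theorem inv_def (a : WW) :
    a⁻¹ = ⟨a.p, a.q, a.m, a.x + a.m * a.p + a.m * a.m * a.q, a.z + a.q * a.p + a.m * a.q * a.q⟩ := rfl

instance : Group WW := Group.ofLeftAxioms
  (fun a b c => by
    simp only [mul_def, WW.mk.injEq]
    refine ⟨by ring, by ring, by ring, ?_, ?_⟩
    · linear_combination (a.m * b.m * c.q) * F.two
    · linear_combination (-(a.m * b.q * c.q)) * F.two)
  (by decide +kernel) (by decide +kernel)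

instance : Fintype WW := Fintype.ofEquiv (F × F × F × F × F)
  ⟨fun p => ⟨p.1, p.2.1, p.2.2.1, p.2.2.2.1, p.2.2.2.2⟩, fun u => (u.p, u.q, u.m, u.x, u.z), fun _ => rfl, fun _ => rfl⟩

end WW

open PP

/-- the identity or the Frobenius map -/
def fs (σ : Bool) (c : F) : F := cond σ (fr c) c

variable {G : Type*} [Group G]

/-- `n` normalises `P` and centralises `z`; it permutes the five points by `π` and is `σ`-semilinear -/
def Mv (ρ : PP →* G) (n : G) (π : Equiv.Perm (Fin 5)) (σ : Bool) : Prop :=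
  (∀ c, n * ρ (zz c) * n⁻¹ = ρ (zz (fs σ c))) ∧
    ∀ u, ∃ u', n * ρ u * n⁻¹ = ρ u' ∧ ∀ i, tt (π i) u' = fs σ (tt i u)

theorem Mv.mul {ρ : PP →* G} {n n' : G} {π π' : Equiv.Perm (Fin 5)} {σ σ' : Bool} (h : Mv ρ n π σ)
    (h' : Mv ρ n' π' σ') : Mv ρ (n * n') (π * π') (xor σ σ') := by
  have e : ∀ σ σ' c, fs (xor σ σ') c = fs σ (fs σ' c) := by decide
  refine ⟨fun c => by rw [cj_mul, h'.1, h.1, e], fun u => ?_⟩
  obtain ⟨u', e1, e2⟩ := h'.2 u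
  obtain ⟨u'', e3, e4⟩ := h.2 u'
  exact ⟨u'', by rw [cj_mul, e1, e3], fun i => by rw [Equiv.Perm.mul_apply, e4, e2, e]⟩

theorem Mv.nor {ρ : PP →* G} {n : G} {π : Equiv.Perm (Fin 5)} {σ : Bool} (h : Mv ρ n π σ) :
    n ∈ normalizer (ρ.range : Set G) :=
  have : Finite (ρ.range : Set G) := Set.finite_range ρ
  mem_normalizer_fintype (by rintro _ ⟨x, rfl⟩; obtain ⟨u, e, -⟩ := h.2 x; exact ⟨_, e.symm⟩)

theorem Mv.comm {ρ : PP →* G} {n : G} {π : Equiv.Perm (Fin 5)} {σ : Bool} (h : Mv ρ n π σ) :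
    Commute n (ρ (zz 1)) := comm_of_cj ((h.1 1).trans (by cases σ <;> rfl))

theorem Mv.inv {ρ : PP →* G} (hρ : Function.Injective ρ) {n : G} {π : Equiv.Perm (Fin 5)} {σ : Bool}
    (h : Mv ρ n π σ) : Mv ρ n⁻¹ π⁻¹ σ := by
  have e : ∀ σ c, fs σ (fs σ c) = c := by decide
  refine ⟨fun c => by rw [← e σ c, ← h.1, e]; group, fun u => ?_⟩
  obtain ⟨u', e1⟩ := nor_cjA (inv_mem h.nor) ⟨u, rfl⟩
  obtain ⟨u'', e2, e3⟩ := h.2 u'
  obtain rfl : u'' = u := hρ (by rw [← e2, e1]; group)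
  exact ⟨u', e1.symm, fun i => by rw [← e σ (tt _ u'), ← e3]; simp⟩

theorem mv_inn (ρ : PP →* G) (a : PP) : Mv ρ (ρ a) 1 false :=
  ⟨fun c => by rw [← map_inv, ← map_mul, ← map_mul, ← zz_comm, mul_inv_cancel_right]; rfl,
    fun u => ⟨a * u * a⁻¹, by simp, fun i => by rw [conj_eq, tt_mul]; simp [tt, bf, zz, fs]⟩⟩

theorem mv_of_comm {ρ : PP →* G} {d : G} (h : ∀ u, Commute d (ρ u)) : Mv ρ d 1 false :=
  ⟨fun _ => cj_of_comm (h _), fun u => ⟨u, cj_of_comm (h u), fun _ => rfl⟩⟩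

theorem Mv.uniq {ρ : PP →* G} (hρ : Function.Injective ρ) {n : G} {π π' : Equiv.Perm (Fin 5)} {σ σ' : Bool}
    (h : Mv ρ n π σ) (h' : Mv ρ n π' σ') : π = π' ∧ σ = σ' := by
  obtain rfl : σ = σ' := by
    have := hρ ((h.1 F.w).symm.trans (h'.1 F.w))
    revert this; cases σ <;> cases σ' <;> decide
  refine ⟨?_, rfl⟩
  have h2 := (h.inv hρ).mul h'
  rw [inv_mul_cancel, Bool.xor_self] at h2
  refine inv_mul_eq_one.1 (Equiv.ext fun i => ?_)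
  obtain ⟨u, e1, e2⟩ := h2.2 (sv i)
  obtain rfl : u = sv i := hρ (by rw [← e1]; simp)
  exact (by decide : ∀ i j, tt j (sv i) = fs false (tt i (sv i)) → j = i) i _ (e2 i)

/-- the permutation of the five points induced by `n1 * s m * n1⁻¹` -/
def pa : F → Equiv.Perm (Fin 5)
  | F.o => 1
  | F.i => Equiv.swap 1 2 * Equiv.swap 3 4
  | F.w => Equiv.swap 1 4 * Equiv.swap 2 3
  | F.v => Equiv.swap 1 3 * Equiv.swap 2 4

/-- the extraspecial group of order `2 ^ 7` -/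
def QQ (ρ : PP →* G) (f : G) : Subgroup G := Q0.map ρ ⊔ zpowers f

/-- The local configuration: `P = ρ.range`, `W = ω.range`, `z = ρ (zz 1)`, `z' = ρ (zz ω)`. -/
structure St4 (A : Subgroup G) (ρ : PP →* G) (ω : WW →* G) (D : Subgroup G) (h f y : G) : Prop where
  rinj : Function.Injective ρ
  winj : Function.Injective ω
  rw : ∀ x p q z, ρ ⟨x, 0, p, q, z⟩ = ω ⟨p, q, 0, x, z⟩
  odd : ∀ d ∈ D, Odd (orderOf d)
  rc : ∀ u, ρ u ∈ centralizer (D : Set G)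
  wc : ∀ w, ω w ∈ centralizer (D : Set G)
  hc : h ∈ centralizer (D : Set G)
  fc : f ∈ centralizer (D : Set G)
  yc : y ∈ centralizer (D : Set G)
  mv : ∀ n ∈ normalizer (ρ.range : Set G), Commute n (ρ (zz 1)) → ∃ π σ, Mv ρ n π σ
  ker : ∀ n, Mv ρ n 1 false → ∃ u, ∃ d ∈ D, n = ρ u * d
  a5 : ∀ π, Equiv.Perm.sign π = 1 → ∃ n ∈ centralizer (D : Set G), Mv ρ n π false
  amv : ∀ m, Mv ρ (ω ⟨0, 0, m, 0, 0⟩) (pa m) false
  ya : ∀ c m, ∃ x z, ρ ⟨0, c, 0, 0, 0⟩ * ω ⟨0, 0, m, 0, 0⟩ * (ρ ⟨0, c, 0, 0, 0⟩)⁻¹ = ω ⟨c * m * m, c * m, m, x, z⟩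
  hP : ∀ u, h * ρ u * h⁻¹ = ρ ⟨F.v * u.x, F.v * u.y, u.p, F.w * u.q, F.w * u.z⟩
  fsq : f * f = 1
  fmv : Mv ρ f 1 true
  fW : f ∈ normalizer (ω.range : Set G)
  fy : f = y * ρ ⟨0, 1, 0, 0, 0⟩ * y⁻¹
  yW : y ∈ normalizer (ω.range : Set G)
  yz : Commute y (ρ (zz 1))
  yz' : y * ρ (zz F.w) * y⁻¹ = ρ ⟨1, 0, 0, 0, 0⟩
  yQ : y ∈ normalizer (QQ ρ f : Set G)
  nw : ∀ n ∈ normalizer (ω.range : Set G), Commute n (ρ (zz 1)) → Commute n (ρ (zz F.w)) →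
    n ∈ normalizer (ρ.range : Set G)
  rD : ∀ p, p ≠ 0 → IsD A (ρ (rr p))
  nD : ¬ IsD A (ρ (zz 1))
  xz : ∀ c, c ≠ 0 → ∃ k ∈ centralizer (D : Set G), k * ρ ⟨c, 0, 0, 0, 0⟩ * k⁻¹ = ρ (zz 1)
  cr : ∀ c, Commute c (ρ (rr 1)) → Commute c (ρ (zz 1)) → c ∈ normalizer (ρ.range : Set G)
  crD : ∀ c, Commute c (ρ (rr 1)) → c ∈ normalizer (D : Set G)
  out : ∀ i, Mv ρ i (Equiv.swap 0 1) false → i * i = 1 → (∀ p, Commute i (ρ (rr p))) → ¬ IsD A i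
  outE : ∀ n, Mv ρ n (Equiv.swap 0 1) false →
    ∃ i, Mv ρ i (Equiv.swap 0 1) false ∧ i * i = 1 ∧ ∀ p, Commute i (ρ (rr p))
  oddD : ∀ O : Subgroup G, Odd (Nat.card O) → O ≤ centralizer {ρ (zz 1)} →
    ρ.range ≤ normalizer (O : Set G) → O ≤ D

/-- A Sylow 2-subgroup `T` of `G` and the fusion of its involutions. -/
structure St5 (A : Subgroup G) (ρ : PP →* G) (ω : WW →* G) (D : Subgroup G) (h f y : G) (T : Subgroup G) : Prop
    extends St4 A ρ ω D h f y where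
  xs : TT.XS (QQ ρ f) (ρ (zz 1))
  card : Nat.card (QQ ρ f) = 128
  memQ : ∀ x, x ∈ QQ ρ f ↔ ∃ u ∈ Q0, x = ρ u ∨ x = f * ρ u
  nq : ∀ n π σ, Mv ρ n π σ → n ∈ normalizer (QQ ρ f : Set G) ⊓ normalizer (D : Set G)
  chq : ∀ n π σ, Mv ρ n π σ → (∃ k, n ^ 2 ^ k = 1) →
    (∀ i, n * ρ (sv i) * n⁻¹ = ρ (sv i) ∨ n * ρ (sv i) * n⁻¹ = ρ (sv i) * ρ (zz 1)) → n ∈ QQ ρ f
  two : IsPGroup 2 T
  syl : ¬ 2 ∣ T.index
  tmv : ∀ t ∈ T, ∃ π σ, Mv ρ t π σ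
  pT : ρ.range ≤ T
  fT : f ∈ T
  uf : ∀ c, Commute c (ρ (zz 1)) → c * ρ (rr 1) * c⁻¹ ∈ T → c ∈ normalizer (QQ ρ f : Set G)
  star : ∀ i ∈ T, (i * i = 1 ∨ i * i = ρ (zz 1)) → ∃ k ∈ normalizer (QQ ρ f : Set G), Commute k (ρ (zz 1)) ∧
    (i * (k * ρ (rr 1) * k⁻¹) * i⁻¹ = k * ρ (rr 1) * k⁻¹ ∨
      i * (k * ρ (rr 1) * k⁻¹) * i⁻¹ = k * ρ (rr 1) * k⁻¹ * ρ (zz 1))
  cls : ∀ i ∈ T, i * i = 1 → i ≠ 1 → ∃ k ∈ normalizer (D : Set G),
    k * i * k⁻¹ = ρ (rr 1) ∨ k * i * k⁻¹ = ρ (zz 1)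

end Cfsg.Agent.L4S
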